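import Cfsg.Agent.H67.L33.Simple
import Cfsg.Agent.M24X.L33

set_option autoImplicit false

/-!
# Recognition of PSL(3, 3) and M11 by involution centralizers GL(2, 3) (helper67)
-/

namespace Cfsg.Agent.H67.L33

open Subgroup Cfsg Matrix

universe u v

variable {G : Type u} [Group G]

theorem psl_hyp {F : Type v} [Field F] [Fintype F] (hF : Fintype.card F = 3) :
    Hyp (ProjectiveSpecialLinearGroup (Fin 3) F) := by
  classical
  obtain ⟨-, h1, h2, h3⟩ := M24X.psl_data hF
  exact mk_hyp (ClassBase.psl_fin_simple 3 le_rfl) h3 h1 (fun x hx => by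
    obtain ⟨e⟩ := h2 x hx
    exact exists_par e)

theorem Hyp.iso {H : Type v} [Group H] [Finite G] [Finite H] (h1 : Hyp G) (h2 : Hyp H) : Nonempty (G ≃* H) := by
  obtain ⟨e⟩ := h1.nonempty_iso
  obtain ⟨e'⟩ := h2.nonempty_iso
  exact ⟨e.trans e'.symm⟩

theorem centralizer_gl23 [Finite G] (hO : Cfsg.pResidual 2 G = ⊤) (t : G) (ht : orderOf t = 2)
    (hC : Nonempty (↥(Subgroup.centralizer ({t} : Set G)) ≃* GL (Fin 2) (ZMod 3))) :
    (∃ (F : Type) (_ : Field F) (_ : Fintype F), Fintype.card F = 3 ∧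
      Nonempty (G ≃* Matrix.ProjectiveSpecialLinearGroup (Fin 3) F)) ∨ Cfsg.Spor.IsoM11 G := by
  obtain ⟨e⟩ := hC
  have h1 := one_class hO ht e
  obtain ⟨P⟩ := exists_par e
  have h2 := card_mod P ht
  have hcent : ∀ x : G, orderOf x = 2 → Nonempty (Par x) := by
    intro x hx
    obtain ⟨g, hg⟩ := isConj_iff.mp (h1 t x ht hx)
    obtain ⟨c⟩ := M24X.centralizer_conj t g
    rw [hg] at c
    exact exists_par (c.symm.trans e)
  haveI hs := simple_of h1 hcent h2
  have hnc : ¬ IsMulCommutative G := by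
    apply H17.not_comm_of_not_prime
    intro hp
    have h3 : 2 ∣ Nat.card G := by omega
    have h4 := (Nat.prime_dvd_prime_iff_eq Nat.prime_two hp).mp h3
    omega
  have hperf := H17.commutator_eq_top (G := G) hnc
  rcases order_main hperf ht e with h | h
  · left
    haveI : Fact (Nat.Prime 3) := ⟨Nat.prime_three⟩
    exact ⟨ZMod 3, inferInstance, inferInstance, ZMod.card 3,
      (mk_hyp hs h h1 hcent).iso (psl_hyp (F := ZMod 3) (ZMod.card 3))⟩
  · right
    exact M11.isoM11 h

end Cfsg.Agent.H67.L33
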