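import Cfsg.Agent.H67.L33.Vec3

set_option autoImplicit false

/-!
# The degree equations for an involution centralizer GL(2, 3) (helper67)
-/

namespace Cfsg.Agent.H67.L33

variable {I : Type*} [Fintype I] [DecidableEq I]

theorem sum_combR (a b c : ℤ) (p q r : I) (w : I → ℝ) :
    ∑ i, ((a * D p i + b * D q i + c * D r i : ℤ) : ℝ) * w i = a * w p + b * w q + c * w r := by
  have h : ∀ (p i : I), ((D p i : ℤ) : ℝ) * w i = if i = p then w i else 0 := by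
    intro p i; unfold D; split_ifs <;> simp
  have : ∀ i, ((a * D p i + b * D q i + c * D r i : ℤ) : ℝ) * w i =
      a * (if i = p then w i else 0) + b * (if i = q then w i else 0) + c * (if i = r then w i else 0) := by
    intro i
    rw [← h p i, ← h q i, ← h r i]; push_cast; ring
  simp only [this, Finset.sum_add_distrib, ← Finset.mul_sum]
  simp

/-- orthogonality data -/
structure Orth (T F U V S : I → ℤ) : Prop where
  TT : ∑ i, T i * T i = 48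
  FF : ∑ i, F i * F i = 8
  UU : ∑ i, U i * U i = 4
  VV : ∑ i, V i * V i = 2
  SS : ∑ i, S i * S i = 6
  TF : ∑ i, T i * F i = 0
  TU : ∑ i, T i * U i = 0
  TV : ∑ i, T i * V i = 0
  TS : ∑ i, T i * S i = 0
  FU : ∑ i, F i * U i = 0
  FV : ∑ i, F i * V i = 0
  FS : ∑ i, F i * S i = 0
  UV : ∑ i, U i * V i = 0
  US : ∑ i, U i * S i = 0
  VS : ∑ i, V i * S i = 0

omit [DecidableEq I] in
/-- bilinear expansion -/
theorem Orth.expand {T F U V S : I → ℤ} (h : Orth T F U V S) (a1 a2 a3 a4 a5 b1 b2 b3 b4 b5 : ℤ) :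
    ∑ i, (a1 * T i + a2 * F i + a3 * U i + a4 * V i + a5 * S i) * (b1 * T i + b2 * F i + b3 * U i + b4 * V i + b5 * S i) =
      48 * a1 * b1 + 8 * a2 * b2 + 4 * a3 * b3 + 2 * a4 * b4 + 6 * a5 * b5 := by
  have e : ∀ i, (a1 * T i + a2 * F i + a3 * U i + a4 * V i + a5 * S i) * (b1 * T i + b2 * F i + b3 * U i + b4 * V i + b5 * S i) =
      (a1 * b1) * (T i * T i) + (a2 * b2) * (F i * F i) + (a3 * b3) * (U i * U i) + (a4 * b4) * (V i * V i) + (a5 * b5) * (S i * S i) +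
      (a1 * b2 + a2 * b1) * (T i * F i) + (a1 * b3 + a3 * b1) * (T i * U i) + (a1 * b4 + a4 * b1) * (T i * V i) +
      (a1 * b5 + a5 * b1) * (T i * S i) + (a2 * b3 + a3 * b2) * (F i * U i) + (a2 * b4 + a4 * b2) * (F i * V i) +
      (a2 * b5 + a5 * b2) * (F i * S i) + (a3 * b4 + a4 * b3) * (U i * V i) + (a3 * b5 + a5 * b3) * (U i * S i) +
      (a4 * b5 + a5 * b4) * (V i * S i) := by intro i; ring
  simp only [e, Finset.sum_add_distrib, ← Finset.mul_sum, h.TT, h.FF, h.UU, h.VV, h.SS, h.TF, h.TU, h.TV, h.TS, h.FU, h.FV,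
    h.FS, h.UV, h.US, h.VS]
  ring

omit [DecidableEq I] in
theorem Orth.gram {T F U V S : I → ℤ} (h : Orth T F U V S) {x y : I → ℤ} (n m : ℤ) (c : ℤ)
    (a1 a2 a3 a4 a5 b1 b2 b3 b4 b5 : ℤ)
    (hx : ∀ i, n * x i = a1 * T i + a2 * F i + a3 * U i + a4 * V i + a5 * S i)
    (hy : ∀ i, m * y i = b1 * T i + b2 * F i + b3 * U i + b4 * V i + b5 * S i) (hn : n * m ≠ 0)
    (hc : 48 * a1 * b1 + 8 * a2 * b2 + 4 * a3 * b3 + 2 * a4 * b4 + 6 * a5 * b5 = n * m * c) : ∑ i, x i * y i = c := by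
  have h1 := h.expand a1 a2 a3 a4 a5 b1 b2 b3 b4 b5
  simp only [← hx, ← hy] at h1
  have h2 : ∑ i, n * x i * (m * y i) = n * m * ∑ i, x i * y i := by
    rw [Finset.mul_sum]; exact Finset.sum_congr rfl fun i _ => by ring
  rw [h2, hc] at h1
  exact mul_left_cancel₀ hn h1

theorem sum_lin {T F U V S d : I → ℤ} {x : I → ℤ} (n : ℤ) (a1 a2 a3 a4 a5 : ℤ)
    (hT : ∑ i, T i * d i = 0) (hF : ∑ i, F i * d i = 0) (hU : ∑ i, U i * d i = 0) (hV : ∑ i, V i * d i = 0)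
    (hS : ∑ i, S i * d i = 0) (hx : ∀ i, n * x i = a1 * T i + a2 * F i + a3 * U i + a4 * V i + a5 * S i) (hn : n ≠ 0) :
    ∑ i, x i * d i = 0 := by
  have h1 : n * ∑ i, x i * d i = 0 := by
    rw [Finset.mul_sum]
    have : ∀ i, n * (x i * d i) = a1 * (T i * d i) + a2 * (F i * d i) + a3 * (U i * d i) + a4 * (V i * d i) + a5 * (S i * d i) := by
      intro i; rw [← mul_assoc, hx i]; ring
    simp only [this, Finset.sum_add_distrib, ← Finset.mul_sum, hT, hF, hU, hV, hS]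
    ring
  exact (mul_eq_zero.mp h1).resolve_left hn

/-- the degree equations -/
theorem table {T F U V S d : I → ℤ} {o : I} (hd : ∀ i, 0 < d i) (hdo : d o = 1)
    (h2 : ∀ i, (2 : ℤ) ∣ F i - U i) (h4 : ∀ i, (4 : ℤ) ∣ T i - F i + 2 * V i) (h3 : ∀ i, (3 : ℤ) ∣ T i - S i)
    (hO : Orth T F U V S) (hT : ∑ i, T i * d i = 0) (hF : ∑ i, F i * d i = 0) (hU : ∑ i, U i * d i = 0)
    (hV : ∑ i, V i * d i = 0) (hS : ∑ i, S i * d i = 0) (oT : T o = 1) (oF : F o = 1) (oU : U o = 1) (oV : V o = 0)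
    (oS : S o = 1) :
    ∃ (e δ μ : ℤ) (p q r s τ : I), e ^ 2 = 1 ∧ δ ^ 2 = 1 ∧ μ ^ 2 = 1 ∧
      (∀ i, F i + U i = 2 * D o i + 2 * e * D p i + (-2 * e) * D q i) ∧
      (∀ i, T i + 3 * U i + 2 * S i = 6 * D o i + 6 * δ * D r i + (-6 * δ) * D s i) ∧
      (∀ i, F i - U i = 2 * e * D p i + 2 * δ * D s i + 2 * μ * D τ i) ∧
      T p ^ 2 = 4 ∧ T q ^ 2 = 9 ∧ T r ^ 2 = 16 ∧ T s ^ 2 = 9 ∧ T τ ^ 2 = 1 ∧
      d q = d p + e ∧ d s = d r + δ ∧ e * d p + δ * d s + μ * d τ = 0 ∧ τ ≠ o := by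
  choose g5 hg5 using h2
  choose j hj using h3
  choose k hk using h4
  obtain ⟨l1, hl1d⟩ : ∃ l1 : I → ℤ, ∀ i, l1 i = V i := ⟨_, fun _ => rfl⟩
  obtain ⟨l3, hl3d⟩ : ∃ l3 : I → ℤ, ∀ i, l3 i = g5 i + U i := ⟨_, fun _ => rfl⟩
  obtain ⟨l2, hl2d⟩ : ∃ l2 : I → ℤ, ∀ i, l2 i = j i - k i := ⟨_, fun _ => rfl⟩
  obtain ⟨l4, hl4d⟩ : ∃ l4 : I → ℤ, ∀ i, l4 i = l3 i - V i + 2 * k i - j i := ⟨_, fun _ => rfl⟩
  have q1 : ∀ i, 1 * l1 i = 0 * T i + 0 * F i + 0 * U i + 1 * V i + 0 * S i := fun i => by rw [hl1d i]; ring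
  have q3 : ∀ i, 2 * l3 i = 0 * T i + 1 * F i + 1 * U i + 0 * V i + 0 * S i := fun i => by
    rw [hl3d i]; linear_combination -hg5 i
  have q5 : ∀ i, 2 * g5 i = 0 * T i + 1 * F i + (-1) * U i + 0 * V i + 0 * S i := fun i => by
    linear_combination -hg5 i
  have q2 : ∀ i, 12 * l2 i = 1 * T i + 3 * F i + 0 * U i + (-6) * V i + (-4) * S i := fun i => by
    rw [hl2d i]; linear_combination (-4) * hj i + 3 * hk i
  have q4 : ∀ i, 6 * l4 i = 1 * T i + 0 * F i + 3 * U i + 0 * V i + 2 * S i := fun i => by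
    rw [hl4d i, hl3d i]; linear_combination (-3) * hg5 i + 2 * hj i - 3 * hk i
  have vT : ∀ i, T i = 2 * l1 i + 4 * l2 i - 3 * l3 i + 4 * l4 i + g5 i := by
    intro i
    have a1 := q1 i; have a2 := q2 i; have a3 := q3 i; have a4 := q4 i; have a5 := q5 i
    linarith
  have G11 := hO.gram 1 1 2 _ _ _ _ _ _ _ _ _ _ q1 q1 (by norm_num) (by norm_num)
  have G22 := hO.gram 12 12 2 _ _ _ _ _ _ _ _ _ _ q2 q2 (by norm_num) (by norm_num)
  have G33 := hO.gram 2 2 3 _ _ _ _ _ _ _ _ _ _ q3 q3 (by norm_num) (by norm_num)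
  have G44 := hO.gram 6 6 3 _ _ _ _ _ _ _ _ _ _ q4 q4 (by norm_num) (by norm_num)
  have G55 := hO.gram 2 2 3 _ _ _ _ _ _ _ _ _ _ q5 q5 (by norm_num) (by norm_num)
  have G12 := hO.gram 1 12 (-1) _ _ _ _ _ _ _ _ _ _ q1 q2 (by norm_num) (by norm_num)
  have G13 := hO.gram 1 2 0 _ _ _ _ _ _ _ _ _ _ q1 q3 (by norm_num) (by norm_num)
  have G14 := hO.gram 1 6 0 _ _ _ _ _ _ _ _ _ _ q1 q4 (by norm_num) (by norm_num)
  have G15 := hO.gram 1 2 0 _ _ _ _ _ _ _ _ _ _ q1 q5 (by norm_num) (by norm_num)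
  have G23 := hO.gram 12 2 1 _ _ _ _ _ _ _ _ _ _ q2 q3 (by norm_num) (by norm_num)
  have G24 := hO.gram 12 6 0 _ _ _ _ _ _ _ _ _ _ q2 q4 (by norm_num) (by norm_num)
  have G25 := hO.gram 12 2 1 _ _ _ _ _ _ _ _ _ _ q2 q5 (by norm_num) (by norm_num)
  have G34 := hO.gram 2 6 1 _ _ _ _ _ _ _ _ _ _ q3 q4 (by norm_num) (by norm_num)
  have G35 := hO.gram 2 2 1 _ _ _ _ _ _ _ _ _ _ q3 q5 (by norm_num) (by norm_num)
  have G45 := hO.gram 6 2 (-1) _ _ _ _ _ _ _ _ _ _ q4 q5 (by norm_num) (by norm_num)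
  have D1 := sum_lin 1 _ _ _ _ _ hT hF hU hV hS q1 (by norm_num)
  have D2 := sum_lin 12 _ _ _ _ _ hT hF hU hV hS q2 (by norm_num)
  have D3 := sum_lin 2 _ _ _ _ _ hT hF hU hV hS q3 (by norm_num)
  have D4 := sum_lin 6 _ _ _ _ _ hT hF hU hV hS q4 (by norm_num)
  have D5 := sum_lin 2 _ _ _ _ _ hT hF hU hV hS q5 (by norm_num)
  have o1 : l1 o = 0 := by rw [hl1d, oV]
  have o3 : l3 o = 1 := by have := q3 o; rw [oF, oU] at this; linarith
  have o5 : g5 o = 0 := by have := q5 o; rw [oF, oU] at this; linarith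
  have o2 : l2 o = 0 := by have := q2 o; rw [oT, oF, oV, oS] at this; linarith
  have o4 : l4 o = 1 := by have := q4 o; rw [oT, oU, oS] at this; linarith
  simp only [← pow_two] at G11 G22 G33 G44 G55
  clear hO hT hF hU hV hS hj hk hg5 q1 q2 hl1d hl2d hl3d hl4d
  obtain ⟨e, p1, p2, p3, he, h12, h13, h23, f1, f2, d12, d23⟩ := three hd G11 G22 G12 D1 D2
  obtain ⟨op1, op2, op3, q, qo, qp1, qp2, qp3, f3, dq⟩ := fourth hd hdo e p1 p2 p3 he h12 h13 h23 f1 f2 d12 d23 o1 o2 o3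
    G33 G13 G23 D3
  obtain ⟨r, s, rs, ro, rp1, rp2, rp3, rq, so, sp1, sp2, sp3, sq, f4, ds⟩ := fifth hd hdo e p1 p2 p3 q he h12 h13 h23 f1 f2
    op1 op2 op3 qo qp1 qp2 qp3 f3 o4 G44 G14 G24 G34 D4
  obtain ⟨μ, τ, hμ, τo, τ1, τ2, τ3, τq, τr, τs, hcase⟩ := sixth hd hdo e p1 p2 p3 q r s he h12 h13 h23 f1 f2
    op1 op2 op3 qo qp1 qp2 qp3 f3 rs ro rp1 rp2 rp3 rq so sp1 sp2 sp3 sq f4 o5 G55 G15 G25 G35 G45 D5
  have z : ∀ {x y : I}, x ≠ y → D y x = 0 := fun h => D_ne h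
  rcases hcase with f5 | f5
  · have h8 : ∑ i, g5 i * d i = e * d p1 + 1 * d s + μ * d τ := by
      simp only [f5]; exact sum_comb3 _ _ _ _ _ _ _
    rw [D5] at h8
    refine ⟨e, 1, μ, p1, q, r, s, τ, he, by norm_num, hμ, ?_, ?_, ?_, ?_, ?_, ?_, ?_, ?_, dq, by rw [ds], by linarith, τo⟩
    · intro i
      have a3 := q3 i
      rw [f3 i] at a3
      linarith
    · intro i
      have a4 := q4 i
      rw [f4 i] at a4
      linarith
    · intro i
      have a5 := q5 i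
      rw [f5 i] at a5
      linarith
    · rw [vT p1, f1, f2, f3, f4, f5, D_self, z h12, z h13, z op1.symm, z qp1.symm, z rp1.symm, z sp1.symm, z τ1.symm]
      linear_combination 4 * he
    · rw [vT q, f1, f2, f3, f4, f5, D_self, z qp1, z qp2, z qp3, z qo, z rq.symm, z sq.symm, z τq.symm]
      linear_combination 9 * he
    · rw [vT r, f1, f2, f3, f4, f5, D_self, z rp1, z rp2, z rp3, z ro, z rq, z rs, z τr.symm]
      norm_num
    · rw [vT s, f1, f2, f3, f4, f5, D_self, z sp1, z sp2, z sp3, z so, z sq, z rs.symm, z τs.symm]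
      norm_num
    · rw [vT τ, f1, f2, f3, f4, f5, D_self, z τ1, z τ2, z τ3, z τo, z τq, z τr, z τs]
      linear_combination hμ
  · have h8 : ∑ i, g5 i * d i = e * d p1 + (-1) * d r + μ * d τ := by
      simp only [f5]; exact sum_comb3 _ _ _ _ _ _ _
    rw [D5] at h8
    refine ⟨e, -1, μ, p1, q, s, r, τ, he, by norm_num, hμ, ?_, ?_, ?_, ?_, ?_, ?_, ?_, ?_, dq, by rw [ds]; ring, by linarith, τo⟩
    · intro i
      have a3 := q3 i
      rw [f3 i] at a3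
      linarith
    · intro i
      have a4 := q4 i
      rw [f4 i] at a4
      linarith
    · intro i
      have a5 := q5 i
      rw [f5 i] at a5
      linarith
    · rw [vT p1, f1, f2, f3, f4, f5, D_self, z h12, z h13, z op1.symm, z qp1.symm, z rp1.symm, z sp1.symm, z τ1.symm]
      linear_combination 4 * he
    · rw [vT q, f1, f2, f3, f4, f5, D_self, z qp1, z qp2, z qp3, z qo, z rq.symm, z sq.symm, z τq.symm]
      linear_combination 9 * he
    · rw [vT s, f1, f2, f3, f4, f5, D_self, z sp1, z sp2, z sp3, z so, z sq, z rs.symm, z τs.symm]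
      norm_num
    · rw [vT r, f1, f2, f3, f4, f5, D_self, z rp1, z rp2, z rp3, z ro, z rq, z rs, z τr.symm]
      norm_num
    · rw [vT τ, f1, f2, f3, f4, f5, D_self, z τ1, z τ2, z τ3, z τo, z τq, z τr, z τs]
      linear_combination hμ

end Cfsg.Agent.H67.L33
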