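import Cfsg.Agent.H67.M11.Eta

set_option autoImplicit false

/-!
# Character values on elements of order 8 conjugate to their cube and on real elements of order 6 (helper67)
-/

namespace Cfsg.Agent.H67.L33

open Subgroup Cfsg Cfsg.Agent.CharBase
open scoped ComplexConjugate

universe u

variable {G : Type u} [Group G]

/-- primitive 8th root of unity -/
noncomputable def z8 : ℂ := Complex.exp (2 * Real.pi * Complex.I / 8)

theorem z8_prim : IsPrimitiveRoot z8 8 := by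
  have := Complex.isPrimitiveRoot_exp 8 (by norm_num)
  rw [Nat.cast_ofNat] at this
  exact this

theorem z8_four : z8 ^ 4 = -1 := by
  have h1 : (z8 ^ 4) ^ 2 = 1 := by rw [← pow_mul]; exact z8_prim.pow_eq_one
  have h2 : z8 ^ 4 ≠ 1 := z8_prim.pow_ne_one_of_pos_of_lt (by norm_num) (by norm_num)
  have : (z8 ^ 4 - 1) * (z8 ^ 4 + 1) = 0 := by linear_combination h1
  rcases mul_eq_zero.mp this with h | h
  · exact absurd (by linear_combination h) h2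
  · linear_combination h

/-- square root of -2 -/
noncomputable def ww : ℂ := z8 + z8 ^ 3

theorem ww_sq : ww ^ 2 = -2 := by
  unfold ww
  have h := z8_four
  linear_combination (2 + z8 ^ 2) * h

theorem z8_conj : conj z8 = - z8 ^ 3 := by
  have h1 : conj z8 = z8⁻¹ := by
    rw [Complex.inv_def]
    have h2 : Complex.normSq z8 = 1 := by
      rw [Complex.normSq_eq_norm_sq, Complex.norm_eq_one_of_pow_eq_one z8_prim.pow_eq_one (by norm_num)]; norm_num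
    rw [h2]; simp
  rw [h1, inv_eq_iff_eq_inv, eq_comm]
  apply inv_eq_of_mul_eq_one_left
  have h := z8_four
  linear_combination (-1 : ℂ) * h

theorem ww_conj : conj ww = - ww := by
  unfold ww
  rw [map_add, map_pow, z8_conj]
  have h := z8_four
  linear_combination (z8 - z8 ^ 5) * h

theorem ww_im : ww.im ≠ 0 := by
  intro h
  have h1 : conj ww = ww := Complex.conj_eq_iff_im.mpr h
  rw [ww_conj] at h1
  have h3 : ww = 0 := by linear_combination (-1 / 2 : ℂ) * h1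
  have h2 := ww_sq
  rw [h3] at h2
  norm_num at h2

theorem ww_indep {a b : ℤ} (h : (a : ℂ) + b * ww = 0) : a = 0 ∧ b = 0 := by
  have h1 := congrArg Complex.im h
  simp only [Complex.add_im, Complex.intCast_im, Complex.mul_im, Complex.intCast_re, zero_mul, add_zero,
    Complex.zero_im, zero_add] at h1
  have hb : (b : ℝ) = 0 := by
    rcases mul_eq_zero.mp h1 with h2 | h2
    · exact h2
    · exact absurd h2 ww_im
  have hb' : b = 0 := by exact_mod_cast hb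
  subst hb'
  simp only [Int.cast_zero, zero_mul, add_zero] at h
  exact ⟨by exact_mod_cast h, rfl⟩

theorem vals8 [Finite G] {χ : G → ℂ} (hχ : IsCharacter G χ) {a b : G} (ha : a ^ 8 = 1) (hb : b * a * b⁻¹ = a ^ 3) :
    ∃ T F U V : ℤ, χ (a ^ 4) = T ∧ χ (a ^ 2) = F ∧ χ a = U + V * ww ∧ χ (a ^ 5) = U - V * ww ∧
      (2 : ℤ) ∣ F - U ∧ (4 : ℤ) ∣ T - F + 2 * V := by
  have hcl := isClassFunction_of_isCharacter hχ
  have h3 : ∀ k, χ (a ^ k) = χ (a ^ (3 * k)) := by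
    intro k
    apply classFun_eq_of_isConj hcl
    rw [isConj_iff]
    exact ⟨b, by rw [← conj_pow, hb, ← pow_mul]⟩
  have hred : ∀ k, χ (a ^ (k + 8)) = χ (a ^ k) := by
    intro k; rw [pow_add, ha, mul_one]
  set n := χ 1 with hn
  set A := χ a with hA
  set B := χ (a ^ 5) with hB
  set f := χ (a ^ 2) with hf
  set τ := χ (a ^ 4) with hτ
  have c0 : χ (a ^ 0) = n := by rw [pow_zero]
  have c1 : χ (a ^ 1) = A := by rw [pow_one]
  have c3 : χ (a ^ 3) = A := by rw [← c1, h3 1]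
  have c6 : χ (a ^ 6) = f := by rw [hf, h3 2]
  have c7 : χ (a ^ 7) = B := by
    rw [hB, h3 5, show 3 * 5 = 7 + 8 by norm_num, hred]
  have hz := z8_prim.pow_eq_one
  have h4 := z8_four
  have hz1 : z8⁻¹ = - z8 ^ 3 := by
    rw [inv_eq_iff_eq_inv, eq_comm]
    apply inv_eq_of_mul_eq_one_left
    linear_combination (-1 : ℂ) * h4
  have hz2 : (z8 ^ 2)⁻¹ = - z8 ^ 2 := by
    rw [inv_eq_iff_eq_inv, eq_comm]
    apply inv_eq_of_mul_eq_one_left
    linear_combination (-1 : ℂ) * h4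
  have hz5 : (z8 ^ 5)⁻¹ = z8 ^ 3 := by
    rw [inv_eq_iff_eq_inv, eq_comm]
    apply inv_eq_of_mul_eq_one_left
    rw [← pow_add]; exact hz
  obtain ⟨m0, h0⟩ := M11.fourier hχ (by norm_num : (8 : ℕ) ≠ 0) ha (z := 1) (one_pow _)
  obtain ⟨m4, h4'⟩ := M11.fourier hχ (by norm_num : (8 : ℕ) ≠ 0) ha (z := -1) (by norm_num)
  obtain ⟨m2, h2⟩ := M11.fourier hχ (by norm_num : (8 : ℕ) ≠ 0) ha (z := z8 ^ 2) (by rw [← pow_mul, mul_comm, pow_mul, hz, one_pow])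
  obtain ⟨m1, h1⟩ := M11.fourier hχ (by norm_num : (8 : ℕ) ≠ 0) ha (z := z8) hz
  obtain ⟨m5, h5⟩ := M11.fourier hχ (by norm_num : (8 : ℕ) ≠ 0) ha (z := z8 ^ 5) (by rw [← pow_mul, mul_comm, pow_mul, hz, one_pow])
  rw [hz1] at h1
  rw [hz2] at h2
  rw [hz5] at h5
  simp only [Finset.sum_range_succ, Finset.sum_range_zero, c0, c1, c3, c6, c7, ← hB, ← hf, ← hτ,
    inv_one, one_pow, mul_one, zero_add, pow_zero] at h0 h1 h2 h4' h5
  norm_num at h0 h1 h2 h4' h5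
  have e0 : (8 : ℂ) * m0 = n + τ + 2 * f + 2 * A + 2 * B := by linear_combination (-1 : ℂ) * h0
  have e4 : (8 : ℂ) * m4 = n + τ + 2 * f - 2 * A - 2 * B := by linear_combination (-1 : ℂ) * h4'
  have e2 : (8 : ℂ) * m2 = n + τ - 2 * f := by
    linear_combination (-1 : ℂ) * h2 + (A * ((-1) * z8 ^ 2) + f * ((2) * z8 ^ 0 + (-1) * z8 ^ 4 + (1) * z8 ^ 8) +
      τ * ((-1) * z8 ^ 0 + (1) * z8 ^ 4) + B * ((-1) * z8 ^ 10)) * h4
  have e1 : (8 : ℂ) * m1 = n - τ - (A - B) * ww := by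
    unfold ww
    linear_combination (-1 : ℂ) * h1 + (A * ((1) * z8 ^ 1 + (-1) * z8 ^ 5) + f * ((1) * z8 ^ 6 + (-1) * z8 ^ 10 + (1) * z8 ^ 14) +
      τ * ((1) * z8 ^ 0 + (-1) * z8 ^ 4 + (1) * z8 ^ 8) + B * ((-1) * z8 ^ 1 + (-1) * z8 ^ 3 + (1) * z8 ^ 5 + (1) * z8 ^ 7 +
      (-1) * z8 ^ 9 + (-1) * z8 ^ 11 + (1) * z8 ^ 13 + (-1) * z8 ^ 17)) * h4
  have e5 : (8 : ℂ) * m5 = n - τ + (A - B) * ww := by
    unfold ww
    linear_combination (-1 : ℂ) * h5 + (A * ((-1) * z8 ^ 1 + (1) * z8 ^ 5) + f * ((1) * z8 ^ 6 + (-1) * z8 ^ 10 + (1) * z8 ^ 14) +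
      τ * ((1) * z8 ^ 0 + (-1) * z8 ^ 4 + (1) * z8 ^ 8) + B * ((1) * z8 ^ 1 + (1) * z8 ^ 3 + (-1) * z8 ^ 5 + (-1) * z8 ^ 7 +
      (1) * z8 ^ 9 + (1) * z8 ^ 11 + (-1) * z8 ^ 13 + (1) * z8 ^ 17)) * h4
  have hw := ww_sq
  refine ⟨m0 + m4 + 2 * m2 - 2 * m1 - 2 * m5, m0 + m4 - 2 * m2, m0 - m4, m1 - m5, ?_, ?_, ?_, ?_,
    ⟨m4 - m2, by ring⟩, ⟨m2 - m5, by ring⟩⟩
  · push_cast
    linear_combination (-1 / 8 : ℂ) * e0 + (-1 / 8 : ℂ) * e4 + (-1 / 4 : ℂ) * e2 + (1 / 4 : ℂ) * e1 + (1 / 4 : ℂ) * e5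
  · push_cast
    linear_combination (-1 / 8 : ℂ) * e0 + (-1 / 8 : ℂ) * e4 + (1 / 4 : ℂ) * e2
  · push_cast
    linear_combination (-1 / 8 : ℂ) * e0 + (1 / 8 : ℂ) * e4 + (- ww / 8 : ℂ) * e1 + (ww / 8 : ℂ) * e5 + ((A - B) / 4) * hw
  · push_cast
    linear_combination (-1 / 8 : ℂ) * e0 + (1 / 8 : ℂ) * e4 + (ww / 8 : ℂ) * e1 + (- ww / 8 : ℂ) * e5 - ((A - B) / 4) * hw

/-- a cube root of unity -/
noncomputable def om3 : ℂ := Complex.exp (2 * Real.pi * Complex.I / 3)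

theorem om3_prim : IsPrimitiveRoot om3 3 := by
  have := Complex.isPrimitiveRoot_exp 3 (by norm_num)
  rw [Nat.cast_ofNat] at this
  exact this

theorem om3_sum : om3 ^ 2 + om3 + 1 = 0 := by
  have h := om3_prim.pow_eq_one
  have h1 : om3 ≠ 1 := om3_prim.ne_one (by norm_num)
  have : (om3 - 1) * (om3 ^ 2 + om3 + 1) = 0 := by linear_combination h
  exact (mul_eq_zero.mp this).resolve_left (sub_ne_zero.mpr h1)

theorem vals6 [Finite G] {χ : G → ℂ} (hχ : IsCharacter G χ) {s b : G} (hs : s ^ 6 = 1) (hb : b * s * b⁻¹ = s ^ 5) :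
    ∃ S T : ℤ, χ s = S ∧ χ (s ^ 3) = T ∧ (3 : ℤ) ∣ T - S := by
  have hcl := isClassFunction_of_isCharacter hχ
  have h3 : ∀ k, χ (s ^ k) = χ (s ^ (5 * k)) := by
    intro k
    apply classFun_eq_of_isConj hcl
    rw [isConj_iff]
    exact ⟨b, by rw [← conj_pow, hb, ← pow_mul]⟩
  have hred : ∀ k, χ (s ^ (k + 6)) = χ (s ^ k) := by
    intro k; rw [pow_add, hs, mul_one]
  set n := χ 1 with hn
  set A := χ s with hA
  set f := χ (s ^ 2) with hf
  set τ := χ (s ^ 3) with hτ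
  have c0 : χ (s ^ 0) = n := by rw [pow_zero]
  have c1 : χ (s ^ 1) = A := by rw [pow_one]
  have c5 : χ (s ^ 5) = A := by rw [← c1, h3 1]
  have c4 : χ (s ^ 4) = f := by
    rw [hf, h3 2, show 5 * 2 = 4 + 6 by norm_num, hred]
  have hsum := om3_sum
  have hz := om3_prim.pow_eq_one
  have hz1 : om3⁻¹ = om3 ^ 2 := by
    rw [inv_eq_iff_eq_inv, eq_comm]
    apply inv_eq_of_mul_eq_one_left
    linear_combination hz
  have hz2 : (- om3)⁻¹ = - om3 ^ 2 := by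
    rw [inv_eq_iff_eq_inv, eq_comm]
    apply inv_eq_of_mul_eq_one_left
    linear_combination hz
  obtain ⟨m0, h0⟩ := M11.fourier hχ (by norm_num : (6 : ℕ) ≠ 0) hs (z := 1) (one_pow _)
  obtain ⟨m3, h3'⟩ := M11.fourier hχ (by norm_num : (6 : ℕ) ≠ 0) hs (z := -1) (by norm_num)
  obtain ⟨m2, h2⟩ := M11.fourier hχ (by norm_num : (6 : ℕ) ≠ 0) hs (z := om3) (by
    rw [show (6 : ℕ) = 3 * 2 by norm_num, pow_mul, hz, one_pow])
  obtain ⟨m1, h1⟩ := M11.fourier hχ (by norm_num : (6 : ℕ) ≠ 0) hs (z := - om3) (by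
    rw [show (6 : ℕ) = 3 * 2 by norm_num, pow_mul, (by ring : (- om3) ^ 3 = - om3 ^ 3), hz]; norm_num)
  rw [hz1] at h2
  rw [hz2] at h1
  simp only [Finset.sum_range_succ, Finset.sum_range_zero, c0, c1, c4, c5, ← hf, ← hτ,
    inv_one, one_pow, mul_one, zero_add, pow_zero] at h0 h1 h2 h3'
  norm_num at h0 h1 h2 h3'
  have e0 : (6 : ℂ) * m0 = n + τ + 2 * A + 2 * f := by linear_combination (-1 : ℂ) * h0
  have e3 : (6 : ℂ) * m3 = n - τ - 2 * A + 2 * f := by linear_combination (-1 : ℂ) * h3'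
  have p4 : om3 ^ 4 = om3 := by linear_combination om3 * hz
  have p6 : om3 ^ 6 = 1 := by linear_combination (om3 ^ 3 + 1) * hz
  have p8 : om3 ^ 8 = om3 ^ 2 := by linear_combination (om3 ^ 5 + om3 ^ 2) * hz
  have p10 : om3 ^ 10 = om3 := by linear_combination (om3 ^ 7 + om3 ^ 4 + om3) * hz
  have e2 : (6 : ℂ) * m2 = n + τ - A - f := by
    linear_combination (-1 : ℂ) * h2 + f * p4 + τ * p6 + f * p8 + A * p10 + (A + f) * hsum
  have e1 : (6 : ℂ) * m1 = n - τ + A - f := by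
    linear_combination (-1 : ℂ) * h1 + f * p4 - τ * p6 + f * p8 - A * p10 + (- A + f) * hsum
  refine ⟨m0 - m3 - (m2 - m1), m0 - m3 + 2 * (m2 - m1), ?_, ?_, ⟨m2 - m1, by ring⟩⟩
  · push_cast
    linear_combination (-1 / 6 : ℂ) * e0 + (1 / 6 : ℂ) * e3 + (1 / 6 : ℂ) * e2 + (-1 / 6 : ℂ) * e1
  · push_cast
    linear_combination (-1 / 6 : ℂ) * e0 + (1 / 6 : ℂ) * e3 + (-1 / 3 : ℂ) * e2 + (1 / 3 : ℂ) * e1

end Cfsg.Agent.H67.L33
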