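import Cfsg.Agent.H67.L33.Par
import Cfsg.Agent.H67.L33.Vals
import Cfsg.Agent.H67.L33.Table
import Cfsg.Agent.H67.ColThree

set_option autoImplicit false

/-!
# Character columns at the elements of even order, involution centralizer GL(2, 3) (helper67)
-/

namespace Cfsg.Agent.H67.L33

open Subgroup Cfsg Cfsg.Agent.CharBase
open scoped ComplexConjugate

universe u

variable {G : Type u} [Group G]

/-! explicit elements -/

theorem e1 : a0 * a0 = (⟨(1, 1, 1, 2), by decide⟩ : U4) := by decide +kernel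
theorem e2 : (a0 * a0) * (a0 * a0) = z0 := by decide +kernel
theorem e3 : z0 * z0 = 1 := by decide +kernel
theorem e4 : b0 * a0 = (a0 * (a0 * a0)) * b0 := by decide +kernel
theorem e5 : (m0 * z0) * ((m0 * z0) * (m0 * z0)) = z0 := by decide +kernel
theorem e6 : c0 * (m0 * z0) = ((m0 * z0) * (((m0 * z0) * (m0 * z0)) * ((m0 * z0) * (m0 * z0)))) * c0 := by decide +kernel
theorem e7 : a0 * ((a0 * a0) * (a0 * a0)) = a0 * z0 := by decide +kernel
theorem n1 : ¬ ∃ u : U4, u * a0 = (a0 * z0) * u := by decide +kernel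

theorem c1 : Fintype.card {v : U4 // v * z0 = z0 * v} = 48 := by decide +kernel
theorem c2 : Fintype.card {v : U4 // v * (a0 * a0) = (a0 * a0) * v} = 8 := by decide +kernel
theorem c3 : Fintype.card {v : U4 // v * a0 = a0 * v} = 8 := by decide +kernel
theorem c4 : Fintype.card {v : U4 // v * (a0 * z0) = (a0 * z0) * v} = 8 := by decide +kernel
theorem c5 : Fintype.card {v : U4 // v * (m0 * z0) = (m0 * z0) * v} = 6 := by decide +kernel

/-- the elements of even order -/
structure El (t a s : G) : Prop where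
  t2 : orderOf t = 2
  a4 : a ^ 4 = t
  s3 : s ^ 3 = t
  ct : Nat.card (centralizer ({t} : Set G)) = 48
  cf : Nat.card (centralizer ({a ^ 2} : Set G)) = 8
  ca : Nat.card (centralizer ({a} : Set G)) = 8
  ca5 : Nat.card (centralizer ({a ^ 5} : Set G)) = 8
  cs : Nat.card (centralizer ({s} : Set G)) = 6
  na : ¬ IsConj a (a ^ 5)
  cub : ∃ b, b * a * b⁻¹ = a ^ 3
  inv : ∃ b, b * s * b⁻¹ = s ^ 5
  oa : orderOf a = 8
  os : orderOf s = 6

theorem p3 {M : Type*} [Monoid M] (x : M) : x ^ 3 = x * (x * x) := by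
  simp only [pow_succ, pow_zero, one_mul, mul_assoc]
theorem p4 {M : Type*} [Monoid M] (x : M) : x ^ 4 = (x * x) * (x * x) := by
  simp only [pow_succ, pow_zero, one_mul, mul_assoc]
theorem p5 {M : Type*} [Monoid M] (x : M) : x ^ 5 = x * ((x * x) * (x * x)) := by
  simp only [pow_succ, pow_zero, one_mul, mul_assoc]

theorem exists_el {t : G} (P : Par t) (ht : orderOf t = 2) : El t (P.el a0) (P.el (m0 * z0)) := by
  have hz := P.t_eq ht
  have t2 : t ^ 2 = 1 := by rw [← ht, pow_orderOf_eq_one]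
  have t1 : t ≠ 1 := by rintro rfl; rw [orderOf_one] at ht; omega
  have h4 : (P.el a0) ^ 4 = t := by
    rw [p4, ← P.mul, ← P.mul, e2, hz]
  have h2 : (P.el a0) ^ 2 = P.el (a0 * a0) := by rw [pow_two, P.mul]
  have h5 : (P.el a0) ^ 5 = P.el (a0 * z0) := by
    rw [p5, ← P.mul, ← P.mul, ← P.mul, e2]
  have hs3 : (P.el (m0 * z0)) ^ 3 = t := by
    rw [p3, ← P.mul, ← P.mul, e5, hz]
  have oa : orderOf (P.el a0) = 8 := by
    apply orderOf_eq_prime_pow (p := 2) (n := 2)
    · rw [show 2 ^ 2 = 4 by norm_num, h4]; exact t1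
    · rw [show 2 ^ (2 + 1) = 4 * 2 by norm_num, pow_mul, h4, t2]
  have os : orderOf (P.el (m0 * z0)) = 6 := by
    have hd : orderOf (P.el (m0 * z0)) ∣ 6 := orderOf_dvd_of_pow_eq_one (by
      rw [show 6 = 3 * 2 by norm_num, pow_mul, hs3, t2])
    have h3 : ¬ orderOf (P.el (m0 * z0)) ∣ 3 := fun h => t1 (by rw [← orderOf_dvd_iff_pow_eq_one.mp h, hs3])
    have h2' : ¬ orderOf (P.el (m0 * z0)) ∣ 2 := by
      intro h
      have h6 := orderOf_dvd_iff_pow_eq_one.mp h
      rw [pow_two, ← P.mul, ← P.one] at h6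
      have h7 := P.inj h6
      revert h7
      decide +kernel
    have h6 : orderOf (P.el (m0 * z0)) ∈ Nat.divisors 6 := Nat.mem_divisors.mpr ⟨hd, by norm_num⟩
    rw [show Nat.divisors 6 = {1, 2, 3, 6} by decide +kernel] at h6
    simp only [Finset.mem_insert, Finset.mem_singleton] at h6
    rcases h6 with h | h | h | h
    · rw [h] at h3; exact absurd (one_dvd _) h3
    · rw [h] at h2'; exact absurd dvd_rfl h2'
    · rw [h] at h3; exact absurd dvd_rfl h3
    · exact h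
  have h4' : (P.el a0) ^ (4 : ℤ) = t := by exact_mod_cast h4
  have h54 : (P.el (a0 * z0)) ^ (4 : ℤ) = t := by
    have h6 : ((P.el a0) ^ 5) ^ 4 = t := by
      rw [← pow_mul, show 5 * 4 = 8 * 2 + 4 by norm_num, pow_add, pow_mul, ← oa, pow_orderOf_eq_one, one_pow, one_mul, h4]
    rw [h5] at h6
    exact_mod_cast h6
  have h24 : (P.el (a0 * a0)) ^ (2 : ℤ) = t := by
    have h6 : ((P.el a0) ^ 2) ^ 2 = t := by rw [← pow_mul, h4]
    rw [h2] at h6
    exact_mod_cast h6
  have hs3' : (P.el (m0 * z0)) ^ (3 : ℤ) = t := by exact_mod_cast hs3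
  refine ⟨ht, h4, hs3, ?_, ?_, ?_, ?_, ?_, ?_, ⟨P.el b0, ?_⟩, ⟨P.el c0, ?_⟩, oa, os⟩
  · exact P.card_cent
  · rw [h2, P.card_centralizer _ ⟨2, h24⟩, c2]
  · rw [P.card_centralizer _ ⟨4, h4'⟩, c3]
  · rw [h5, P.card_centralizer _ ⟨4, h54⟩, c4]
  · rw [P.card_centralizer _ ⟨3, hs3'⟩, c5]
  · rw [h5]
    exact P.not_conj _ _ 4 h4' h54 n1
  · rw [mul_inv_eq_iff_eq_mul, p3, ← P.mul, e4, P.mul, P.mul, P.mul]
  · rw [mul_inv_eq_iff_eq_mul, p5, ← P.mul, e6]
    simp only [← P.mul]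

end Cfsg.Agent.H67.L33
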