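import Cfsg.Agent.H67.L33.Cols

set_option autoImplicit false

/-!
# Character columns at the elements of even order, involution centralizer GL(2, 3), orthogonality (helper67)
-/

namespace Cfsg.Agent.H67.L33

open Subgroup Cfsg Cfsg.Agent.CharBase
open scoped ComplexConjugate

universe u

variable {G : Type u} [Group G]

theorem not_conj_of_order {u v : G} (h : orderOf u ≠ orderOf v) : ¬ IsConj u v := by
  intro hc
  obtain ⟨g, hg⟩ := isConj_iff.mp hc
  apply h
  rw [← hg]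
  exact (orderOf_injective (MulAut.conj g).toMonoidHom (MulAut.conj g).injective u).symm

/-- the columns -/
structure Cols [Finite G] [Fintype (IrrCharacter G)] (t a s : G) (T F U V S : IrrCharacter G → ℤ) : Prop where
  vT : ∀ χ : IrrCharacter G, (χ : G → ℂ) t = T χ
  vF : ∀ χ : IrrCharacter G, (χ : G → ℂ) (a ^ 2) = F χ
  vA : ∀ χ : IrrCharacter G, (χ : G → ℂ) a = U χ + V χ * ww
  vB : ∀ χ : IrrCharacter G, (χ : G → ℂ) (a ^ 5) = U χ - V χ * ww
  vS : ∀ χ : IrrCharacter G, (χ : G → ℂ) s = S χ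
  h2 : ∀ χ, (2 : ℤ) ∣ F χ - U χ
  h4 : ∀ χ, (4 : ℤ) ∣ T χ - F χ + 2 * V χ
  h3 : ∀ χ, (3 : ℤ) ∣ T χ - S χ
  orth : Orth T F U V S
  dT : ∑ χ, T χ * (H75.deg χ : ℤ) = 0
  dF : ∑ χ, F χ * (H75.deg χ : ℤ) = 0
  dU : ∑ χ, U χ * (H75.deg χ : ℤ) = 0
  dV : ∑ χ, V χ * (H75.deg χ : ℤ) = 0
  dS : ∑ χ, S χ * (H75.deg χ : ℤ) = 0
  oT : T (oneIrr G) = 1
  oF : F (oneIrr G) = 1
  oU : U (oneIrr G) = 1
  oV : V (oneIrr G) = 0
  oS : S (oneIrr G) = 1

theorem exists_cols [Finite G] [Fintype (IrrCharacter G)] {t a s : G} (h : El t a s) :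
    ∃ T F U V S, Cols t a s T F U V S := by
  classical
  have t1 : t ≠ 1 := by rintro rfl; have := h.t2; rw [orderOf_one] at this; omega
  have a8 : a ^ 8 = 1 := by rw [← h.oa, pow_orderOf_eq_one]
  have s6 : s ^ 6 = 1 := by rw [← h.os, pow_orderOf_eq_one]
  have of : orderOf (a ^ 2) = 4 := by
    rw [orderOf_pow, h.oa]; decide
  have o5 : orderOf (a ^ 5) = 8 := by
    rw [orderOf_pow, h.oa]; decide
  have a1 : a ≠ 1 := by rintro rfl; have := h.oa; rw [orderOf_one] at this; omega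
  have f1 : a ^ 2 ≠ 1 := by intro hh; rw [hh, orderOf_one] at of; omega
  have b1 : a ^ 5 ≠ 1 := by intro hh; rw [hh, orderOf_one] at o5; omega
  have s1 : s ≠ 1 := by rintro rfl; have := h.os; rw [orderOf_one] at this; omega
  obtain ⟨b, hb⟩ := h.cub
  obtain ⟨c, hc⟩ := h.inv
  choose T F U V vT vF vA vB h2 h4 using fun χ : IrrCharacter G => vals8 (irr_isCharacter χ) a8 hb
  choose S T' vS vT' h3 using fun χ : IrrCharacter G => vals6 (irr_isCharacter χ) s6 hc
  have vT2 : ∀ χ : IrrCharacter G, (χ : G → ℂ) t = T χ := fun χ => by rw [← h.a4]; exact vT χ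
  have hTT : ∀ χ, T' χ = T χ := by
    intro χ
    have h5 := vT' χ
    rw [h.s3, vT2 χ] at h5
    exact_mod_cast h5.symm
  have hw := ww_sq
  have hwc := ww_conj
  -- columns with integer values
  have cc : ∀ (u : G) (X : IrrCharacter G → ℤ), (∀ χ : IrrCharacter G, (χ : G → ℂ) u = X χ) → ¬ IsConj u a → ¬ IsConj u (a ^ 5) →
      ∑ χ, X χ * U χ = 0 ∧ ∑ χ, X χ * V χ = 0 := by
    intro u X hX n1 n2
    have q1 := column_orthogonality_of_not_isConj n1
    have q2 := column_orthogonality_of_not_isConj n2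
    have q3 : ((∑ χ, X χ * U χ : ℤ) : ℂ) + ((- ∑ χ, X χ * V χ : ℤ) : ℂ) * ww = 0 := by
      rw [← q1]
      push_cast
      rw [neg_mul, Finset.sum_mul, ← sub_eq_add_neg, ← Finset.sum_sub_distrib]
      refine Finset.sum_congr rfl fun χ _ => ?_
      rw [hX χ, vA χ, map_add, map_mul, map_intCast, map_intCast, hwc]; ring
    obtain ⟨q4, q5⟩ := ww_indep q3
    exact ⟨q4, by omega⟩
  have ta : ¬ IsConj t a := not_conj_of_order (by rw [h.t2, h.oa]; norm_num)
  have tb : ¬ IsConj t (a ^ 5) := not_conj_of_order (by rw [h.t2, o5]; norm_num)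
  have fa : ¬ IsConj (a ^ 2) a := not_conj_of_order (by rw [of, h.oa]; norm_num)
  have fb : ¬ IsConj (a ^ 2) (a ^ 5) := not_conj_of_order (by rw [of, o5]; norm_num)
  have sa : ¬ IsConj s a := not_conj_of_order (by rw [h.os, h.oa]; norm_num)
  have sb : ¬ IsConj s (a ^ 5) := not_conj_of_order (by rw [h.os, o5]; norm_num)
  have tf : ¬ IsConj t (a ^ 2) := not_conj_of_order (by rw [h.t2, of]; norm_num)
  have ts : ¬ IsConj t s := not_conj_of_order (by rw [h.t2, h.os]; norm_num)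
  have fs : ¬ IsConj (a ^ 2) s := not_conj_of_order (by rw [of, h.os]; norm_num)
  obtain ⟨TU, TV⟩ := cc t T vT2 ta tb
  obtain ⟨FU, FV⟩ := cc (a ^ 2) F vF fa fb
  obtain ⟨SU, SV⟩ := cc s S vS sa sb
  have TT : ∑ χ, T χ * T χ = 48 := by
    rw [Col.col_int vT2 vT2, if_pos (IsConj.refl _), h.ct]; norm_num
  have FF : ∑ χ, F χ * F χ = 8 := by
    rw [Col.col_int vF vF, if_pos (IsConj.refl _), h.cf]; norm_num
  have SS : ∑ χ, S χ * S χ = 6 := by
    rw [Col.col_int vS vS, if_pos (IsConj.refl _), h.cs]; norm_num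
  have TF : ∑ χ, T χ * F χ = 0 := by rw [Col.col_int vT2 vF, if_neg tf]
  have TS : ∑ χ, T χ * S χ = 0 := by rw [Col.col_int vT2 vS, if_neg ts]
  have FS : ∑ χ, F χ * S χ = 0 := by rw [Col.col_int vF vS, if_neg fs]
  have e1 : (((∑ χ, U χ * U χ) + 2 * (∑ χ, V χ * V χ) : ℤ) : ℂ) = 8 := by
    have q1 := column_orthogonality_of_isConj (IsConj.refl a)
    rw [h.ca] at q1
    push_cast at q1 ⊢
    rw [← q1, Finset.mul_sum, ← Finset.sum_add_distrib]
    refine Finset.sum_congr rfl fun χ _ => ?_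
    rw [vA χ, map_add, map_mul, map_intCast, map_intCast, hwc]
    linear_combination ((V χ : ℂ) * V χ) * hw
  have e1' : (∑ χ, U χ * U χ) + 2 * (∑ χ, V χ * V χ) = 8 := by exact_mod_cast e1
  have e2 : (∑ χ, U χ * U χ) - 2 * (∑ χ, V χ * V χ) = 0 ∧ 2 * (∑ χ, U χ * V χ) = 0 := by
    apply ww_indep
    have q1 := column_orthogonality_of_not_isConj h.na
    rw [← q1]
    push_cast
    rw [Finset.mul_sum, Finset.mul_sum, ← Finset.sum_sub_distrib, Finset.sum_mul, ← Finset.sum_add_distrib]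
    refine Finset.sum_congr rfl fun χ _ => ?_
    rw [vA χ, vB χ, map_sub, map_mul, map_intCast, map_intCast, hwc]
    linear_combination (-(V χ : ℂ) * V χ) * hw
  obtain ⟨e3, e4⟩ := e2
  have dU : (∑ χ, U χ * (H75.deg χ : ℤ)) = 0 ∧ (∑ χ, V χ * (H75.deg χ : ℤ)) = 0 := by
    apply ww_indep
    have q1 := sum_degree_mul a
    rw [if_neg a1] at q1
    rw [← q1]
    push_cast
    rw [Finset.sum_mul, ← Finset.sum_add_distrib]
    refine Finset.sum_congr rfl fun χ _ => ?_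
    rw [H75.deg_spec, vA χ]; ring
  have o1 : U (oneIrr G) = 1 ∧ V (oneIrr G) = 0 := by
    have q1 := vA (oneIrr G)
    rw [oneIrr_apply] at q1
    have q2 : ((U (oneIrr G) - 1 : ℤ) : ℂ) + (V (oneIrr G) : ℤ) * ww = 0 := by
      push_cast
      linear_combination (-1 : ℂ) * q1
    have := ww_indep q2
    omega
  refine ⟨T, F, U, V, S, vT2, vF, vA, vB, vS, h2, h4, ?_, ⟨TT, FF, by omega, by omega, SS, TF, TU, TV, TS, FU, FV, FS, by omega,
    ?_, ?_⟩, Col.col_deg t1 vT2, Col.col_deg f1 vF, dU.1, dU.2, Col.col_deg s1 vS, ?_, ?_, o1.1, o1.2, ?_⟩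
  · intro χ; rw [← hTT χ]; exact h3 χ
  · rw [← SU]; exact Finset.sum_congr rfl fun χ _ => mul_comm _ _
  · rw [← SV]; exact Finset.sum_congr rfl fun χ _ => mul_comm _ _
  · have := vT2 (oneIrr G); rw [oneIrr_apply] at this; exact_mod_cast this.symm
  · have := vF (oneIrr G); rw [oneIrr_apply] at this; exact_mod_cast this.symm
  · have := vS (oneIrr G); rw [oneIrr_apply] at this; exact_mod_cast this.symm

end Cfsg.Agent.H67.L33
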