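import Mathlib

set_option autoImplicit false

/-!
# The Diophantine equations for an involution centralizer GL(2, 3) (helper67)
-/

namespace Cfsg.Agent.H67.L33

theorem dioph {N : ℕ} {P S : ℤ} (hP0 : P ≠ 0) (hP1 : P + 1 ≠ 0) (hS : S ≠ 0) (hPS : P + S ≠ 0) (hPS1 : P + S ≠ -1)
    (hN : 0 < N)
    (hA : (N : ℤ) * (P - 2) ^ 2 = 4608 * (P * (P + 1)))
    (hC : (N : ℤ) * (4 * S * (P + S) + 9 * P * (P + S) - P * S) = 4608 * (P * S * (P + S)))
    (h32 : N % 32 = 16) : (N = 5616 ∧ P = 26 ∧ S = 13) ∨ (N = 7920 ∧ P = 10 ∧ S = 45) := by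
  have hN' : (N : ℤ) ≠ 0 := by exact_mod_cast hN.ne'
  have h1 : P * ((S * (P - 8) - 9 * P) * (S + P + 1)) * 4608 = 0 := by
    have : (N : ℤ) * (P * ((S * (P - 8) - 9 * P) * (S + P + 1)) * 4608) = 0 := by
      linear_combination (4608 * S * (P + S)) * hA - (4608 * (P + 1)) * hC
    exact (mul_eq_zero.mp this).resolve_left hN'
  have h2 : S * (P - 8) - 9 * P = 0 := by
    have h3 : P * ((S * (P - 8) - 9 * P) * (S + P + 1)) = 0 := by
      rcases mul_eq_zero.mp h1 with h | h
      · exact h
      · norm_num at h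
    have h4 := (mul_eq_zero.mp h3).resolve_left hP0
    rcases mul_eq_zero.mp h4 with h | h
    · exact h
    · exfalso; apply hPS1; linarith
  have h5 : (P - 8) * (S - 9) = 72 := by linear_combination h2
  have h6 : (P - 8).natAbs ∈ Nat.divisors 72 := by
    rw [Nat.mem_divisors]
    refine ⟨?_, by norm_num⟩
    rw [show 72 = ((72 : ℤ)).natAbs by rfl, Int.natAbs_dvd_natAbs]
    exact ⟨S - 9, h5.symm⟩
  rw [show Nat.divisors 72 = {1, 2, 3, 4, 6, 8, 9, 12, 18, 24, 36, 72} by decide +kernel] at h6
  simp only [Finset.mem_insert, Finset.mem_singleton] at h6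
  clear h1 h2 hC
  rcases h6 with h | h | h | h | h | h | h | h | h | h | h | h <;>
  · have h7 := Int.natAbs_eq (P - 8)
    rw [h] at h7
    rcases h7 with h7 | h7
    · have h8 : P = ((P - 8) + 8) := by ring
      rw [h7] at h8 h5
      push_cast at h8 h5
      subst h8
      first
        | (norm_num at hA; done)
        | (norm_num at hA; norm_num; omega)
        | (norm_num at hA; omega)
    · have h8 : P = ((P - 8) + 8) := by ring
      rw [h7] at h8 h5
      push_cast at h8 h5
      subst h8
      first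
        | (norm_num at hP0; done)
        | (norm_num at hP1; done)
        | (norm_num at hA; done)
        | (norm_num at hA; norm_num; omega)
        | (norm_num at hA; omega)

end Cfsg.Agent.H67.L33
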