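import Mathlib

set_option autoImplicit false

/-!
# Centralizers isomorphic to GL(2, 3): explicit elements (helper67)
-/

namespace Cfsg.Agent.H67.L33

open Subgroup Matrix

/-- two by two matrices over the field with three elements, as quadruples -/
abbrev V4 := ZMod 3 × ZMod 3 × ZMod 3 × ZMod 3

def mulV (v w : V4) : V4 :=
  (v.1 * w.1 + v.2.1 * w.2.2.1, v.1 * w.2.1 + v.2.1 * w.2.2.2,
    v.2.2.1 * w.1 + v.2.2.2 * w.2.2.1, v.2.2.1 * w.2.1 + v.2.2.2 * w.2.2.2)

def detV (v : V4) : ZMod 3 := v.1 * v.2.2.2 - v.2.1 * v.2.2.1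

def oneV : V4 := (1, 0, 0, 1)

def invV (v : V4) : V4 := (detV v * v.2.2.2, - detV v * v.2.1, - detV v * v.2.2.1, detV v * v.1)

/-- invertible quadruples -/
abbrev U4 := {v : V4 // detV v ≠ 0}

theorem mul_ok : ∀ v w : V4, detV (mulV v w) = detV v * detV w := by
  rintro ⟨a, b, c, d⟩ ⟨a', b', c', d'⟩
  simp only [mulV, detV]; ring

theorem mul_ne {v w : V4} (hv : detV v ≠ 0) (hw : detV w ≠ 0) : detV (mulV v w) ≠ 0 := by
  rw [mul_ok]
  revert v w
  have : ∀ a b : ZMod 3, a ≠ 0 → b ≠ 0 → a * b ≠ 0 := by decide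
  intro v w hv hw
  exact this _ _ hv hw

theorem inv_ok : ∀ v : V4, detV v ≠ 0 → detV (invV v) ≠ 0 ∧ mulV v (invV v) = oneV ∧ mulV (invV v) v = oneV := by
  decide +kernel

def toMat (v : V4) : Matrix (Fin 2) (Fin 2) (ZMod 3) := !![v.1, v.2.1; v.2.2.1, v.2.2.2]

theorem toMat_mul (v w : V4) : toMat (mulV v w) = toMat v * toMat w := by
  simp only [toMat, mulV, Matrix.mul_fin_two]

theorem toMat_one : toMat oneV = 1 := by
  simp only [toMat, oneV]
  exact Matrix.one_fin_two.symm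

def toGL (v : U4) : GL (Fin 2) (ZMod 3) where
  val := toMat v.1
  inv := toMat (invV v.1)
  val_inv := by rw [← toMat_mul, (inv_ok v.1 v.2).2.1, toMat_one]
  inv_val := by rw [← toMat_mul, (inv_ok v.1 v.2).2.2, toMat_one]

instance : Mul U4 := ⟨fun v w => ⟨mulV v.1 w.1, mul_ne v.2 w.2⟩⟩
instance : One U4 := ⟨⟨oneV, by decide⟩⟩

theorem coe_mulU (v w : U4) : (v * w).1 = mulV v.1 w.1 := rfl
theorem coe_oneU : (1 : U4).1 = oneV := rfl

theorem toGL_mul (v w : U4) : toGL (v * w) = toGL v * toGL w := by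
  apply Units.ext
  exact toMat_mul v.1 w.1

theorem toGL_one : toGL 1 = 1 := by
  apply Units.ext
  exact toMat_one

theorem toGL_inj : Function.Injective toGL := by
  intro v w h
  have h1 : toMat v.1 = toMat w.1 := congrArg Units.val h
  apply Subtype.ext
  have e : ∀ i j, toMat v.1 i j = toMat w.1 i j := fun i j => by rw [h1]
  have e1 := e 0 0
  have e2 := e 0 1
  have e3 := e 1 0
  have e4 := e 1 1
  simp only [toMat, of_apply, cons_val', cons_val_zero, cons_val_one, cons_val_fin_one] at e1 e2 e3 e4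
  exact Prod.ext e1 (Prod.ext e2 (Prod.ext e3 e4))

theorem toGL_surj : Function.Surjective toGL := by
  intro g
  have h : detV (g.1 0 0, g.1 0 1, g.1 1 0, g.1 1 1) ≠ 0 := by
    have h1 : g.1.det ≠ 0 := by
      have := g.isUnit
      rw [Matrix.isUnit_iff_isUnit_det] at this
      exact this.ne_zero
    rwa [Matrix.det_fin_two] at h1
  refine ⟨⟨_, h⟩, ?_⟩
  apply Units.ext
  show toMat _ = g.1
  simp only [toMat]
  exact (Matrix.eta_fin_two g.1).symm

end Cfsg.Agent.H67.L33
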