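import Cfsg.Agent.H67.ColCount

set_option autoImplicit false

/-!
# Counting pairs of involutions with a given product (helper67)
-/

namespace Cfsg.Agent.H67.L33

open Subgroup Cfsg Cfsg.Agent.CharBase
open scoped ComplexConjugate

universe u

variable {G : Type u} [Group G]

theorem card_fiber' [Fintype G] [DecidableEq G] (v w : G) :
    (Finset.univ.filter (fun x : G => x * v * x⁻¹ = w)).card =
      if IsConj v w then Nat.card (centralizer ({v} : Set G)) else 0 := by
  classical
  split_ifs with h
  · convert Col.card_fiber h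
  · rw [Finset.card_eq_zero, Finset.filter_eq_empty_iff]
    intro x _ hx
    exact h (isConj_iff.mpr ⟨x, hx⟩)

theorem pairs_count [Fintype G] [DecidableEq G] (t w : G) :
    Nat.card (centralizer ({w} : Set G)) * (Finset.univ.filter (fun x : G => IsConj (t * (x * t * x⁻¹)) w)).card =
      Nat.card (centralizer ({t} : Set G)) ^ 2 *
        (Finset.univ.filter (fun p : G => IsConj t p ∧ IsConj t (p⁻¹ * w))).card := by
  classical
  have h1 : ∑ g : G, ∑ y : G, (if (g * t * g⁻¹) * (y * t * y⁻¹) = w then 1 else 0) =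
      Nat.card (centralizer ({w} : Set G)) * (Finset.univ.filter (fun x : G => IsConj (t * (x * t * x⁻¹)) w)).card := by
    have e1 : ∀ g : G, ∑ y : G, (if (g * t * g⁻¹) * (y * t * y⁻¹) = w then 1 else 0) =
        ∑ x : G, (if g * (t * (x * t * x⁻¹)) * g⁻¹ = w then 1 else 0) := by
      intro g
      rw [← Equiv.sum_comp (Equiv.mulLeft g)]
      refine Finset.sum_congr rfl fun x _ => ?_
      have : (g * t * g⁻¹) * ((Equiv.mulLeft g x) * t * (Equiv.mulLeft g x)⁻¹) = g * (t * (x * t * x⁻¹)) * g⁻¹ := by
        simp only [Equiv.coe_mulLeft]; group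
      rw [this]
    rw [Finset.sum_congr rfl (fun g _ => e1 g), Finset.sum_comm]
    have e2 : ∀ x : G, ∑ g : G, (if g * (t * (x * t * x⁻¹)) * g⁻¹ = w then 1 else 0) =
        if IsConj (t * (x * t * x⁻¹)) w then Nat.card (centralizer ({w} : Set G)) else 0 := by
      intro x
      rw [← Finset.card_filter, card_fiber']
      split_ifs with h
      · exact Col.card_centralizer_of_isConj h
      · rfl
    rw [Finset.sum_congr rfl (fun x _ => e2 x), ← Finset.sum_filter, Finset.sum_const, smul_eq_mul, mul_comm]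
  have h2 : ∑ g : G, ∑ y : G, (if (g * t * g⁻¹) * (y * t * y⁻¹) = w then 1 else 0) =
      Nat.card (centralizer ({t} : Set G)) ^ 2 *
        (Finset.univ.filter (fun p : G => IsConj t p ∧ IsConj t (p⁻¹ * w))).card := by
    have e1 : ∀ g : G, ∑ y : G, (if (g * t * g⁻¹) * (y * t * y⁻¹) = w then 1 else 0) =
        if IsConj t ((g * t * g⁻¹)⁻¹ * w) then Nat.card (centralizer ({t} : Set G)) else 0 := by
      intro g
      rw [← card_fiber', Finset.card_filter]
      refine Finset.sum_congr rfl fun y _ => ?_
      have : ((g * t * g⁻¹) * (y * t * y⁻¹) = w) ↔ (y * t * y⁻¹ = (g * t * g⁻¹)⁻¹ * w) := by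
        rw [eq_inv_mul_iff_mul_eq]
      simp only [this]
    rw [Finset.sum_congr rfl (fun g _ => e1 g), ← Finset.sum_filter, Finset.sum_const, smul_eq_mul]
    have e2 : (Finset.univ.filter (fun g : G => IsConj t ((g * t * g⁻¹)⁻¹ * w))).card =
        (Finset.univ.filter (fun p : G => IsConj t p ∧ IsConj t (p⁻¹ * w))).card * Nat.card (centralizer ({t} : Set G)) := by
      rw [Finset.card_eq_sum_card_fiberwise (f := fun g : G => g * t * g⁻¹)
        (t := Finset.univ.filter (fun p : G => IsConj t p ∧ IsConj t (p⁻¹ * w)))]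
      · rw [Finset.sum_const_nat (m := Nat.card (centralizer ({t} : Set G)))]
        intro p hp
        rw [Finset.mem_filter] at hp
        rw [← Col.card_fiber hp.2.1]
        congr 1
        ext x
        simp only [Finset.mem_filter, Finset.mem_univ, true_and]
        constructor
        · exact fun h => h.2
        · intro h
          refine ⟨?_, h⟩
          rw [h]; exact hp.2.2
      · intro g hg
        simp only [Finset.coe_filter, Finset.mem_univ, true_and, Set.mem_setOf_eq] at hg ⊢
        exact ⟨isConj_iff.mpr ⟨g, rfl⟩, hg⟩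
    rw [e2]; ring
  rw [← h1, h2]

/-- the involution count in terms of characters -/
theorem inv_formula [Fintype G] [Fintype (IrrCharacter G)] {t : G}
    (ht : orderOf t = 2) (h1 : ∀ s : G, orderOf s = 2 → IsConj t s) (w : G) :
    (Nat.card (centralizer ({t} : Set G)) : ℂ) ^ 2 *
      (Nat.card {p : G // p * p = 1 ∧ p ≠ 1 ∧ (p * w) * (p * w) = 1 ∧ p * w ≠ 1} : ℂ) =
    (Nat.card G : ℂ) * ∑ χ : IrrCharacter G,
      (χ : G → ℂ) t * (χ : G → ℂ) t * conj ((χ : G → ℂ) w) / (χ : G → ℂ) 1 := by
  classical
  rw [← Col.count_formula t t w]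
  have h2 := pairs_count t w
  have h3 : (Finset.univ.filter (fun p : G => IsConj t p ∧ IsConj t (p⁻¹ * w))).card =
      Nat.card {p : G // p * p = 1 ∧ p ≠ 1 ∧ (p * w) * (p * w) = 1 ∧ p * w ≠ 1} := by
    rw [Nat.card_eq_fintype_card, Fintype.card_subtype]
    congr 1
    ext p
    simp only [Finset.mem_filter, Finset.mem_univ, true_and]
    have hinv : ∀ q : G, IsConj t q ↔ (q * q = 1 ∧ q ≠ 1) := by
      intro q
      constructor
      · intro h
        obtain ⟨g, hg⟩ := isConj_iff.mp h
        have h5 : orderOf q = 2 := by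
          rw [← hg, ← ht]
          exact orderOf_injective (MulAut.conj g).toMonoidHom (MulAut.conj g).injective t
        refine ⟨by rw [← pow_two, ← h5, pow_orderOf_eq_one], ?_⟩
        rintro rfl
        rw [orderOf_one] at h5; omega
      · rintro ⟨h5, h6⟩
        exact h1 q (orderOf_eq_prime (by rw [pow_two]; exact h5) h6)
    rw [hinv p, hinv (p⁻¹ * w)]
    constructor
    · rintro ⟨⟨a, b⟩, c, d⟩
      have hp : p⁻¹ = p := inv_eq_of_mul_eq_one_left a
      rw [hp] at c d
      exact ⟨a, b, c, d⟩
    · rintro ⟨a, b, c, d⟩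
      have hp : p⁻¹ = p := inv_eq_of_mul_eq_one_left a
      rw [hp]
      exact ⟨⟨a, b⟩, c, d⟩
  rw [← h3]
  exact_mod_cast h2.symm

end Cfsg.Agent.H67.L33
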