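import Cfsg.Agent.H67.L33.Pds

set_option autoImplicit false

/-!
# Groups of order 5616 acting on a projective plane of order 3 (helper67)
-/

namespace Cfsg.Agent.H67.L33

open Subgroup

universe u v w

instance : Fact (Nat.Prime 13) := ⟨by norm_num⟩

section Pw

variable {G : Type u} [Group G]

/-- powers with exponents modulo 13 -/
def pw (g : G) (i : ZMod 13) : G := g ^ i.val

theorem pw_zero (g : G) : pw g 0 = 1 := by simp [pw]

theorem pw_add {g : G} (hg : orderOf g = 13) (i j : ZMod 13) : pw g (i + j) = pw g i * pw g j := by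
  unfold pw
  have := pow_mod_orderOf g (i.val + j.val)
  rw [hg] at this
  rw [ZMod.val_add, this, pow_add]

theorem pw_sub {g : G} (hg : orderOf g = 13) (i j : ZMod 13) : pw g (i - j) = (pw g j)⁻¹ * pw g i := by
  rw [eq_inv_mul_iff_mul_eq, ← pw_add hg]
  congr 1; ring

theorem order_pw {g : G} (hg : orderOf g = 13) {i : ZMod 13} (hi : i ≠ 0) : orderOf (pw g i) = 13 := by
  unfold pw
  have h1 : i.val ≠ 0 := by rwa [Ne, ZMod.val_eq_zero]
  rw [orderOf_pow' _ h1, hg]
  have h2 : i.val < 13 := ZMod.val_lt i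
  have : Nat.gcd 13 i.val = 1 := by
    rw [← Nat.coprime_iff_gcd_eq_one, Nat.Prime.coprime_iff_not_dvd (by norm_num)]
    intro h
    exact absurd (Nat.le_of_dvd (Nat.pos_of_ne_zero h1) h) (by omega)
  rw [this]

variable {X : Type v} [MulAction G X]

theorem pw_inj {g : G} (hg : orderOf g = 13) (hX : ∀ g : G, orderOf g = 13 → ∀ x : X, g • x ≠ x) (x : X) :
    Function.Injective (fun i : ZMod 13 => pw g i • x) := by
  intro i j h
  by_contra hne
  have h1 : pw g (i - j) • x = x := by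
    rw [pw_sub hg, mul_smul]
    rw [show pw g i • x = pw g j • x from h, inv_smul_smul]
  exact hX _ (order_pw hg (sub_ne_zero.mpr hne)) x h1

theorem pw_bij {g : G} (hg : orderOf g = 13) (hX : ∀ g : G, orderOf g = 13 → ∀ x : X, g • x ≠ x) (h13 : Nat.card X = 13)
    (x : X) : Function.Bijective (fun i : ZMod 13 => pw g i • x) := by
  haveI : Finite X := Nat.finite_of_card_ne_zero (by rw [h13]; norm_num)
  rw [Nat.bijective_iff_injective_and_card]
  exact ⟨pw_inj hg hX x, by rw [h13, Nat.card_zmod]⟩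

end Pw

theorem diff_all {B : Finset (ZMod 13)} (hB : B.card = 4) (h : ∀ p ∈ B, ∀ q ∈ B, ∀ p' ∈ B, ∀ q' ∈ B, p ≠ q → p - q = p' - q' → p = p')
    (k : ZMod 13) (hk : k ≠ 0) : ∃ p ∈ B, ∃ q ∈ B, p - q = k := by
  have h1 : (B.offDiag.image (fun x => x.1 - x.2)).card = 12 := by
    rw [Finset.card_image_of_injOn, Finset.offDiag_card, hB]
    rintro ⟨p, q⟩ hp ⟨p', q'⟩ hp' heq
    simp only [Finset.coe_offDiag, Set.mem_offDiag, Finset.mem_coe] at hp hp'
    have e1 := h p hp.1 q hp.2.1 p' hp'.1 q' hp'.2.1 hp.2.2 heq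
    subst e1
    have e2 : q = q' := by
      have : p - q = p - q' := heq
      exact sub_right_injective this
    rw [e2]
  have h2 : B.offDiag.image (fun x => x.1 - x.2) ⊆ Finset.univ.erase 0 := by
    intro y hy
    rw [Finset.mem_image] at hy
    obtain ⟨⟨p, q⟩, hpq, rfl⟩ := hy
    rw [Finset.mem_offDiag] at hpq
    rw [Finset.mem_erase]
    exact ⟨sub_ne_zero.mpr hpq.2.2, Finset.mem_univ _⟩
  have h3 : (Finset.univ.erase (0 : ZMod 13)).card = 12 := by decide
  have h4 := Finset.eq_of_subset_of_card_le h2 (by rw [h1, h3])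
  have h5 : k ∈ B.offDiag.image (fun x => x.1 - x.2) := by
    rw [h4, Finset.mem_erase]; exact ⟨hk, Finset.mem_univ _⟩
  rw [Finset.mem_image] at h5
  obtain ⟨⟨p, q⟩, hpq, rfl⟩ := h5
  rw [Finset.mem_offDiag] at hpq
  exact ⟨p, hpq.1, q, hpq.2.1, rfl⟩

/-- normal form of planar difference sets -/
theorem pds_main {B : Finset (ZMod 13)} (hB : B.card = 4) (h0 : (0 : ZMod 13) ∈ B)
    (h : ∀ p ∈ B, ∀ q ∈ B, ∀ p' ∈ B, ∀ q' ∈ B, p ≠ q → p - q = p' - q' → p = p') :
    ∃ u s : ZMod 13, u ≠ 0 ∧ ∀ i, i ∈ B ↔ inB (u * i + s) := by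
  have h3 : (B.erase 0).card = 3 := by rw [Finset.card_erase_of_mem h0, hB]
  obtain ⟨a, b, c, hab, hac, hbc, habc⟩ := Finset.card_eq_three.mp h3
  have hmem : ∀ i, i ∈ B ↔ i = 0 ∨ i = a ∨ i = b ∨ i = c := by
    intro i
    rw [← Finset.insert_erase h0, habc]
    simp only [Finset.mem_insert, Finset.mem_singleton]
  have hd : ∀ k : ZMod 13, k ≠ 0 → dif a b c k = true := by
    intro k hk
    obtain ⟨p, hp, q, hq, rfl⟩ := diff_all hB h k hk
    rw [hmem] at hp hq
    have hpq : p ≠ q := fun h => hk (sub_eq_zero.mpr h)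
    unfold dif
    simp only [Bool.or_eq_true, beq_iff_eq]
    rcases hp with rfl | rfl | rfl | rfl <;> rcases hq with rfl | rfl | rfl | rfl <;> simp at hpq ⊢
  obtain ⟨u, s, hus⟩ := pds3 a b c (by
    rw [hd 1 (by decide), hd 2 (by decide), hd 3 (by decide), hd 4 (by decide), hd 5 (by decide), hd 6 (by decide)]; rfl)
  simp only [Bool.and_eq_true, bne_iff_ne, isB_iff] at hus
  obtain ⟨⟨⟨⟨hu, h1⟩, h2⟩, h3'⟩, h4⟩ := hus
  refine ⟨u, s, hu, ?_⟩
  have hfw : ∀ i ∈ B, inB (u * i + s) := by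
    intro i hi
    rw [hmem] at hi
    rcases hi with rfl | rfl | rfl | rfl
    · rw [mul_zero, zero_add]; exact h1
    · exact h2
    · exact h3'
    · exact h4
  have hinj : Function.Injective (fun i : ZMod 13 => u * i + s) := by
    intro i j hij
    have : u * i = u * j := add_right_cancel hij
    exact mul_left_cancel₀ hu this
  intro i
  refine ⟨hfw i, fun hi => ?_⟩
  have h5 : B.image (fun i => u * i + s) ⊆ Finset.univ.filter inB := by
    intro y hy
    rw [Finset.mem_image] at hy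
    obtain ⟨x, hx, rfl⟩ := hy
    rw [Finset.mem_filter]
    exact ⟨Finset.mem_univ _, hfw x hx⟩
  have h6 : (Finset.univ.filter inB).card = 4 := by decide
  have h7 := Finset.eq_of_subset_of_card_le h5 (by rw [Finset.card_image_of_injective _ hinj, hB, h6])
  have h8 : u * i + s ∈ B.image (fun i => u * i + s) := by
    rw [h7, Finset.mem_filter]; exact ⟨Finset.mem_univ _, hi⟩
  rw [Finset.mem_image] at h8
  obtain ⟨j, hj, hji⟩ := h8
  rwa [← hinj hji]

/-- coordinates -/
theorem exists_coord {G : Type u} [Group G] {X : Type v} {Y : Type w} [MulAction G X] [MulAction G Y]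
    (hX : Nat.card X = 13) (hY : Nat.card Y = 13) (I : X → Y → Prop) (hI : ∀ (g : G) x y, I (g • x) (g • y) ↔ I x y)
    (h4 : ∀ y, Nat.card {x // I x y} = 4) (h1 : ∀ x x' y y', x ≠ x' → I x y → I x' y → I x y' → I x' y' → y = y')
    (fX : ∀ g : G, orderOf g = 13 → ∀ x : X, g • x ≠ x) (fY : ∀ g : G, orderOf g = 13 → ∀ y : Y, g • y ≠ y)
    {g : G} (hg : orderOf g = 13) :
    ∃ (φ : X ≃ ZMod 13) (ψ : Y ≃ ZMod 13), ∀ x y, I x y ↔ inB (φ x - ψ y) := by
  classical
  haveI : Finite X := Nat.finite_of_card_ne_zero (by rw [hX]; norm_num)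
  haveI : Nonempty Y := (Nat.card_pos_iff.mp (by rw [hY]; norm_num)).1
  obtain ⟨y0⟩ := ‹Nonempty Y›
  have hne : Nonempty {x // I x y0} := (Nat.card_pos_iff.mp (by rw [h4 y0]; norm_num)).1
  obtain ⟨⟨x0, hx0⟩⟩ := hne
  have bX := pw_bij hg fX hX x0
  have bY := pw_bij hg fY hY y0
  set B : Finset (ZMod 13) := Finset.univ.filter (fun i => I (pw g i • x0) y0) with hBd
  have mB : ∀ i, i ∈ B ↔ I (pw g i • x0) y0 := by
    intro i; rw [hBd, Finset.mem_filter]; simp
  have cB : B.card = 4 := by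
    rw [← h4 y0, ← Fintype.card_coe B, ← Nat.card_eq_fintype_card]
    apply Nat.card_congr
    refine Equiv.ofBijective (fun i => ⟨pw g i.1 • x0, (mB _).mp i.2⟩) ⟨?_, ?_⟩
    · intro i j hij
      exact Subtype.ext (bX.1 (congrArg Subtype.val hij))
    · rintro ⟨x, hx⟩
      obtain ⟨i, hi⟩ := bX.2 x
      simp only at hi
      refine ⟨⟨i, ?_⟩, Subtype.ext hi⟩
      exact (mB i).mpr (by rw [hi]; exact hx)
  have h0 : (0 : ZMod 13) ∈ B := by rw [mB, pw_zero, one_smul]; exact hx0
  have key : ∀ i j, I (pw g i • x0) (pw g j • y0) ↔ i - j ∈ B := by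
    intro i j
    have e := hI (pw g j) (pw g (i - j) • x0) y0
    rw [← mul_smul, pw_sub hg, mul_inv_cancel_left] at e
    rw [mB, pw_sub hg]
    exact e
  obtain ⟨u, s, hu, hus⟩ := pds_main cB h0 (by
    intro p hp q hq p' hp' q' hq' hpq heq
    by_contra hne
    have hk : p - q ≠ 0 := sub_ne_zero.mpr hpq
    have e1 : I (pw g p • x0) (pw g (p - q) • y0) := by
      rw [key]
      rw [sub_sub_cancel]; exact hq
    have e2 : I (pw g p' • x0) (pw g (p - q) • y0) := by
      rw [key, heq, sub_sub_cancel]; exact hq'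
    have e3 := h1 (pw g p • x0) (pw g p' • x0) y0 (pw g (p - q) • y0) (fun h => hne (bX.1 h)) ((mB _).mp hp)
      ((mB _).mp hp') e1 e2
    exact fY _ (order_pw hg hk) y0 e3.symm)
  -- the affine map
  have hinj : Function.Bijective (fun i : ZMod 13 => u * i + s) := by
    rw [Nat.bijective_iff_injective_and_card]
    refine ⟨?_, rfl⟩
    intro i j hij
    have : u * i = u * j := add_right_cancel hij
    exact mul_left_cancel₀ hu this
  have hinj' : Function.Bijective (fun i : ZMod 13 => u * i) := by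
    rw [Nat.bijective_iff_injective_and_card]
    refine ⟨?_, rfl⟩
    intro i j hij
    exact mul_left_cancel₀ hu hij
  refine ⟨(Equiv.ofBijective _ bX).symm.trans (Equiv.ofBijective _ hinj),
    (Equiv.ofBijective _ bY).symm.trans (Equiv.ofBijective _ hinj'), fun x y => ?_⟩
  obtain ⟨i, rfl⟩ := bX.2 x
  obtain ⟨j, rfl⟩ := bY.2 y
  have q1 : (Equiv.ofBijective _ bX).symm (pw g i • x0) = i := (Equiv.ofBijective _ bX).symm_apply_apply i
  have q2 : (Equiv.ofBijective _ bY).symm (pw g j • y0) = j := (Equiv.ofBijective _ bY).symm_apply_apply j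
  simp only [Equiv.trans_apply, q1, q2, Equiv.ofBijective_apply]
  rw [key, hus]
  have : u * (i - j) + s = u * i + s - u * j := by ring
  rw [this]

theorem plane_iso {G : Type u} [Group G] [Finite G] [IsSimpleGroup G] (hG : Nat.card G = 5616)
    {X : Type v} {Y : Type w} [MulAction G X] [MulAction G Y]
    (hX : Nat.card X = 13) (hY : Nat.card Y = 13) (I : X → Y → Prop) (hI : ∀ (g : G) x y, I (g • x) (g • y) ↔ I x y)
    (h4 : ∀ y, Nat.card {x // I x y} = 4) (h1 : ∀ x x' y y', x ≠ x' → I x y → I x' y → I x y' → I x' y' → y = y')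
    (fX : ∀ g : G, orderOf g = 13 → ∀ x : X, g • x ≠ x) (fY : ∀ g : G, orderOf g = 13 → ∀ y : Y, g • y ≠ y) :
    Nonempty (G ≃* A0) := by
  obtain ⟨g, hg⟩ := exists_prime_orderOf_dvd_card' (G := G) 13 (by rw [hG]; norm_num)
  obtain ⟨φ, ψ, hφ⟩ := exists_coord hX hY I hI h4 h1 fX fY hg
  let ρ : G →* Equiv.Perm (ZMod 13) := (Equiv.permCongrHom φ).toMonoidHom.comp (MulAction.toPermHom G X)
  let ρ' : G →* Equiv.Perm (ZMod 13) := (Equiv.permCongrHom ψ).toMonoidHom.comp (MulAction.toPermHom G Y)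
  have hρ : ∀ a i, ρ a i = φ (a • φ.symm i) := fun a i => rfl
  have hρ' : ∀ a i, ρ' a i = ψ (a • ψ.symm i) := fun a i => rfl
  have hmem : ∀ a, ρ a ∈ A0 := by
    intro a
    refine ⟨ρ' a, fun i j => ?_⟩
    rw [hρ, hρ', ← hφ, hI, hφ, Equiv.apply_symm_apply, Equiv.apply_symm_apply]
  let f : G →* A0 := ρ.codRestrict A0 hmem
  have hf : Function.Injective f := by
    rw [← MonoidHom.ker_eq_bot_iff]
    rcases f.normal_ker.eq_bot_or_eq_top with h | h
    · exact h
    · exfalso
      have h2 : g ∈ f.ker := by rw [h]; trivial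
      have h3 : ρ g = 1 := congrArg Subtype.val (MonoidHom.mem_ker.mp h2)
      have h5 := hρ g 0
      rw [h3, Equiv.Perm.one_apply] at h5
      have h6 : φ.symm 0 = g • φ.symm 0 := by
        apply φ.injective
        rw [← h5, Equiv.apply_symm_apply]
      exact fX g hg _ h6.symm
  haveI : Finite A0 := inferInstance
  have hc : Nat.card G = Nat.card A0 := by
    have h2 := Nat.card_le_card_of_injective f hf
    have h3 := card_A0_le
    omega
  exact ⟨MulEquiv.ofBijective f ((Nat.bijective_iff_injective_and_card f).mpr ⟨hf, hc⟩)⟩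

end Cfsg.Agent.H67.L33
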