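import Cfsg.Agent.H67.L33.P3
import Cfsg.Agent.H67.L33.PlaneIso
import Cfsg.Agent.H67.M11.Three2
import Cfsg.Agent.H67.M11.Eleven2
import Cfsg.Agent.H17.Orbits

set_option autoImplicit false

/-!
# Local analysis in simple groups of order 5616 (helper67)
-/

namespace Cfsg.Agent.H67.L33

open Subgroup Cfsg

universe u

variable {G : Type u} [Group G]

/-- hypotheses: order 5616, involution centralizers GL(2, 3) -/
structure Hyp (G : Type u) [Group G] [Finite G] : Prop where
  card : Nat.card G = 5616
  simple : IsSimpleGroup G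
  cinv : ∀ s : G, orderOf s = 2 → Nat.card (centralizer ({s} : Set G)) = 48
  conj3 : ∀ s x s' x' : G, orderOf s = 2 → orderOf s' = 2 → orderOf x = 3 → orderOf x' = 3 → Commute s x →
    Commute s' x' → IsConj x x'
  c6 : ∀ s x : G, orderOf s = 2 → orderOf x = 3 → Commute s x → ∀ y, Commute s y → Commute x y →
    y = 1 ∨ y = x ∨ y = x * x ∨ y = s ∨ y = s * x ∨ y = s * (x * x)
  inv3 : ∀ s x : G, orderOf s = 2 → orderOf x = 3 → Commute s x → ∃ b, orderOf b = 2 ∧ Commute b s ∧ b * x * b⁻¹ = x⁻¹
  ex : ∃ s x : G, orderOf s = 2 ∧ orderOf x = 3 ∧ Commute s x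

theorem commute_iff_mem {x y : G} : y ∈ centralizer ({x} : Set G) ↔ Commute x y := by
  rw [mem_centralizer_singleton_iff]
  exact ⟨fun h => h.symm, fun h => h.symm⟩

theorem orderOf_dvd_card_cent [Finite G] {x y : G} (h : Commute x y) : orderOf y ∣ Nat.card (centralizer ({x} : Set G)) := by
  have h1 : y ∈ centralizer ({x} : Set G) := commute_iff_mem.mpr h
  have := orderOf_dvd_natCard (⟨y, h1⟩ : centralizer ({x} : Set G))
  rwa [Subgroup.orderOf_mk] at this

theorem cent_zpowers (x : G) : centralizer ((zpowers x : Subgroup G) : Set G) = centralizer ({x} : Set G) := by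
  ext y
  rw [mem_centralizer_iff, mem_centralizer_singleton_iff]
  constructor
  · intro h
    exact (h x (mem_zpowers x)).symm
  · rintro h _ ⟨k, rfl⟩
    have h1 : Commute y x := h
    exact (h1.zpow_right k).eq.symm

namespace Hyp

variable [Finite G] (H : Hyp G)

include H

theorem noncomm : ¬ IsMulCommutative G := by
  haveI := H.simple
  apply H17.not_comm_of_not_prime
  rw [H.card]; norm_num

/-- centralizers of elements of order 13 -/
theorem c13 {x : G} (hx : orderOf x = 13) : Nat.card (centralizer ({x} : Set G)) = 13 := by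
  haveI := H.simple
  have hnc := H.noncomm
  obtain ⟨P, hP⟩ := M11.exists_sylow_zpowers (p := 13) (m := 432) (by rw [H.card]; norm_num) (by norm_num) hx rfl
  have h13 : 13 ∣ Nat.card G := by rw [H.card]; norm_num
  have hn1 := H17.card_sylow_mod (G := G) (p := 13)
  have hn2 := H17.card_sylow_dvd (G := G) (p := 13) (k := 1) (m := 432) (by rw [H.card]; norm_num) (by norm_num)
  have hn3 := H17.card_sylow_ne_one (p := 13) hnc h13
  have hN := H17.card_normalizer_mul P
  have hCN : centralizer ((P : Subgroup G) : Set G) ≤ normalizer ((P : Subgroup G) : Set G) := centralizer_le_normalizer _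
  have hrel := H17.relIndex_dvd_of_card_prime (p := 13) (by norm_num) (P : Subgroup G) (by rw [hP, Nat.card_zpowers, hx])
  have hne := H17.relIndex_ne_one hnc h13 P
  have hmul := H17.relIndex_mul_card_of_le hCN
  have hCeq : centralizer ((P : Subgroup G) : Set G) = centralizer ({x} : Set G) := by
    rw [hP, cent_zpowers]
  rw [hCeq] at hmul hrel hne
  have h13C : 13 ∣ Nat.card (centralizer ({x} : Set G)) := by
    have := orderOf_dvd_card_cent (Commute.refl x)
    rwa [hx] at this
  have hodd : ¬ 2 ∣ Nat.card (centralizer ({x} : Set G)) := by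
    intro h2
    obtain ⟨s, hs⟩ := exists_prime_orderOf_dvd_card' 2 h2
    have hs2 : orderOf (s : G) = 2 := by rw [Subgroup.orderOf_coe, hs]
    have h1 := orderOf_dvd_card_cent (commute_iff_mem.mp s.2).symm
    rw [H.cinv _ hs2, hx] at h1
    omega
  have hcases : Nat.card (Sylow 13 G) = 27 ∨ Nat.card (Sylow 13 G) = 144 := by
    have key : ∀ d ∈ Nat.divisors 432, d % 13 = 1 → d ≠ 1 → d = 27 ∨ d = 144 := by decide +kernel
    exact key _ (Nat.mem_divisors.mpr ⟨hn2, by norm_num⟩) hn1 hn3
  rw [H.card] at hN
  set c := Nat.card (centralizer ({x} : Set G)) with hc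
  set r := (centralizer ({x} : Set G)).relIndex (normalizer ((P : Subgroup G) : Set G)) with hr
  have hr12 : r = 1 ∨ r = 2 ∨ r = 3 ∨ r = 4 ∨ r = 6 ∨ r = 12 := by
    have : r ∈ Nat.divisors 12 := Nat.mem_divisors.mpr ⟨hrel, by norm_num⟩
    rw [show Nat.divisors 12 = {1, 2, 3, 4, 6, 12} by decide +kernel] at this
    simpa using this
  rcases hcases with h | h
  · rw [h] at hN
    have hN' : Nat.card (normalizer ((P : Subgroup G) : Set G)) = 208 := by omega
    rw [hN'] at hmul
    rcases hr12 with e | e | e | e | e | e <;> rw [e] at hmul <;> omega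
  · rw [h] at hN
    have hN' : Nat.card (normalizer ((P : Subgroup G) : Set G)) = 39 := by omega
    rw [hN'] at hmul
    rcases hr12 with e | e | e | e | e | e <;> rw [e] at hmul hne <;> omega

end Hyp

end Cfsg.Agent.H67.L33
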