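import Cfsg.Agent.H67.L33.Loc
import Cfsg.Agent.M24X.L33

set_option autoImplicit false

/-!
# Local analysis in simple groups of order 5616: centralizers of elements of order 3 (helper67)
-/

namespace Cfsg.Agent.H67.L33

open Subgroup Cfsg

universe u

variable {G : Type u} [Group G]

theorem card_cent_conj (g x : G) : Nat.card (centralizer ({g * x * g⁻¹} : Set G)) = Nat.card (centralizer ({x} : Set G)) := by
  obtain ⟨e⟩ := M24X.centralizer_conj x g
  exact (Nat.card_congr e.toEquiv).symm

theorem commute_conj {g x y : G} (h : Commute x y) : Commute (g * x * g⁻¹) (g * y * g⁻¹) := by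
  show g * x * g⁻¹ * (g * y * g⁻¹) = g * y * g⁻¹ * (g * x * g⁻¹)
  have : x * y = y * x := h
  calc g * x * g⁻¹ * (g * y * g⁻¹) = g * (x * y) * g⁻¹ := by group
    _ = g * (y * x) * g⁻¹ := by rw [this]
    _ = _ := by group

theorem order_conj (g x : G) : orderOf (g * x * g⁻¹) = orderOf x :=
  orderOf_injective (MulAut.conj g).toMonoidHom (MulAut.conj g).injective x

namespace Hyp

variable [Finite G] (H : Hyp G)

include H

theorem cent_dvd {y : G} (hy : orderOf y = 3) : Nat.card (centralizer ({y} : Set G)) ∣ 432 := by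
  have h13 : ¬ 13 ∣ Nat.card (centralizer ({y} : Set G)) := by
    intro h
    obtain ⟨x, hx⟩ := exists_prime_orderOf_dvd_card' 13 h
    have hx' : orderOf (x : G) = 13 := by rw [Subgroup.orderOf_coe, hx]
    have h1 := orderOf_dvd_card_cent (commute_iff_mem.mp x.2).symm
    rw [H.c13 hx', hy] at h1
    omega
  have h1 : Nat.card (centralizer ({y} : Set G)) ∣ 13 * 432 := by
    rw [show 13 * 432 = 5616 by norm_num, ← H.card]; exact card_subgroup_dvd_card _
  have h2 : (Nat.card (centralizer ({y} : Set G))).Coprime 13 := by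
    rw [Nat.coprime_comm, Nat.Prime.coprime_iff_not_dvd (by norm_num)]; exact h13
  exact h2.dvd_of_dvd_mul_left h1

theorem cent_inv {s m : G} (hs : orderOf s = 2) (hm : orderOf m = 3) (hsm : Commute s m) :
    Nat.card (centralizer ({m} : Set G)) = 6 ∨ Nat.card (centralizer ({m} : Set G)) = 18 ∨
      Nat.card (centralizer ({m} : Set G)) = 54 := by
  have h432 := H.cent_dvd hm
  have h3 : 3 ∣ Nat.card (centralizer ({m} : Set G)) := by
    have := orderOf_dvd_card_cent (Commute.refl m); rwa [hm] at this
  have h2 : 2 ∣ Nat.card (centralizer ({m} : Set G)) := by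
    have := orderOf_dvd_card_cent hsm.symm; rwa [hs] at this
  have h4 : ¬ 4 ∣ Nat.card (centralizer ({m} : Set G)) := by
    intro h4
    obtain ⟨k, c, hc, hk⟩ : ∃ k c, ¬ 2 ∣ c ∧ Nat.card (centralizer ({m} : Set G)) = 2 ^ k * c := by
      obtain ⟨k, c, hc, hk⟩ := Nat.exists_eq_pow_mul_and_not_dvd (n := Nat.card (centralizer ({m} : Set G)))
        Nat.card_pos.ne' 2 (by norm_num)
      exact ⟨k, c, hc, hk⟩
    have hk2 : 2 ≤ k := by
      by_contra hlt
      have : k = 0 ∨ k = 1 := by omega
      rcases this with rfl | rfl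
      · rw [hk] at h2; rw [pow_zero, one_mul] at h2; exact hc h2
      · rw [hk] at h4
        have : 2 ∣ c := by
          rw [show 4 = 2 ^ 1 * 2 by norm_num] at h4
          exact Nat.dvd_of_mul_dvd_mul_left (by norm_num) h4
        exact hc this
    obtain ⟨Q, t, hQ, ht, htQ, hQm, hQt⟩ := M11.exists_central_invol (N := 0) hk hc (by omega)
    have hmQ : m ∉ Q := by
      intro h
      have := orderOf_dvd_natCard (⟨m, h⟩ : Q)
      rw [Subgroup.orderOf_mk, hm, hQ] at this
      have := Nat.Prime.dvd_of_dvd_pow Nat.prime_three this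
      omega
    have hm3 : m ^ 3 = 1 := by rw [← hm, pow_orderOf_eq_one]
    have hmm : m * m ∉ Q := by
      intro h
      apply hmQ
      have h5 := Q.mul_mem h h
      have h6 : m * m * (m * m) = m := by
        calc m * m * (m * m) = m ^ 3 * m := by simp only [pow_succ, pow_zero, one_mul, mul_assoc]
          _ = m := by rw [hm3, one_mul]
      rwa [h6] at h5
    have hall : ∀ y ∈ Q, y = 1 ∨ y = t := by
      intro y hy
      rcases H.c6 t m ht hm (hQm t htQ) y (hQt y hy).symm (hQm y hy).symm with h | h | h | h | h | h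
      · exact Or.inl h
      · rw [h] at hy; exact absurd hy hmQ
      · rw [h] at hy; exact absurd hy hmm
      · exact Or.inr h
      · rw [h] at hy
        exact absurd ((Q.mul_mem_cancel_left htQ).mp hy) hmQ
      · rw [h] at hy
        exact absurd ((Q.mul_mem_cancel_left htQ).mp hy) hmm
    have hcard : Nat.card Q ≤ 2 := by
      classical
      let f : Q → Bool := fun y => decide ((y : G) = 1)
      have hf : Function.Injective f := by
        intro a b hab
        apply Subtype.ext
        have hab' : ((a : G) = 1) ↔ ((b : G) = 1) := by simpa [f] using hab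
        rcases hall a a.2 with h | h <;> rcases hall b b.2 with h' | h'
        · rw [h, h']
        · rw [h, hab'.mp h]
        · rw [h', hab'.mpr h']
        · rw [h, h']
      have := Nat.card_le_card_of_injective f hf
      simpa using this
    rw [hQ] at hcard
    have : 2 ^ 2 ≤ 2 ^ k := Nat.pow_le_pow_right (by norm_num) hk2
    omega
  have key : ∀ d ∈ Nat.divisors 432, 3 ∣ d → 2 ∣ d → ¬ 4 ∣ d → d = 6 ∨ d = 18 ∨ d = 54 := by decide +kernel
  exact key _ (Nat.mem_divisors.mpr ⟨h432, by norm_num⟩) h3 h2 h4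

/-- the centralizer of an element of order 3 commuting with no involution -/
theorem cent_odd {y : G} (hy : orderOf y = 3) (h : ∀ s : G, orderOf s = 2 → ¬ Commute s y) :
    Nat.card (centralizer ({y} : Set G)) ∣ 27 := by
  have h2 : ¬ 2 ∣ Nat.card (centralizer ({y} : Set G)) := by
    intro h2
    obtain ⟨s, hs⟩ := exists_prime_orderOf_dvd_card' 2 h2
    exact h s (by rw [Subgroup.orderOf_coe, hs]) (commute_iff_mem.mp s.2).symm
  have key : ∀ d ∈ Nat.divisors 432, ¬ 2 ∣ d → d ∣ 27 := by decide +kernel
  exact key _ (Nat.mem_divisors.mpr ⟨H.cent_dvd hy, by norm_num⟩) h2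

theorem cent_eq_of_inv {s m s' m' : G} (hs : orderOf s = 2) (hm : orderOf m = 3) (hsm : Commute s m)
    (hs' : orderOf s' = 2) (hm' : orderOf m' = 3) (hsm' : Commute s' m') :
    Nat.card (centralizer ({m'} : Set G)) = Nat.card (centralizer ({m} : Set G)) := by
  obtain ⟨g, hg⟩ := isConj_iff.mp (H.conj3 s m s' m' hs hs' hm hm' hsm hsm')
  rw [← hg, card_cent_conj]

/-- Sylow 3-subgroups have order 27 -/
theorem card_syl (P : Sylow 3 G) : Nat.card (P : Subgroup G) = 27 := by
  have := H17.card_sylow_eq P (k := 3) (m := 208) (by rw [H.card]; norm_num) (by norm_num)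
  simpa using this

theorem syl_mem : Nat.card (Sylow 3 G) ∣ 208 ∧ Nat.card (Sylow 3 G) % 3 = 1 ∧ Nat.card (Sylow 3 G) ≠ 1 := by
  haveI := H.simple
  refine ⟨H17.card_sylow_dvd (k := 3) (by rw [H.card]; norm_num) (by norm_num), H17.card_sylow_mod,
    H17.card_sylow_ne_one H.noncomm (by rw [H.card]; norm_num)⟩

end Hyp

end Cfsg.Agent.H67.L33
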