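import Cfsg.Agent.H67.L33.Loc2

set_option autoImplicit false

/-!
# Local analysis in simple groups of order 5616: a 3-central element commuting with an involution (helper67)
-/

namespace Cfsg.Agent.H67.L33

open Subgroup Cfsg

universe u

variable {G : Type u} [Group G]

theorem half [Finite G] {C Y : Subgroup G} (hYC : Y ≤ C) (h : Nat.card C = 2 * Nat.card Y) :
    (∀ y ∈ C, Odd (orderOf y) → y ∈ Y) ∧ C ≤ normalizer (Y : Set G) := by
  have hidx : (Y.subgroupOf C).index = 2 := by
    have h1 := (Y.subgroupOf C).card_mul_index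
    have h2 : Nat.card (Y.subgroupOf C) = Nat.card Y := Nat.card_congr (subgroupOfEquivOfLe hYC).toEquiv
    rw [h2, h, mul_comm] at h1
    exact Nat.eq_of_mul_eq_mul_right Nat.card_pos h1
  constructor
  · intro y hy hodd
    obtain ⟨k, hk⟩ := hodd
    have h1 : (⟨y, hy⟩ : C) ^ 2 ∈ Y.subgroupOf C := Subgroup.sq_mem_of_index_two hidx _
    have h2 : y ^ 2 ∈ Y := h1
    have h3 : y = (y ^ 2) ^ (k + 1) := by
      rw [← pow_mul, show 2 * (k + 1) = (2 * k + 1) + 1 by ring, pow_succ, ← hk, pow_orderOf_eq_one, one_mul]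
    rw [h3]
    exact Y.pow_mem h2 _
  · rw [← normal_subgroupOf_iff_le_normalizer hYC]
    exact normal_of_index_eq_two hidx

theorem mem_zpowers3 {z w : G} (oz : orderOf z = 3) (hw : w ∈ zpowers z) : w = 1 ∨ w = z ∨ w = z⁻¹ := by
  have hz3 : z ^ 3 = 1 := by rw [← oz, pow_orderOf_eq_one]
  have hz3' : z ^ (3 : ℤ) = 1 := by exact_mod_cast hz3
  obtain ⟨k, rfl⟩ := hw
  have h1 : k = 3 * (k / 3) + k % 3 := by omega
  have h2 : z ^ k = z ^ (k % 3) := by
    conv_lhs => rw [h1, zpow_add, zpow_mul, hz3', one_zpow, one_mul]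
  have h3 : k % 3 = 0 ∨ k % 3 = 1 ∨ k % 3 = 2 := by omega
  show z ^ k = 1 ∨ z ^ k = z ∨ z ^ k = z⁻¹
  rw [h2]
  rcases h3 with h | h | h <;> rw [h]
  · left; exact zpow_zero z
  · right; left; exact zpow_one z
  · right; right
    rw [eq_inv_iff_mul_eq_one, ← zpow_add_one]
    exact hz3'

namespace Hyp

variable [Finite G] (H : Hyp G)

include H

theorem exists54 : ∃ s m : G, orderOf s = 2 ∧ orderOf m = 3 ∧ Commute s m ∧ Nat.card (centralizer ({m} : Set G)) = 54 := by
  obtain ⟨s0, m0, hs0, hm0, hsm⟩ := H.ex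
  by_contra hcon
  push Not at hcon
  have hc0 := hcon s0 m0 hs0 hm0 hsm
  have hc1 := H.cent_inv hs0 hm0 hsm
  obtain ⟨P, hP⟩ := (IsPGroup.of_card (p := 3) (n := 1) (G := zpowers m0) (by rw [Nat.card_zpowers, hm0]; norm_num)).exists_le_sylow
  have hmU : m0 ∈ (P : Subgroup G) := hP (mem_zpowers m0)
  have hU := H.card_syl P
  have hnc : ∃ x ∈ (P : Subgroup G), x * m0 ≠ m0 * x := by
    by_contra hall
    push Not at hall
    have hle : (P : Subgroup G) ≤ centralizer ({m0} : Set G) := fun x hx => mem_centralizer_singleton_iff.mpr (hall x hx)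
    have := card_dvd_of_le hle
    rw [hU] at this
    rcases hc1 with h | h | h
    · rw [h] at this; omega
    · rw [h] at this; omega
    · exact hc0 h
  obtain ⟨z, hz, oz, hzc, hzz⟩ := exists_center hU (by
    obtain ⟨x, hx, hxm⟩ := hnc
    exact ⟨x, hx, m0, hmU, hxm⟩)
  have hUC : (P : Subgroup G) ≤ centralizer ({z} : Set G) := fun x hx => mem_centralizer_singleton_iff.mpr (hzc x hx)
  have h27 : 27 ∣ Nat.card (centralizer ({z} : Set G)) := hU ▸ card_dvd_of_le hUC
  have hzinv : ∀ s : G, orderOf s = 2 → ¬ Commute s z := by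
    intro s hs hc
    rcases H.cent_inv hs oz hc with h | h | h
    · rw [h] at h27; omega
    · rw [h] at h27; omega
    · exact hcon s z hs oz hc h
  have hCz : Nat.card (centralizer ({z} : Set G)) = 27 := Nat.dvd_antisymm (H.cent_odd oz hzinv) h27
  have hUeq : (P : Subgroup G) = centralizer ({z} : Set G) := Subgroup.eq_of_le_of_card_ge hUC (by rw [hCz, hU])
  have hmemU : ∀ x, x ∈ (P : Subgroup G) ↔ x * z = z * x := by
    intro x
    have h1 : x ∈ (P : Subgroup G) ↔ x ∈ centralizer ({z} : Set G) := by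
      constructor
      · intro h; exact hUC h
      · intro h; exact hUeq ▸ h
    exact h1.trans mem_centralizer_singleton_iff
  have hmz : m0 ∉ zpowers z := by
    intro h
    obtain ⟨x, hx, hxm⟩ := hnc
    apply hxm
    obtain ⟨k, hk⟩ := h
    have h1 : Commute x z := hzc x hx
    have h2 := (h1.zpow_right k).eq
    rw [show z ^ k = m0 from hk] at h2
    exact h2
  have hY := card_cent9 hU hz oz hzc hzz hmU hmz
  have h9 : 9 ∣ Nat.card (centralizer ({m0} : Set G)) := hY ▸ card_dvd_of_le inf_le_right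
  have hc : Nat.card (centralizer ({m0} : Set G)) = 18 := by
    rcases hc1 with h | h | h
    · rw [h] at h9; omega
    · exact h
    · exact absurd h hc0
  obtain ⟨hY1, hY2⟩ := half (C := centralizer ({m0} : Set G)) (Y := (P : Subgroup G) ⊓ centralizer ({m0} : Set G)) inf_le_right
    (by rw [hY, hc])
  -- z not conjugate to its inverse
  have hzi : ∀ g : G, g * z * g⁻¹ ≠ z⁻¹ := by
    intro g hg
    obtain ⟨n1, n2, n3⟩ := H.syl_mem
    have hN := H17.card_normalizer_mul P
    rw [H.card] at hN
    have hnor : ∀ n ∈ normalizer ((P : Subgroup G) : Set G), n * z * n⁻¹ = z ∨ n * z * n⁻¹ = z⁻¹ := by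
      intro n hn
      have h1 : n * z * n⁻¹ ∈ zpowers z := by
        apply hzz
        · exact (mem_normalizer_iff.mp hn z).mp hz
        · intro x hx
          have h2 : n⁻¹ * x * n ∈ (P : Subgroup G) := by
            have := (mem_normalizer_iff.mp ((normalizer ((P : Subgroup G) : Set G)).inv_mem hn) x).mp hx
            rwa [inv_inv] at this
          have h3 := hzc _ h2
          calc x * (n * z * n⁻¹) = n * ((n⁻¹ * x * n) * z) * n⁻¹ := by group
            _ = n * (z * (n⁻¹ * x * n)) * n⁻¹ := by rw [h3]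
            _ = _ := by group
      rcases mem_zpowers3 oz h1 with h2 | h2 | h2
      · exfalso
        have h3 := order_conj n z
        rw [h2, orderOf_one, oz] at h3
        omega
      · exact Or.inl h2
      · exact Or.inr h2
    have hle : Nat.card (normalizer ((P : Subgroup G) : Set G)) ≤ 54 := by
      classical
      have hmem : ∀ n : normalizer ((P : Subgroup G) : Set G), (n : G) ∈ (P : Subgroup G) ∨ g⁻¹ * n ∈ (P : Subgroup G) := by
        intro n
        rcases hnor n n.2 with h1 | h1
        · left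
          rw [hmemU]
          exact mul_inv_eq_iff_eq_mul.mp h1
        · right
          rw [hmemU]
          rw [← hg] at h1
          have h2 : (n : G) * z = g * z * g⁻¹ * n := mul_inv_eq_iff_eq_mul.mp h1
          rw [mul_assoc, h2]; group
      let f : normalizer ((P : Subgroup G) : Set G) → Bool × (P : Subgroup G) := fun n =>
        if h : (n : G) ∈ (P : Subgroup G) then (true, ⟨n, h⟩) else (false, ⟨g⁻¹ * n, (hmem n).resolve_left h⟩)
      have hf : Function.Injective f := by
        intro a b hab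
        by_cases ha : (a : G) ∈ (P : Subgroup G) <;> by_cases hb : (b : G) ∈ (P : Subgroup G)
        · simp only [f, dif_pos ha, dif_pos hb, Prod.mk.injEq, Subtype.mk.injEq, true_and] at hab
          exact Subtype.ext hab
        · simp only [f, dif_pos ha, dif_neg hb, Prod.mk.injEq] at hab
          exact absurd hab.1 (by decide)
        · simp only [f, dif_neg ha, dif_pos hb, Prod.mk.injEq] at hab
          exact absurd hab.1 (by decide)
        · simp only [f, dif_neg ha, dif_neg hb, Prod.mk.injEq, Subtype.mk.injEq, true_and] at hab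
          exact Subtype.ext (mul_left_cancel hab)
      have h1 := Nat.card_le_card_of_injective f hf
      have h2 : Nat.card (P : Subgroup G) = 27 := hU
      rw [Nat.card_prod, h2] at h1
      simpa using h1
    have key : ∀ d ∈ Nat.divisors 208, d % 3 = 1 → d ≠ 1 → d = 4 ∨ d = 13 ∨ d = 16 ∨ d = 52 ∨ d = 208 := by decide +kernel
    have hN27 : Nat.card (normalizer ((P : Subgroup G) : Set G)) = 27 := by
      rcases key _ (Nat.mem_divisors.mpr ⟨n1, by norm_num⟩) n2 n3 with h | h | h | h | h <;> rw [h] at hN <;> omega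
    have hNU : (P : Subgroup G) = normalizer ((P : Subgroup G) : Set G) :=
      Subgroup.eq_of_le_of_card_ge le_normalizer (by rw [hN27, hU])
    have hgN : g ∈ normalizer ((P : Subgroup G) : Set G) := by
      rw [mem_normalizer_iff]
      intro x
      rw [hmemU, hmemU]
      have hz' : g * z⁻¹ * g⁻¹ = z := by
        calc g * z⁻¹ * g⁻¹ = (g * z * g⁻¹)⁻¹ := by group
          _ = z := by rw [hg, inv_inv]
      constructor
      · intro h
        have h1 : Commute x z := h
        have h2 := commute_conj (g := g) h1.inv_right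
        rw [hz'] at h2
        exact h2
      · intro h
        have h1 : Commute (g * x * g⁻¹) z := h
        have h2 := commute_conj (g := g⁻¹) h1
        have h3 : g⁻¹ * z * g⁻¹⁻¹ = z⁻¹ := by
          calc g⁻¹ * z * g⁻¹⁻¹ = g⁻¹ * (g * z⁻¹ * g⁻¹) * g⁻¹⁻¹ := by rw [hz']
            _ = z⁻¹ := by group
        have h4 : g⁻¹ * (g * x * g⁻¹) * g⁻¹⁻¹ = x := by group
        rw [h3, h4] at h2
        have h5 := h2.inv_right
        rw [inv_inv] at h5
        exact h5
    rw [← hNU, hmemU] at hgN
    have h1 : g * z * g⁻¹ = z := by rw [hgN]; group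
    rw [hg] at h1
    have h2 : z * z = 1 := by
      have := congrArg (fun q => z * q) h1
      simp only [mul_inv_cancel] at this
      exact this.symm
    have h3 := orderOf_dvd_of_pow_eq_one (show z ^ 2 = 1 by rw [pow_two]; exact h2)
    rw [oz] at h3
    omega
  -- the conjugate of z
  have hzC : z ∈ centralizer ({m0} : Set G) := by
    rw [mem_centralizer_singleton_iff]; exact (hzc m0 hmU).symm
  have hs0C : s0 ∈ centralizer ({m0} : Set G) := by
    rw [mem_centralizer_singleton_iff]; exact hsm
  have hwC : s0 * z * s0⁻¹ ∈ centralizer ({m0} : Set G) :=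
    (centralizer ({m0} : Set G)).mul_mem ((centralizer ({m0} : Set G)).mul_mem hs0C hzC) ((centralizer ({m0} : Set G)).inv_mem hs0C)
  have ow : orderOf (s0 * z * s0⁻¹) = 3 := by rw [order_conj, oz]
  have hwY := hY1 _ hwC (by rw [ow]; decide)
  have hzY : z ∈ (P : Subgroup G) ⊓ centralizer ({m0} : Set G) := ⟨hz, hzC⟩
  have hmY : m0 ∈ (P : Subgroup G) ⊓ centralizer ({m0} : Set G) := ⟨hmU, mem_centralizer_singleton_iff.mpr rfl⟩
  have hwz : s0 * z * s0⁻¹ ∉ zpowers z := by
    intro h
    rcases mem_zpowers3 oz h with h | h | h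
    · rw [h, orderOf_one] at ow; omega
    · exact hzinv s0 hs0 (mul_inv_eq_iff_eq_mul.mp h)
    · exact hzi s0 h
  obtain ⟨i, j, hi, hj, hij⟩ := span9 hY hzY hmY oz hm0 (hzc m0 hmU).symm hmz _ hwY
  have hj0 : j ≠ 0 := by
    rintro rfl
    apply hwz
    rw [hij, pow_zero, mul_one]
    exact pow_mem (mem_zpowers z) i
  have hmjo : orderOf (m0 ^ j) = 3 := by
    rw [orderOf_pow' _ hj0, hm0]
    have : j = 1 ∨ j = 2 := by omega
    rcases this with rfl | rfl <;> decide
  have hmj : m0 ^ j ∉ zpowers z := by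
    intro h
    apply hwz
    rw [hij]
    exact (zpowers z).mul_mem (pow_mem (mem_zpowers z) i) h
  obtain ⟨u, hu, huu⟩ := orb hU hz oz hzc hzz ((P : Subgroup G).pow_mem hmU j) hmj (pow_mem (mem_zpowers z) i)
  have hcomm : m0 ^ j * z ^ i = s0 * z * s0⁻¹ := by
    rw [hij]
    have h1 : Commute m0 z := hzc m0 hmU
    exact (h1.pow_pow j i).eq
  rw [hcomm] at huu
  have e1 : Nat.card (centralizer ({s0 * z * s0⁻¹} : Set G)) = 18 := by
    rw [← huu, card_cent_conj, ← hc]
    exact H.cent_eq_of_inv hs0 hm0 hsm hs0 hmjo (hsm.pow_right j)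
  rw [card_cent_conj, hCz] at e1
  omega

end Hyp

end Cfsg.Agent.H67.L33
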