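import Cfsg.Agent.H67.L33.Loc3

set_option autoImplicit false

/-!
# Local analysis in simple groups of order 5616: the centralizer of a 3-central element (helper67)
-/

namespace Cfsg.Agent.H67.L33

open Subgroup Cfsg

universe u

variable {G : Type u} [Group G]

structure Loc54 (m : G) (U : Subgroup G) : Prop where
  om : orderOf m = 3
  cC : Nat.card (centralizer ({m} : Set G)) = 54
  cU : Nat.card U = 27
  mU : m ∈ U
  hc : ∀ x ∈ U, x * m = m * x
  hz : ∀ y ∈ U, (∀ x ∈ U, x * y = y * x) → y ∈ zpowers m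
  mem : ∀ y, Commute m y → Odd (orderOf y) → y ∈ U
  norm : ∀ y, Commute m y → ∀ u ∈ U, y * u * y⁻¹ ∈ U

theorem exists_order3 [Finite G] {K : Subgroup G} (h : Nat.card K ∣ 27) (h1 : K ≠ ⊥) : ∃ y ∈ K, orderOf y = 3 := by
  have h2 : Nat.card K ≠ 1 := fun h3 => h1 (Subgroup.eq_bot_of_card_eq K h3)
  have h3 : 3 ∣ Nat.card K := by
    rcases div27 h with e | e | e | e <;> rw [e] at h2 ⊢ <;> first | exact absurd rfl h2 | norm_num
  obtain ⟨y, hy⟩ := exists_prime_orderOf_dvd_card' 3 h3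
  exact ⟨y, y.2, by rw [Subgroup.orderOf_coe, hy]⟩

theorem odd_of_mem27 [Finite G] {U : Subgroup G} (hU : Nat.card U = 27) {x : G} (hx : x ∈ U) : Odd (orderOf x) := by
  have h1 := orderOf_dvd_natCard (⟨x, hx⟩ : U)
  rw [Subgroup.orderOf_mk, hU] at h1
  rcases div27 h1 with e | e | e | e <;> rw [e] <;> decide

namespace Hyp

variable [Finite G] (H : Hyp G)

include H

theorem good_of_inv {s y : G} (hs : orderOf s = 2) (hy : orderOf y = 3) (h : Commute s y) :
    Nat.card (centralizer ({y} : Set G)) = 54 := by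
  obtain ⟨s0, m0, h1, h2, h3, h4⟩ := H.exists54
  rw [H.cent_eq_of_inv h1 h2 h3 hs hy h, h4]

theorem conj_good {y y' : G} (hy : orderOf y = 3) (hy' : orderOf y' = 3) (h : Nat.card (centralizer ({y} : Set G)) = 54)
    (h' : Nat.card (centralizer ({y'} : Set G)) = 54) : ∃ g, g * y * g⁻¹ = y' := by
  obtain ⟨s, hs⟩ := exists_prime_orderOf_dvd_card' (G := centralizer ({y} : Set G)) 2 (by rw [h]; norm_num)
  obtain ⟨s', hs'⟩ := exists_prime_orderOf_dvd_card' (G := centralizer ({y'} : Set G)) 2 (by rw [h']; norm_num)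
  have h1 : orderOf (s : G) = 2 := by rw [Subgroup.orderOf_coe, hs]
  have h1' : orderOf (s' : G) = 2 := by rw [Subgroup.orderOf_coe, hs']
  exact isConj_iff.mp (H.conj3 _ _ _ _ h1 h1' hy hy' (commute_iff_mem.mp s.2).symm (commute_iff_mem.mp s'.2).symm)

theorem big {P : Subgroup G} (hP : Nat.card P = 27) {y : G} (hy : orderOf y = 3) (hPy : ∀ x ∈ P, x * y = y * x) :
    ∀ x, Commute y x → Odd (orderOf x) → x ∈ P := by
  have hle : P ≤ centralizer ({y} : Set G) := fun x hx => mem_centralizer_singleton_iff.mpr (hPy x hx)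
  have h27 : 27 ∣ Nat.card (centralizer ({y} : Set G)) := hP ▸ card_dvd_of_le hle
  by_cases h : ∃ s : G, orderOf s = 2 ∧ Commute s y
  · obtain ⟨s, hs, hsy⟩ := h
    have h54 := H.good_of_inv hs hy hsy
    have h1 := (half hle (by rw [h54, hP])).1
    intro x hx hodd
    exact h1 x (commute_iff_mem.mpr hx) hodd
  · push Not at h
    have h1 := Nat.dvd_antisymm (H.cent_odd hy h) h27
    have h2 : P = centralizer ({y} : Set G) := Subgroup.eq_of_le_of_card_ge hle (by rw [h1, hP])
    intro x hx _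
    have h3 : x ∈ centralizer ({y} : Set G) := commute_iff_mem.mpr hx
    exact h2 ▸ h3

theorem nonab (P : Sylow 3 G) : ∃ x ∈ (P : Subgroup G), ∃ y ∈ (P : Subgroup G), x * y ≠ y * x := by
  by_contra hcon
  push Not at hcon
  have hab : ∀ R : Sylow 3 G, ∀ x ∈ (R : Subgroup G), ∀ y ∈ (R : Subgroup G), x * y = y * x := by
    intro R x hx y hy
    let e := R.equiv P
    have h1 := hcon (e ⟨x, hx⟩) (e ⟨x, hx⟩).2 (e ⟨y, hy⟩) (e ⟨y, hy⟩).2
    have h2 : e (⟨x, hx⟩ * ⟨y, hy⟩) = e (⟨y, hy⟩ * ⟨x, hx⟩) := by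
      rw [map_mul, map_mul]; exact Subtype.ext h1
    exact congrArg Subtype.val (e.injective h2)
  have hint : ∀ R : Sylow 3 G, R ≠ P → (R : Subgroup G).subgroupOf (P : Subgroup G) = ⊥ := by
    intro R hRP
    by_contra hne
    have hcard : Nat.card ((R : Subgroup G) ⊓ (P : Subgroup G) : Subgroup G) ∣ 27 := by
      rw [← H.card_syl P]; exact card_dvd_of_le inf_le_right
    have hne' : (R : Subgroup G) ⊓ (P : Subgroup G) ≠ ⊥ := by
      intro h
      apply hne
      rw [← inf_subgroupOf_right, h, bot_subgroupOf]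
    obtain ⟨y, hy, oy⟩ := exists_order3 hcard hne'
    have h1 := H.big (H.card_syl P) oy (fun x hx => hab P x hx y hy.2)
    have hle : (R : Subgroup G) ≤ (P : Subgroup G) := fun x hx =>
      h1 x (hab R y hy.1 x hx) (odd_of_mem27 (H.card_syl R) hx)
    apply hRP
    exact Sylow.ext (Subgroup.eq_of_le_of_card_ge hle (by rw [H.card_syl, H.card_syl]))
  have h1 := H17.card_sylow_modEq_of_large_index P 3 (by
    intro R hR
    rw [hint R hR, index_bot, H.card_syl P]
    norm_num)
  obtain ⟨n1, n2, n3⟩ := H.syl_mem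
  have key : ∀ d ∈ Nat.divisors 208, d % 27 = 1 → d = 1 := by decide +kernel
  exact n3 (key _ (Nat.mem_divisors.mpr ⟨n1, by norm_num⟩) h1)

theorem exists_loc {m : G} (om : orderOf m = 3) (hC : Nat.card (centralizer ({m} : Set G)) = 54) :
    ∃ U, Loc54 m U := by
  obtain ⟨K, hK⟩ := Sylow.exists_subgroup_card_pow_prime (G := centralizer ({m} : Set G)) 3 (n := 3) (by rw [hC]; norm_num)
  have hcU : Nat.card (K.map (centralizer ({m} : Set G)).subtype) = 27 := by
    rw [Nat.card_congr (K.equivMapOfInjective _ (subtype_injective _)).toEquiv.symm, hK]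
    norm_num
  set U := K.map (centralizer ({m} : Set G)).subtype with hUdef
  have hUC : U ≤ centralizer ({m} : Set G) := map_subtype_le _
  obtain ⟨h1, h2⟩ := half hUC (by rw [hC, hcU])
  have hmem : ∀ y, Commute m y → Odd (orderOf y) → y ∈ U := fun y hy ho => h1 y (commute_iff_mem.mpr hy) ho
  have hmU : m ∈ U := hmem m (Commute.refl m) (by rw [om]; decide)
  have hc : ∀ x ∈ U, x * m = m * x := fun x hx => mem_centralizer_singleton_iff.mp (hUC hx)
  obtain ⟨P, hP⟩ := (IsPGroup.of_card (p := 3) (n := 3) (G := U) (by rw [hcU]; norm_num)).exists_le_sylow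
  have hUP : U = P := Subgroup.eq_of_le_of_card_ge hP (by rw [hcU, H.card_syl])
  have hna : ∃ x ∈ U, ∃ y ∈ U, x * y ≠ y * x := by
    rw [hUP]; exact H.nonab P
  obtain ⟨z, hz, oz, hzc, hzz⟩ := exists_center hcU hna
  have hmz : m ∈ zpowers z := hzz m hmU hc
  have heq : zpowers m = zpowers z := Subgroup.eq_of_le_of_card_ge ((zpowers_le).mpr hmz) (by
    rw [Nat.card_zpowers, Nat.card_zpowers, om, oz])
  refine ⟨U, om, hC, hcU, hmU, hc, ?_, hmem, ?_⟩
  · intro y hy hyc
    rw [heq]; exact hzz y hy hyc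
  · intro y hy u hu
    exact (mem_normalizer_iff.mp (h2 (commute_iff_mem.mpr hy)) u).mp hu

end Hyp

end Cfsg.Agent.H67.L33
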