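import Cfsg.Agent.H67.L33.Loc4

set_option autoImplicit false

/-!
# Local analysis in simple groups of order 5616: the elementary abelian subgroups of order 9 (helper67)
-/

namespace Cfsg.Agent.H67.L33

open Subgroup Cfsg

universe u

variable {G : Type u} [Group G]

theorem mem_norm_of [Finite G] {E : Subgroup G} {g : G} (h : ∀ x ∈ E, g * x * g⁻¹ ∈ E) : g ∈ normalizer (E : Set G) := by
  haveI : Finite (E : Set G) := inferInstance
  exact mem_normalizer_fintype h

theorem norm_mem {E : Subgroup G} {g x : G} (h : g ∈ normalizer (E : Set G)) (hx : x ∈ E) : g * x * g⁻¹ ∈ E :=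
  (mem_normalizer_iff.mp h x).mp hx

/-- the elementary abelian subgroups of order 9 which are points or lines -/
structure TI (E : Subgroup G) : Prop where
  card : Nat.card E = 9
  ti : ∀ g x, x ∈ E → x ≠ 1 → g * x * g⁻¹ ∈ E → g ∈ normalizer (E : Set G)
  good : ∀ x ∈ E, x ≠ 1 → orderOf x = 3 ∧ Nat.card (centralizer ({x} : Set G)) = 54
  comm : ∀ x ∈ E, ∀ y ∈ E, x * y = y * x

structure PConf (m v t b : G) (U : Subgroup G) : Prop where
  loc : Loc54 m U
  vU : v ∈ U
  ov : orderOf v = 3
  hv : v ∉ zpowers m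
  ot : orderOf t = 2
  tm : Commute t m
  tv : t * v * t⁻¹ = v⁻¹
  ob : orderOf b = 2
  bm : b * m * b⁻¹ = m⁻¹
  bv : Commute b v

theorem inv_eq_sq {m : G} (om : orderOf m = 3) : m⁻¹ = m ^ 2 := by
  have h1 : m ^ 3 = 1 := by rw [← om, pow_orderOf_eq_one]
  rw [inv_eq_iff_mul_eq_one, ← pow_succ']
  exact h1

namespace PConf

variable [Finite G] {m v t b : G} {U : Subgroup G} (C : PConf m v t b U)

include C

theorem card9 : Nat.card (U ⊓ centralizer ({v} : Set G) : Subgroup G) = 9 :=
  card_cent9 C.loc.cU C.loc.mU C.loc.om C.loc.hc C.loc.hz C.vU C.hv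

theorem mE : m ∈ U ⊓ centralizer ({v} : Set G) :=
  ⟨C.loc.mU, mem_centralizer_singleton_iff.mpr (C.loc.hc v C.vU).symm⟩

theorem vE : v ∈ U ⊓ centralizer ({v} : Set G) := ⟨C.vU, mem_centralizer_singleton_iff.mpr rfl⟩

theorem cmv : Commute m v := (C.loc.hc v C.vU).symm

theorem span : ∀ y ∈ U ⊓ centralizer ({v} : Set G), ∃ i j : ℕ, i < 3 ∧ j < 3 ∧ y = m ^ i * v ^ j :=
  span9 C.card9 C.mE C.vE C.loc.om C.ov C.cmv C.hv

theorem hm : m ∉ zpowers v := by
  intro h
  apply C.hv
  have heq : zpowers m = zpowers v := Subgroup.eq_of_le_of_card_ge ((zpowers_le).mpr h) (by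
    rw [Nat.card_zpowers, Nat.card_zpowers, C.loc.om, C.ov])
  rw [heq]; exact mem_zpowers v

theorem U_le : U ≤ normalizer ((U ⊓ centralizer ({v} : Set G) : Subgroup G) : Set G) :=
  le_norm9 C.loc.cU inf_le_left C.card9

theorem t_mem : t ∈ normalizer ((U ⊓ centralizer ({v} : Set G) : Subgroup G) : Set G) := by
  apply mem_norm_of
  intro x hx
  refine ⟨C.loc.norm t C.tm.symm x hx.1, ?_⟩
  have h1 : Commute x v := mem_centralizer_singleton_iff.mp hx.2
  have h2 := commute_conj (g := t) h1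
  rw [C.tv] at h2
  exact mem_centralizer_singleton_iff.mpr (by
    have h3 := h2.inv_right
    rw [inv_inv] at h3
    exact h3)

theorem b_mem : b ∈ normalizer ((U ⊓ centralizer ({v} : Set G) : Subgroup G) : Set G) := by
  apply mem_norm_of
  intro x hx
  constructor
  · apply C.loc.mem
    · have h1 : Commute m x := (C.loc.hc x hx.1).symm
      have h2 := commute_conj (g := b) h1
      rw [C.bm] at h2
      have h3 := h2.inv_left
      rwa [inv_inv] at h3
    · rw [order_conj]; exact odd_of_mem27 C.loc.cU hx.1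
  · have h1 : Commute x v := mem_centralizer_singleton_iff.mp hx.2
    have h2 := commute_conj (g := b) h1
    have h3 : b * v * b⁻¹ = v := by rw [C.bv.eq]; group
    rw [h3] at h2
    exact mem_centralizer_singleton_iff.mpr h2

theorem cent_le : centralizer ({m} : Set G) ≤ normalizer ((U ⊓ centralizer ({v} : Set G) : Subgroup G) : Set G) := by
  have h1 : U ≤ centralizer ({m} : Set G) ⊓ normalizer ((U ⊓ centralizer ({v} : Set G) : Subgroup G) : Set G) :=
    le_inf (fun x hx => mem_centralizer_singleton_iff.mpr (C.loc.hc x hx)) C.U_le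
  have h2 : 27 ∣ Nat.card (centralizer ({m} : Set G) ⊓ normalizer ((U ⊓ centralizer ({v} : Set G) : Subgroup G) : Set G) : Subgroup G) :=
    C.loc.cU ▸ card_dvd_of_le h1
  have h3 : 2 ∣ Nat.card (centralizer ({m} : Set G) ⊓ normalizer ((U ⊓ centralizer ({v} : Set G) : Subgroup G) : Set G) : Subgroup G) := by
    have h4 : t ∈ centralizer ({m} : Set G) ⊓ normalizer ((U ⊓ centralizer ({v} : Set G) : Subgroup G) : Set G) :=
      ⟨mem_centralizer_singleton_iff.mpr C.tm, C.t_mem⟩
    have h5 := orderOf_dvd_natCard (⟨t, h4⟩ : (centralizer ({m} : Set G) ⊓ normalizer ((U ⊓ centralizer ({v} : Set G) : Subgroup G) : Set G) : Subgroup G))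
    rwa [Subgroup.orderOf_mk, C.ot] at h5
  have h4 : 27 * 2 ∣ Nat.card (centralizer ({m} : Set G) ⊓ normalizer ((U ⊓ centralizer ({v} : Set G) : Subgroup G) : Set G) : Subgroup G) :=
    Nat.Coprime.mul_dvd_of_dvd_of_dvd (by norm_num) h2 h3
  have h5 := Subgroup.eq_of_le_of_card_ge (H := centralizer ({m} : Set G) ⊓ normalizer ((U ⊓ centralizer ({v} : Set G) : Subgroup G) : Set G))
    (K := centralizer ({m} : Set G)) inf_le_left (by
      rw [C.loc.cC]; exact Nat.le_of_dvd Nat.card_pos h4)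
  rw [← h5]
  exact inf_le_right

end PConf

end Cfsg.Agent.H67.L33
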