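import Cfsg.Agent.H67.L33.Loc5

set_option autoImplicit false

/-!
# Local analysis in simple groups of order 5616: transitivity on the elementary abelian subgroups (helper67)
-/

namespace Cfsg.Agent.H67.L33

open Subgroup Cfsg

universe u

variable {G : Type u} [Group G]

/-- conjugacy under a subgroup -/
def RC (N : Subgroup G) (x y : G) : Prop := ∃ n ∈ N, n * x * n⁻¹ = y

theorem RC.symm {N : Subgroup G} {x y : G} (h : RC N x y) : RC N y x := by
  obtain ⟨n, hn, rfl⟩ := h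
  exact ⟨n⁻¹, N.inv_mem hn, by group⟩

theorem RC.trans {N : Subgroup G} {x y z : G} (h : RC N x y) (h' : RC N y z) : RC N x z := by
  obtain ⟨n, hn, rfl⟩ := h
  obtain ⟨k, hk, rfl⟩ := h'
  exact ⟨k * n, N.mul_mem hk hn, by group⟩

theorem RC.refl {N : Subgroup G} (x : G) : RC N x x := ⟨1, N.one_mem, by group⟩

theorem inv_notMem {m v : G} (h : v ∉ zpowers m) : v⁻¹ ∉ zpowers m := fun h1 => h ((zpowers m).inv_mem_iff.mp h1)

namespace PConf

variable [Finite G] (H : Hyp G) {m v t b : G} {U : Subgroup G} (C : PConf m v t b U)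

include H C

theorem exists_V : ∃ V, Loc54 v V ∧ V ≤ normalizer ((U ⊓ centralizer ({v} : Set G) : Subgroup G) : Set G) ∧ m ∈ V := by
  have hgood := H.good_of_inv C.ob C.ov C.bv
  obtain ⟨V, hV⟩ := H.exists_loc C.ov hgood
  have hle : U ⊓ centralizer ({v} : Set G) ≤ V := by
    intro x hx
    exact hV.mem x (commute_iff_mem.mp hx.2) (odd_of_mem27 C.loc.cU hx.1)
  exact ⟨V, hV, le_norm9 hV.cU hle C.card9, hle C.mE⟩

theorem trans' : ∀ x ∈ U ⊓ centralizer ({v} : Set G), x ≠ 1 →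
    RC (normalizer ((U ⊓ centralizer ({v} : Set G) : Subgroup G) : Set G)) m x := by
  obtain ⟨V, hV, hVN, hmV⟩ := C.exists_V H
  set N := normalizer ((U ⊓ centralizer ({v} : Set G) : Subgroup G) : Set G) with hN
  have r1 : RC N m m⁻¹ := ⟨b, C.b_mem, C.bm⟩
  have r2 : RC N v v⁻¹ := ⟨t, C.t_mem, C.tv⟩
  have r3 : ∀ c ∈ zpowers m, RC N v (v * c) := by
    intro c hc
    obtain ⟨u, hu, huu⟩ := orb C.loc.cU C.loc.mU C.loc.om C.loc.hc C.loc.hz C.vU C.hv hc
    exact ⟨u, C.U_le hu, huu⟩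
  have r4 : ∀ c ∈ zpowers m, RC N v⁻¹ (v⁻¹ * c) := by
    intro c hc
    obtain ⟨u, hu, huu⟩ := orb C.loc.cU C.loc.mU C.loc.om C.loc.hc C.loc.hz (U.inv_mem C.vU) (inv_notMem C.hv) hc
    exact ⟨u, C.U_le hu, huu⟩
  have r5 : RC N m (m * v) := by
    obtain ⟨u, hu, huu⟩ := orb hV.cU hV.mU hV.om hV.hc hV.hz hmV C.hm (mem_zpowers v)
    exact ⟨u, hVN hu, huu⟩
  have r6 : RC N m v := by
    have h1 := r3 m (mem_zpowers m)
    rw [← C.cmv.eq] at h1
    exact r5.trans h1.symm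
  intro x hx hx1
  obtain ⟨i, j, hi, hj, hij⟩ := C.span x hx
  have hij' : x = v ^ j * m ^ i := by rw [hij, (C.cmv.pow_pow i j).eq]
  have hj' : j = 0 ∨ j = 1 ∨ j = 2 := by omega
  have hi' : i = 0 ∨ i = 1 ∨ i = 2 := by omega
  rcases hj' with rfl | rfl | rfl
  · rcases hi' with rfl | rfl | rfl
    · exact absurd (by rw [hij]; simp) hx1
    · rw [hij]; simpa using RC.refl m
    · rw [hij, pow_zero, mul_one, ← inv_eq_sq C.loc.om]; exact r1
  · rw [hij', pow_one]
    exact r6.trans (r3 _ (pow_mem (mem_zpowers m) i))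
  · rw [hij', ← inv_eq_sq C.ov]
    exact (r6.trans r2).trans (r4 _ (pow_mem (mem_zpowers m) i))

theorem ti : TI (U ⊓ centralizer ({v} : Set G)) := by
  have htr := C.trans' H
  refine ⟨C.card9, ?_, ?_, ?_⟩
  · intro g x hx hx1 hgx
    obtain ⟨n, hn, hnx⟩ := htr x hx hx1
    obtain ⟨k, hk, hkx⟩ := htr _ hgx (by
      intro h
      apply hx1
      have h1 : x = g⁻¹ * (g * x * g⁻¹) * g := by group
      rw [h1, h]; group)
    have hc : k⁻¹ * g * n ∈ centralizer ({m} : Set G) := by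
      rw [mem_centralizer_singleton_iff]
      have h1 : g * (n * m * n⁻¹) * g⁻¹ = k * m * k⁻¹ := by rw [hnx, hkx]
      calc k⁻¹ * g * n * m = k⁻¹ * (g * (n * m * n⁻¹) * g⁻¹) * g * n := by group
        _ = k⁻¹ * (k * m * k⁻¹) * g * n := by rw [h1]
        _ = m * (k⁻¹ * g * n) := by group
    have h2 := C.cent_le hc
    have h3 : g = k * (k⁻¹ * g * n) * n⁻¹ := by group
    rw [h3]
    exact mul_mem (mul_mem hk h2) (inv_mem hn)
  · intro x hx hx1
    obtain ⟨n, hn, hnx⟩ := htr x hx hx1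
    rw [← hnx, order_conj, card_cent_conj]
    exact ⟨C.loc.om, C.loc.cC⟩
  · intro x hx y hy
    obtain ⟨i, j, _, _, rfl⟩ := C.span x hx
    obtain ⟨k, l, _, _, rfl⟩ := C.span y hy
    have h1 : Commute (m ^ i * v ^ j) (m ^ k * v ^ l) :=
      ((Commute.pow_pow_self m i k).mul_right (C.cmv.pow_pow i l)).mul_left
        ((C.cmv.symm.pow_pow j k).mul_right (Commute.pow_pow_self v j l))
    exact h1

end PConf

end Cfsg.Agent.H67.L33
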