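import Cfsg.Agent.H67.L33.Loc6

set_option autoImplicit false

/-!
# Local analysis in simple groups of order 5616: points and lines exist (helper67)
-/

namespace Cfsg.Agent.H67.L33

open Subgroup Cfsg

universe u

variable {G : Type u} [Group G]

theorem exists_fixed [Finite G] {U : Subgroup G} {b : G} (hU : Nat.card U ∣ 27) (hna : ∃ x ∈ U, ∃ y ∈ U, x * y ≠ y * x)
    (ob : orderOf b = 2) (hb : ∀ u ∈ U, b * u * b⁻¹ ∈ U) : ∃ v ∈ U, orderOf v = 3 ∧ Commute b v := by
  have hb2 : b * b = 1 := by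
    have := pow_orderOf_eq_one b
    rwa [ob, pow_two] at this
  have hbi : b⁻¹ = b := by rw [inv_eq_iff_mul_eq_one]; exact hb2
  have hne : U ⊓ centralizer ({b} : Set G) ≠ ⊥ := by
    intro hbot
    let φ : U →* U :=
      { toFun := fun x => ⟨b * x * b⁻¹, hb x x.2⟩
        map_one' := Subtype.ext (by simp)
        map_mul' := fun x y => Subtype.ext (by
          show b * (x * y) * b⁻¹ = b * x * b⁻¹ * (b * y * b⁻¹)
          group) }
    have hfix : MonoidHom.FixedPointFree φ := by
      intro x hx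
      have h1 : b * (x : G) * b⁻¹ = x := congrArg Subtype.val hx
      have h2 : (x : G) ∈ U ⊓ centralizer ({b} : Set G) :=
        ⟨x.2, mem_centralizer_singleton_iff.mpr (mul_inv_eq_iff_eq_mul.mp h1).symm⟩
      rw [hbot, mem_bot] at h2
      exact Subtype.ext h2
    have hinv : Function.Involutive φ := by
      intro x
      apply Subtype.ext
      show b * (b * x * b⁻¹) * b⁻¹ = x
      rw [hbi]
      calc b * (b * (x : G) * b) * b = (b * b) * x * (b * b) := by group
        _ = x := by rw [hb2, one_mul, mul_one]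
    obtain ⟨x, hx, y, hy, hxy⟩ := hna
    exact hxy (congrArg Subtype.val (hfix.commute_all_of_involutive hinv ⟨x, hx⟩ ⟨y, hy⟩).eq)
  obtain ⟨v, hv, ov⟩ := exists_order3 ((card_dvd_of_le inf_le_left).trans hU) hne
  exact ⟨v, hv.1, ov, commute_iff_mem.mp hv.2⟩

namespace Hyp

variable [Finite G] (H : Hyp G)

include H

theorem exists_conf {m t b : G} {U : Subgroup G} (L : Loc54 m U) (ot : orderOf t = 2) (tm : Commute t m)
    (ob : orderOf b = 2) (bm : b * m * b⁻¹ = m⁻¹) (tb : Commute t b) : ∃ v, PConf m v t b U := by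
  have hna : ∃ x ∈ U, ∃ y ∈ U, x * y ≠ y * x := by
    by_contra hcon
    push Not at hcon
    have hle : U ≤ zpowers m := fun y hy => L.hz y hy (fun x hx => hcon x hx y hy)
    have := Nat.le_of_dvd Nat.card_pos (card_dvd_of_le hle)
    rw [L.cU, Nat.card_zpowers, L.om] at this
    omega
  have hbU : ∀ u ∈ U, b * u * b⁻¹ ∈ U := by
    intro u hu
    apply L.mem
    · have h1 : Commute m u := (L.hc u hu).symm
      have h2 := commute_conj (g := b) h1
      rw [bm] at h2
      have h3 := h2.inv_left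
      rwa [inv_inv] at h3
    · rw [order_conj]; exact odd_of_mem27 L.cU hu
  obtain ⟨v, hvU, ov, hbv⟩ := exists_fixed (by rw [L.cU]) hna ob hbU
  have hbm : ¬ Commute b m := by
    intro h
    have h1 : b * m * b⁻¹ = m := by rw [h.eq]; group
    rw [h1] at bm
    have h2 : m ^ 2 = 1 := by
      rw [pow_two]; nth_rewrite 2 [bm]; exact mul_inv_cancel m
    have := orderOf_dvd_of_pow_eq_one h2
    rw [L.om] at this
    omega
  have hv : v ∉ zpowers m := by
    intro h
    rcases mem_zpowers3 L.om h with h1 | h1 | h1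
    · rw [h1, orderOf_one] at ov; omega
    · rw [h1] at hbv; exact hbm hbv
    · rw [h1] at hbv
      have := hbv.inv_right
      rw [inv_inv] at this
      exact hbm this
  have htv : ¬ Commute t v := by
    intro h
    have htU : t ∉ U := by
      intro h1
      have := odd_of_mem27 L.cU h1
      rw [ot] at this
      exact absurd this (by decide)
    have hmU := L.mU
    rcases H.c6 t m ot L.om tm v h (L.hc v hvU).symm with h1 | h1 | h1 | h1 | h1 | h1
    · rw [h1, orderOf_one] at ov; omega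
    · exact hv (h1 ▸ mem_zpowers m)
    · exact hv (h1 ▸ (zpowers m).mul_mem (mem_zpowers m) (mem_zpowers m))
    · exact htU (h1 ▸ hvU)
    · rw [h1] at hvU
      exact htU ((U.mul_mem_cancel_right hmU).mp hvU)
    · rw [h1] at hvU
      exact htU ((U.mul_mem_cancel_right (U.mul_mem hmU hmU)).mp hvU)
  have hmem : t * v * t⁻¹ ∈ zpowers v := by
    have h1 : t * v * t⁻¹ ∈ U ⊓ centralizer ({b} : Set G) := by
      refine ⟨L.norm t tm.symm v hvU, commute_iff_mem.mpr ?_⟩
      have h2 := commute_conj (g := t) hbv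
      rwa [show t * b * t⁻¹ = b by rw [tb.eq]; group] at h2
    have h2 : zpowers v ≤ U ⊓ centralizer ({b} : Set G) := by
      rw [zpowers_le]; exact ⟨hvU, commute_iff_mem.mpr hbv⟩
    have h3 : Nat.card (U ⊓ centralizer ({b} : Set G) : Subgroup G) ∣ 27 := L.cU ▸ card_dvd_of_le inf_le_left
    have h4 : Nat.card (U ⊓ centralizer ({b} : Set G) : Subgroup G) ∣ 48 := H.cinv b ob ▸ card_dvd_of_le inf_le_right
    have h5 : Nat.card (U ⊓ centralizer ({b} : Set G) : Subgroup G) ≤ 3 := by
      rcases div27 h3 with e | e | e | e <;> rw [e] at h4 ⊢ <;> omega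
    have h6 := Subgroup.eq_of_le_of_card_ge h2 (by rw [Nat.card_zpowers, ov]; exact h5)
    rw [h6]; exact h1
  have tv : t * v * t⁻¹ = v⁻¹ := by
    rcases mem_zpowers3 ov hmem with h1 | h1 | h1
    · exfalso
      have := order_conj t v
      rw [h1, orderOf_one, ov] at this
      omega
    · exact absurd (mul_inv_eq_iff_eq_mul.mp h1) htv
    · exact h1
  exact ⟨v, L, hvU, ov, hv, ot, tm, tv, ob, bm, hbv⟩

theorem exists_pair : ∃ (m v w t b : G) (U : Subgroup G), PConf m v t b U ∧ PConf m w t (t * b) U ∧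
    U ⊓ centralizer ({v} : Set G) ≠ U ⊓ centralizer ({w} : Set G) := by
  obtain ⟨t, m, ot, om, tm, h54⟩ := H.exists54
  obtain ⟨U, L⟩ := H.exists_loc om h54
  obtain ⟨b, ob, bt, bm⟩ := H.inv3 t m ot om tm
  obtain ⟨v, hv⟩ := H.exists_conf L ot tm ob bm bt.symm
  have hbm : b ≠ t := by
    rintro rfl
    have h1 : b * m * b⁻¹ = m := by rw [tm.eq]; group
    rw [h1] at bm
    have h2 : m ^ 2 = 1 := by
      rw [pow_two]; nth_rewrite 2 [bm]; exact mul_inv_cancel m
    have := orderOf_dvd_of_pow_eq_one h2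
    rw [om] at this
    omega
  have ht2 : t * t = 1 := by
    have := pow_orderOf_eq_one t
    rwa [ot, pow_two] at this
  have hb2 : b * b = 1 := by
    have := pow_orderOf_eq_one b
    rwa [ob, pow_two] at this
  have otb : orderOf (t * b) = 2 := by
    apply orderOf_eq_prime
    · rw [pow_two]
      calc t * b * (t * b) = t * (b * t) * b := by group
        _ = t * (t * b) * b := by rw [bt.eq]
        _ = (t * t) * (b * b) := by group
        _ = 1 := by rw [ht2, hb2, one_mul]
    · intro h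
      apply hbm
      have h1 : t * b = t * t := by rw [h, ht2]
      exact mul_left_cancel h1
  have htbm : (t * b) * m * (t * b)⁻¹ = m⁻¹ := by
    calc (t * b) * m * (t * b)⁻¹ = t * (b * m * b⁻¹) * t⁻¹ := by group
      _ = t * m⁻¹ * t⁻¹ := by rw [bm]
      _ = m⁻¹ * t * t⁻¹ := by rw [tm.inv_right.eq]
      _ = m⁻¹ := by group
  obtain ⟨w, hw⟩ := H.exists_conf L ot tm otb htbm ((Commute.refl t).mul_right bt.symm)
  refine ⟨m, v, w, t, b, U, hv, hw, ?_⟩
  intro heq
  have hwE := hw.vE
  rw [← heq] at hwE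
  obtain ⟨i, j, _, _, hij⟩ := hv.span w hwE
  have h1 : (t * b) * v * (t * b)⁻¹ = v⁻¹ := by
    calc (t * b) * v * (t * b)⁻¹ = t * (b * v * b⁻¹) * t⁻¹ := by group
      _ = t * v * t⁻¹ := by rw [hv.bv.eq]; group
      _ = v⁻¹ := hv.tv
  have h2 : (t * b) * w * (t * b)⁻¹ = w := by rw [hw.bv.eq]; group
  have h3 : (t * b) * w * (t * b)⁻¹ = w⁻¹ := by
    rw [hij]
    calc (t * b) * (m ^ i * v ^ j) * (t * b)⁻¹ = ((t * b) * m * (t * b)⁻¹) ^ i * ((t * b) * v * (t * b)⁻¹) ^ j := by
            rw [conj_pow, conj_pow]; group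
      _ = m⁻¹ ^ i * v⁻¹ ^ j := by rw [htbm, h1]
      _ = v⁻¹ ^ j * m⁻¹ ^ i := ((hv.cmv.inv_inv).pow_pow i j).eq
      _ = (m ^ i * v ^ j)⁻¹ := by rw [mul_inv_rev, inv_pow, inv_pow]
  rw [h2] at h3
  have h4 : w ^ 2 = 1 := by
    rw [pow_two]; nth_rewrite 2 [h3]; exact mul_inv_cancel w
  have := orderOf_dvd_of_pow_eq_one h4
  rw [hw.ov] at this
  omega

end Hyp

end Cfsg.Agent.H67.L33
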