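import Cfsg.Agent.H67.L33.Loc7
import Cfsg.Agent.H67.Basic

set_option autoImplicit false

/-!
# Conjugates of a subgroup, and the TI subgroups of order 9 (helper67)
-/

namespace Cfsg.Agent.H67.L33

open Subgroup Cfsg

universe u

variable {G : Type u} [Group G]

/-- conjugate of a subgroup -/
def cj (g : G) (A : Subgroup G) : Subgroup G := A.map (MulAut.conj g).toMonoidHom

theorem mem_cj {g x : G} {A : Subgroup G} : x ∈ cj g A ↔ g⁻¹ * x * g ∈ A := by
  constructor
  · rintro ⟨y, hy, rfl⟩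
    show g⁻¹ * (g * y * g⁻¹) * g ∈ A
    rw [show g⁻¹ * (g * y * g⁻¹) * g = y by group]
    exact hy
  · intro h
    refine ⟨g⁻¹ * x * g, h, ?_⟩
    show g * (g⁻¹ * x * g) * g⁻¹ = x
    group

theorem cj_one (A : Subgroup G) : cj 1 A = A := by
  ext x; rw [mem_cj]; simp

theorem cj_mul (g h : G) (A : Subgroup G) : cj (g * h) A = cj g (cj h A) := by
  ext x; rw [mem_cj, mem_cj, mem_cj]
  rw [show (g * h)⁻¹ * x * (g * h) = h⁻¹ * (g⁻¹ * x * g) * h by group]

theorem card_cj (g : G) (A : Subgroup G) : Nat.card (cj g A) = Nat.card A :=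
  (Nat.card_congr (A.equivMapOfInjective _ (MulAut.conj g).injective).toEquiv).symm

theorem cj_eq_iff {g : G} {A : Subgroup G} : cj g A = A ↔ g ∈ normalizer (A : Set G) := by
  constructor
  · intro h
    rw [← inv_mem_iff, mem_normalizer_iff]
    intro x
    have h1 : x ∈ cj g A ↔ x ∈ A := by rw [h]
    rw [inv_inv, ← mem_cj, h1]
  · intro h
    ext x
    rw [mem_cj]
    have h1 := mem_normalizer_iff.mp (inv_mem h) x
    rw [inv_inv] at h1
    exact h1.symm

theorem cj_inf (g : G) (A B : Subgroup G) : cj g (A ⊓ B) = cj g A ⊓ cj g B := by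
  ext x; rw [mem_inf, mem_cj, mem_cj, mem_cj, mem_inf]

theorem cj_bot (g : G) : cj g (⊥ : Subgroup G) = ⊥ := by
  ext x; rw [mem_cj, mem_bot, mem_bot]
  constructor
  · intro h
    have : x = g * (g⁻¹ * x * g) * g⁻¹ := by group
    rw [this, h]; group
  · rintro rfl; group

theorem cj_inj {g : G} {A B : Subgroup G} (h : cj g A = cj g B) : A = B := by
  have h1 : cj g⁻¹ (cj g A) = cj g⁻¹ (cj g B) := by rw [h]
  rwa [← cj_mul, ← cj_mul, inv_mul_cancel, cj_one, cj_one] at h1

/-- conjugates of E -/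
def CX (E : Subgroup G) := {A : Subgroup G // ∃ g, A = cj g E}

instance (E : Subgroup G) : MulAction G (CX E) where
  smul g A := ⟨cj g A.1, by obtain ⟨h, hh⟩ := A.2; exact ⟨g * h, by rw [hh, cj_mul]⟩⟩
  one_smul A := Subtype.ext (cj_one _)
  mul_smul g h A := Subtype.ext (cj_mul g h _)

theorem smul_val (E : Subgroup G) (g : G) (A : CX E) : (g • A).1 = cj g A.1 := rfl

instance (E : Subgroup G) [Finite G] : Finite (CX E) := Subtype.finite

instance (E : Subgroup G) : MulAction.IsPretransitive G (CX E) where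
  exists_smul_eq := by
    rintro ⟨A, g, rfl⟩ ⟨B, h, rfl⟩
    refine ⟨h * g⁻¹, Subtype.ext ?_⟩
    show cj (h * g⁻¹) (cj g E) = cj h E
    rw [← cj_mul, inv_mul_cancel_right]

theorem card_fib {α β : Type*} [Finite α] [Finite β] (f : α → β) (k : ℕ) (h : ∀ b, Nat.card {a // f a = b} = k) :
    Nat.card α = k * Nat.card β := by
  classical
  haveI := Fintype.ofFinite β
  rw [Nat.card_congr (Equiv.sigmaFiberEquiv f).symm, Nat.card_sigma, Finset.sum_congr rfl (fun b _ => h b),
    Finset.sum_const, smul_eq_mul, Finset.card_univ, mul_comm, Nat.card_eq_fintype_card]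

theorem card_ne_one [Finite G] (A : Subgroup G) : Nat.card {x : G // x ∈ A ∧ x ≠ 1} = Nat.card A - 1 := by
  classical
  have h1 : Nat.card {x : A // x ≠ 1} = Nat.card A - 1 := by
    haveI := Fintype.ofFinite A
    rw [Nat.card_eq_fintype_card, Fintype.card_subtype_compl, Fintype.card_subtype_eq, Nat.card_eq_fintype_card]
  rw [← h1]
  refine Nat.card_congr ⟨fun x => ⟨⟨x.1, x.2.1⟩, fun h => x.2.2 (congrArg Subtype.val h)⟩,
    fun x => ⟨x.1.1, x.1.2, fun h => x.2 (Subtype.ext h)⟩, fun x => rfl, fun x => rfl⟩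

namespace TI

variable {E : Subgroup G}

theorem cj_ti (T : TI E) (g : G) : TI (cj g E) := by
  refine ⟨by rw [card_cj, T.card], ?_, ?_, ?_⟩
  · intro h x hx hx1 hhx
    rw [mem_cj] at hx hhx
    have h1 : g⁻¹ * h * g ∈ normalizer (E : Set G) := by
      apply T.ti _ _ hx
      · intro h2
        apply hx1
        have : x = g * (g⁻¹ * x * g) * g⁻¹ := by group
        rw [this, h2]; group
      · rw [show g⁻¹ * h * g * (g⁻¹ * x * g) * (g⁻¹ * h * g)⁻¹ = g⁻¹ * (h * x * h⁻¹) * g by group]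
        exact hhx
    rw [← cj_eq_iff] at h1 ⊢
    rw [← cj_mul, show h * g = g * (g⁻¹ * h * g) by group, cj_mul, h1]
  · intro x hx hx1
    rw [mem_cj] at hx
    have h1 := T.good _ hx (by
      intro h2
      apply hx1
      have : x = g * (g⁻¹ * x * g) * g⁻¹ := by group
      rw [this, h2]; group)
    have h2 : g⁻¹ * x * g = g⁻¹ * x * g⁻¹⁻¹ := by rw [inv_inv]
    rw [h2, order_conj, card_cent_conj] at h1
    exact h1
  · intro x hx y hy
    rw [mem_cj] at hx hy
    have h1 : Commute (g⁻¹ * x * g) (g⁻¹ * y * g) := T.comm _ hx _ hy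
    have h2 := commute_conj (g := g) h1
    have h3 : ∀ z : G, g * (g⁻¹ * z * g) * g⁻¹ = z := fun z => by group
    rw [h3, h3] at h2
    exact h2

/-- two conjugates of E meeting nontrivially are equal -/
theorem eq_of_mem (T : TI E) {A B : CX E} {x : G} (hA : x ∈ A.1) (hB : x ∈ B.1) (hx : x ≠ 1) : A = B := by
  obtain ⟨A, g, rfl⟩ := A
  obtain ⟨B, h, rfl⟩ := B
  apply Subtype.ext
  show cj g E = cj h E
  have T' := T.cj_ti g
  change x ∈ cj g E at hA
  change x ∈ cj h E at hB
  have h1 : g * h⁻¹ ∈ normalizer ((cj g E : Subgroup G) : Set G) := by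
    apply T'.ti _ x hA hx
    rw [mem_cj] at hB ⊢
    rw [show g⁻¹ * (g * h⁻¹ * x * (g * h⁻¹)⁻¹) * g = h⁻¹ * x * h by group]
    exact hB
  have h2 := cj_eq_iff.mpr (inv_mem h1)
  rw [← cj_mul, show (g * h⁻¹)⁻¹ * g = h by group] at h2
  exact h2.symm

theorem tiX (T : TI E) (A : CX E) : TI A.1 := by
  obtain ⟨A, g, rfl⟩ := A
  exact T.cj_ti g

theorem cent_norm (T : TI E) {x y : G} (hx : x ∈ E) (hx1 : x ≠ 1) (h : Commute x y) : y ∈ normalizer (E : Set G) := by
  apply T.ti y x hx hx1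
  rw [h.symm.eq, mul_inv_cancel_right]
  exact hx

end TI

end Cfsg.Agent.H67.L33
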