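import Cfsg.Agent.H67.L33.Loc8

set_option autoImplicit false

/-!
# Simple groups of order 5616: the projective plane (helper67)
-/

namespace Cfsg.Agent.H67.L33

open Subgroup Cfsg

universe u

variable {G : Type u} [Group G]

namespace TI

variable [Finite G] {E F : Subgroup G}

theorem exists_ne_one (T : TI E) : ∃ x ∈ E, x ≠ 1 := by
  by_contra hcon
  push Not at hcon
  have h1 : E = ⊥ := by rw [eq_bot_iff]; intro x hx; rw [mem_bot]; exact hcon x hx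
  have h2 := T.card
  rw [h1, card_bot] at h2
  omega

theorem exists_mem (H : Hyp G) (T : TI E) {y : G} (hy : orderOf y = 3) (hc : Nat.card (centralizer ({y} : Set G)) = 54) :
    ∃ A : CX E, y ∈ A.1 := by
  obtain ⟨x, hx, hx1⟩ := T.exists_ne_one
  obtain ⟨h1, h2⟩ := T.good x hx hx1
  obtain ⟨g, hg⟩ := H.conj_good h1 hy h2 hc
  refine ⟨⟨cj g E, g, rfl⟩, ?_⟩
  show y ∈ cj g E
  rw [mem_cj, ← hg, show g⁻¹ * (g * x * g⁻¹) * g = x by group]
  exact hx

theorem card_eight (T : TI E) (A : CX E) : Nat.card {x : G // x ∈ A.1 ∧ x ≠ 1} = 8 := by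
  rw [card_ne_one, (T.tiX A).card]

theorem card_CX (H : Hyp G) (T : TI E) : Nat.card (CX E) = 13 := by
  classical
  obtain ⟨m, hm, hm1⟩ := T.exists_ne_one
  obtain ⟨om, cm⟩ := T.good m hm hm1
  have h104 : Nat.card {y : G // IsConj m y} = 104 := by
    rw [natCard_isConj_eq_index]
    have h1 := (centralizer ({m} : Set G)).card_mul_index
    rw [cm, H.card] at h1
    omega
  have hgood : ∀ y : {y : G // IsConj m y}, orderOf (y : G) = 3 ∧ Nat.card (centralizer ({(y : G)} : Set G)) = 54 := by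
    rintro ⟨y, hy⟩
    obtain ⟨g, rfl⟩ := isConj_iff.mp hy
    rw [order_conj, card_cent_conj]
    exact ⟨om, cm⟩
  have hex : ∀ y : {y : G // IsConj m y}, ∃ A : CX E, (y : G) ∈ A.1 := fun y =>
    T.exists_mem H (hgood y).1 (hgood y).2
  choose f hf using hex
  have hne1 : ∀ y : {y : G // IsConj m y}, (y : G) ≠ 1 := by
    intro y hy
    have := (hgood y).1
    rw [hy, orderOf_one] at this
    omega
  have h := card_fib f 8 (by
    intro A
    rw [← T.card_eight A]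
    have hmem : ∀ y : {a // f a = A}, ((y.1 : {y : G // IsConj m y}) : G) ∈ A.1 := by
      rintro ⟨y, rfl⟩; exact hf y
    refine Nat.card_congr ⟨fun y => ⟨y.1.1, hmem y, hne1 y.1⟩,
      fun x => ⟨⟨x.1, ?_⟩, ?_⟩, fun y => rfl, fun x => rfl⟩
    · obtain ⟨h1, h2⟩ := (T.tiX A).good x.1 x.2.1 x.2.2
      obtain ⟨g, hg⟩ := H.conj_good om h1 cm h2
      exact isConj_iff.mpr ⟨g, hg⟩
    · exact T.eq_of_mem (hf _) x.2.1 x.2.2)
  rw [h104] at h
  omega

theorem card_meet (T : TI E) (T' : TI F) (hne : ∀ (A : CX E) (B : CX F), A.1 ≠ B.1) (A : CX E) (B : CX F)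
    (h : A.1 ⊓ B.1 ≠ ⊥) : Nat.card (A.1 ⊓ B.1 : Subgroup G) = 3 := by
  have h1 : Nat.card (A.1 ⊓ B.1 : Subgroup G) ∣ 9 := (T.tiX A).card ▸ card_dvd_of_le inf_le_left
  have h2 : Nat.card (A.1 ⊓ B.1 : Subgroup G) ≠ 1 := fun h3 => h (Subgroup.eq_bot_of_card_eq _ h3)
  have h3 : Nat.card (A.1 ⊓ B.1 : Subgroup G) ≠ 9 := by
    intro h4
    have h5 := Subgroup.eq_of_le_of_card_ge (inf_le_left (a := A.1) (b := B.1)) (by rw [(T.tiX A).card, h4])
    have h6 := Subgroup.eq_of_le_of_card_ge (inf_le_right (a := A.1) (b := B.1)) (by rw [(T'.tiX B).card, h4])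
    exact hne A B (h5.symm.trans h6)
  have h4 : Nat.card (A.1 ⊓ B.1 : Subgroup G) ∈ Nat.divisors 9 := Nat.mem_divisors.mpr ⟨h1, by norm_num⟩
  rw [show Nat.divisors 9 = {1, 3, 9} by decide +kernel] at h4
  simp only [Finset.mem_insert, Finset.mem_singleton] at h4
  tauto

theorem card_pts (H : Hyp G) (T : TI E) (T' : TI F) (hne : ∀ (A : CX E) (B : CX F), A.1 ≠ B.1) (B : CX F) :
    Nat.card {A : CX E // A.1 ⊓ B.1 ≠ ⊥} = 4 := by
  classical
  have hex : ∀ y : {x : G // x ∈ B.1 ∧ x ≠ 1}, ∃ A : CX E, (y : G) ∈ A.1 := fun y =>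
    T.exists_mem H ((T'.tiX B).good y.1 y.2.1 y.2.2).1 ((T'.tiX B).good y.1 y.2.1 y.2.2).2
  choose f hf using hex
  have hI : ∀ y, (f y).1 ⊓ B.1 ≠ ⊥ := by
    intro y h
    have h1 : y.1 ∈ (f y).1 ⊓ B.1 := ⟨hf y, y.2.1⟩
    rw [h, mem_bot] at h1
    exact y.2.2 h1
  let f' : {x : G // x ∈ B.1 ∧ x ≠ 1} → {A : CX E // A.1 ⊓ B.1 ≠ ⊥} := fun y => ⟨f y, hI y⟩
  have h := card_fib f' 2 (by
    intro A
    have h3 := T.card_meet T' hne A.1 B A.2
    have h2 : Nat.card {x : G // x ∈ A.1.1 ⊓ B.1 ∧ x ≠ 1} = 2 := by rw [card_ne_one, h3]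
    rw [← h2]
    have hmem : ∀ y : {a // f' a = A}, ((y.1 : {x : G // x ∈ B.1 ∧ x ≠ 1}) : G) ∈ A.1.1 := by
      rintro ⟨y, rfl⟩; exact hf y
    refine Nat.card_congr ⟨fun y => ⟨y.1.1, ⟨hmem y, y.1.2.1⟩, y.1.2.2⟩,
      fun x => ⟨⟨x.1, x.2.1.2, x.2.2⟩, ?_⟩, fun y => rfl, fun x => rfl⟩
    · apply Subtype.ext
      exact T.eq_of_mem (hf _) x.2.1.1 x.2.2)
  rw [T'.card_eight B] at h
  omega

theorem uniq (H : Hyp G) (T : TI E) (T' : TI F) (A A' : CX E) (B B' : CX F)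
    (hA : A ≠ A') (h1 : A.1 ⊓ B.1 ≠ ⊥) (h2 : A'.1 ⊓ B.1 ≠ ⊥) (h3 : A.1 ⊓ B'.1 ≠ ⊥) (h4 : A'.1 ⊓ B'.1 ≠ ⊥) : B = B' := by
  classical
  by_contra hB
  have ex : ∀ K : Subgroup G, K ≠ ⊥ → ∃ x ∈ K, x ≠ 1 := fun K hK => (Subgroup.ne_bot_iff_exists_ne_one.mp hK).elim
    fun x hx => ⟨x.1, x.2, fun h => hx (Subtype.ext h)⟩
  obtain ⟨y, hy, hy1⟩ := ex _ h1
  obtain ⟨z, hz, hz1⟩ := ex _ h2
  obtain ⟨y', hy', hy1'⟩ := ex _ h3
  obtain ⟨z', hz', hz1'⟩ := ex _ h4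
  have n1 : y ∈ normalizer (A'.1 : Set G) := (T.tiX A').cent_norm hz.1 hz1 ((T'.tiX B).comm _ hz.2 _ hy.2)
  have n2 : y' ∈ normalizer (A'.1 : Set G) := (T.tiX A').cent_norm hz'.1 hz1' ((T'.tiX B').comm _ hz'.2 _ hy'.2)
  have oy := ((T.tiX A).good y hy.1 hy1).1
  have oy' := ((T.tiX A).good y' hy'.1 hy1').1
  have hyy : y' ∉ zpowers y := by
    intro h
    apply hB
    have h5 : y' ∈ B.1 := (zpowers_le.mpr hy.2) h
    exact T'.eq_of_mem h5 hy'.2 hy1'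
  have hle : A.1 ≤ normalizer (A'.1 : Set G) := by
    intro x hx
    obtain ⟨i, j, _, _, rfl⟩ := span9 (T.tiX A).card hy.1 hy'.1 oy oy' ((T.tiX A).comm _ hy.1 _ hy'.1) hyy x hx
    exact mul_mem (pow_mem n1 i) (pow_mem n2 j)
  have p1 : IsPGroup 3 A.1 := IsPGroup.of_card (n := 2) (by rw [(T.tiX A).card]; norm_num)
  have p2 : IsPGroup 3 A'.1 := IsPGroup.of_card (n := 2) (by rw [(T.tiX A').card]; norm_num)
  have p3 := p1.to_sup_of_normal_right' p2 hle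
  obtain ⟨P, hP⟩ := p3.exists_le_sylow
  have h5 : Nat.card (A.1 ⊔ A'.1 : Subgroup G) ≤ 27 := by
    rw [← H.card_syl P]; exact Nat.le_of_dvd Nat.card_pos (card_dvd_of_le hP)
  let f : A.1 × A'.1 → (A.1 ⊔ A'.1 : Subgroup G) := fun p =>
    ⟨p.1 * p.2, mul_mem (mem_sup_left p.1.2) (mem_sup_right p.2.2)⟩
  have hf : Function.Injective f := by
    rintro ⟨a, a'⟩ ⟨c, c'⟩ h
    have h6 : (a : G) * a' = c * c' := congrArg Subtype.val h
    have h7 : (c : G)⁻¹ * a = c' * (a' : G)⁻¹ := by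
      rw [inv_mul_eq_iff_eq_mul, ← mul_assoc, ← h6, mul_inv_cancel_right]
    have h8 : (c : G)⁻¹ * a = 1 := by
      by_contra h9
      exact hA (T.eq_of_mem (x := (c : G)⁻¹ * a) (mul_mem (inv_mem c.2) a.2) (by rw [h7]; exact mul_mem c'.2 (inv_mem a'.2)) h9)
    have h9 : (a : G) = c := (inv_mul_eq_one.mp h8).symm
    rw [h8] at h7
    have h10 : (a' : G) = c' := (mul_inv_eq_one.mp h7.symm).symm
    exact Prod.ext (Subtype.ext h9) (Subtype.ext h10)
  have h6 := Nat.card_le_card_of_injective f hf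
  rw [Nat.card_prod, (T.tiX A).card, (T.tiX A').card] at h6
  omega

theorem no_fix (H : Hyp G) (T : TI E) (g : G) (og : orderOf g = 13) (A : CX E) : g • A ≠ A := by
  intro h
  have h1 := MulAction.index_stabilizer_of_transitive G A
  rw [T.card_CX H] at h1
  have h2 := (MulAction.stabilizer G A).card_mul_index
  rw [h1, H.card] at h2
  have h3 := orderOf_dvd_natCard (⟨g, MulAction.mem_stabilizer_iff.mpr h⟩ : MulAction.stabilizer G A)
  rw [Subgroup.orderOf_mk, og] at h3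
  have h4 : Nat.card (MulAction.stabilizer G A) = 432 := by omega
  rw [h4] at h3
  omega

end TI

theorem Hyp.nonempty_iso [Finite G] (H : Hyp G) : Nonempty (G ≃* A0) := by
  haveI := H.simple
  obtain ⟨m, v, w, t, b, U, C, C', hne⟩ := H.exists_pair
  have T := C.ti H
  have T' := C'.ti H
  have hne' : ∀ (A : CX (U ⊓ centralizer ({v} : Set G))) (B : CX (U ⊓ centralizer ({w} : Set G))), A.1 ≠ B.1 := by
    rintro ⟨A, g, rfl⟩ ⟨B, h, rfl⟩ hAB
    change cj g _ = cj h _ at hAB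
    have h1 : cj (h⁻¹ * g) (U ⊓ centralizer ({v} : Set G)) = U ⊓ centralizer ({w} : Set G) := by
      rw [cj_mul, hAB, ← cj_mul, inv_mul_cancel, cj_one]
    have hm1 : m ≠ 1 := by
      intro h2
      have := C.loc.om
      rw [h2, orderOf_one] at this; omega
    have h2 : (⟨cj (h⁻¹ * g) (U ⊓ centralizer ({v} : Set G)), _, rfl⟩ : CX (U ⊓ centralizer ({v} : Set G))) =
        ⟨U ⊓ centralizer ({v} : Set G), 1, (cj_one _).symm⟩ := by
      apply T.eq_of_mem (x := m) _ C.mE hm1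
      show m ∈ cj (h⁻¹ * g) _
      rw [h1]; exact C'.mE
    have h3 := congrArg Subtype.val h2
    change cj (h⁻¹ * g) _ = _ at h3
    exact hne (h3.symm.trans h1)
  apply plane_iso H.card (T.card_CX H) (T'.card_CX H) (fun A B => A.1 ⊓ B.1 ≠ ⊥)
  · intro g A B
    rw [smul_val, smul_val, ← cj_inf, not_iff_not]
    constructor
    · intro h; exact cj_inj (h.trans (cj_bot g).symm)
    · intro h; rw [h, cj_bot]
  · intro B; exact T.card_pts H T' hne' B
  · intro A A' B B' hA h1 h2 h3 h4; exact T.uniq H T' A A' B B' hA h1 h2 h3 h4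
  · intro g hg A; exact T.no_fix H g hg A
  · intro g hg B; exact T'.no_fix H g hg B

end Cfsg.Agent.H67.L33
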