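import Cfsg.Agent.H67.L33.GL23

set_option autoImplicit false

/-!
# Parametrization of an involution centralizer isomorphic to GL(2, 3) (helper67)
-/

namespace Cfsg.Agent.H67.L33

open Subgroup Matrix

universe u

variable {G : Type u} [Group G]

/-- parametrization of the centralizer of `t` by `GL(2, 3)` -/
structure Par (t : G) where
  el : U4 → G
  mul : ∀ v w, el (v * w) = el v * el w
  inj : Function.Injective el
  mem : ∀ v, el v * t = t * el v
  surj : ∀ g, g * t = t * g → ∃ v, el v = g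

theorem exists_par {t : G} (e : centralizer ({t} : Set G) ≃* GL (Fin 2) (ZMod 3)) : Nonempty (Par t) := by
  refine ⟨⟨fun v => (e.symm (toGL v) : G), ?_, ?_, ?_, ?_⟩⟩
  · intro v w
    rw [toGL_mul, map_mul]; rfl
  · intro v w h
    exact toGL_inj (e.symm.injective (Subtype.ext h))
  · intro v
    exact mem_centralizer_singleton_iff.mp (e.symm (toGL v)).2
  · intro g hg
    obtain ⟨v, hv⟩ := toGL_surj (e ⟨g, mem_centralizer_singleton_iff.mpr hg⟩)
    refine ⟨v, ?_⟩
    show ((e.symm (toGL v) : centralizer ({t} : Set G)) : G) = g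
    rw [hv, MulEquiv.symm_apply_apply]

def z0 : U4 := ⟨(2, 0, 0, 2), by decide⟩
def a0 : U4 := ⟨(0, 1, 1, 1), by decide⟩
def b0 : U4 := ⟨(1, 0, 1, 2), by decide⟩
def m0 : U4 := ⟨(1, 1, 0, 1), by decide⟩
def c0 : U4 := ⟨(1, 0, 0, 2), by decide⟩

set_option synthInstance.maxHeartbeats 400000 in
set_option synthInstance.maxSize 1000 in
theorem u_one : ∀ v : U4, v * v = v → v = 1 := by decide +kernel
set_option synthInstance.maxHeartbeats 400000 in
set_option synthInstance.maxSize 1000 in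
theorem u_z' : ∀ v : U4, (v * v = 1 ∧ v ≠ 1 ∧ v * a0 = a0 * v ∧ v * m0 = m0 * v) → v = z0 := by decide +kernel

theorem u_z (v : U4) (h1 : v * v = 1) (h2 : v ≠ 1) (h3 : v * a0 = a0 * v) (h4 : v * m0 = m0 * v) : v = z0 :=
  u_z' v ⟨h1, h2, h3, h4⟩
theorem u_one_mul : ∀ v : U4, 1 * v = v := by decide +kernel
theorem u_mul_one : ∀ v : U4, v * 1 = v := by decide +kernel
theorem card_U4 : Fintype.card U4 = 48 := by decide +kernel

namespace Par

variable {t : G} (P : Par t)

theorem one : P.el 1 = 1 := by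
  have := P.mul 1 1
  rw [u_one_mul] at this
  exact (mul_eq_left.mp this.symm)

theorem t_eq (ht : orderOf t = 2) : P.el z0 = t := by
  obtain ⟨v, hv⟩ := P.surj t rfl
  have h2 : t * t = 1 := by rw [← pow_two, ← ht, pow_orderOf_eq_one]
  have h1 : t ≠ 1 := by rintro rfl; rw [orderOf_one] at ht; omega
  have : v = z0 := by
    apply u_z v
    · apply P.inj; rw [P.mul, hv, h2, P.one]
    · rintro rfl; rw [P.one] at hv; exact h1 hv.symm
    · apply P.inj; rw [P.mul, P.mul, hv]; exact (P.mem a0).symm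
    · apply P.inj; rw [P.mul, P.mul, hv]; exact (P.mem m0).symm
  rw [← this, hv]

theorem card_cent (P : Par t) : Nat.card (centralizer ({t} : Set G)) = 48 := by
  rw [← card_U4, ← Nat.card_eq_fintype_card]
  symm
  apply Nat.card_congr
  exact Equiv.ofBijective (fun v => ⟨P.el v, mem_centralizer_singleton_iff.mpr (P.mem v)⟩)
    ⟨fun v w h => P.inj (congrArg (fun x : centralizer ({t} : Set G) => (x : G)) h), fun g => by
      obtain ⟨v, hv⟩ := P.surj g (mem_centralizer_singleton_iff.mp g.2)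
      exact ⟨v, Subtype.ext hv⟩⟩

/-- centralizers of elements whose powers contain `t` -/
theorem card_centralizer (w : U4) (hw : t ∈ zpowers (P.el w)) :
    Nat.card (centralizer ({P.el w} : Set G)) = Fintype.card {v : U4 // v * w = w * v} := by
  rw [← Nat.card_eq_fintype_card]
  symm
  apply Nat.card_congr
  refine Equiv.ofBijective (fun v => ⟨P.el v.1, mem_centralizer_singleton_iff.mpr (by rw [← P.mul, v.2, P.mul])⟩)
    ⟨fun v w h => Subtype.ext (P.inj (congrArg (fun x : centralizer ({P.el _} : Set G) => (x : G)) h)), fun g => ?_⟩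
  have hg := mem_centralizer_singleton_iff.mp g.2
  obtain ⟨k, hk⟩ := hw
  have hgt : (g : G) * t = t * g := by
    have h1 : Commute (g : G) (P.el w) := hg
    have hk' : P.el w ^ k = t := hk
    have := h1.zpow_right k
    rw [hk'] at this
    exact this
  obtain ⟨v, hv⟩ := P.surj g hgt
  refine ⟨⟨v, ?_⟩, Subtype.ext hv⟩
  apply P.inj
  rw [P.mul, P.mul, hv, hg]

/-- fusion of such elements -/
theorem isConj_iff (v w : U4) (hv : t ∈ zpowers (P.el v)) (k : ℤ) (hk : P.el v ^ k = t) (hk' : P.el w ^ k = t) :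
    IsConj (P.el v) (P.el w) ↔ ∃ u : U4, u * v = w * u := by
  constructor
  · intro h
    obtain ⟨g, hg⟩ := _root_.isConj_iff.mp h
    have hgt : g * t * g⁻¹ = t := by
      conv_lhs => rw [← hk, ← conj_zpow, hg, hk']
    obtain ⟨u, hu⟩ := P.surj g (mul_inv_eq_iff_eq_mul.mp hgt)
    refine ⟨u, P.inj ?_⟩
    rw [P.mul, P.mul, hu, ← hg]; group
  · rintro ⟨u, hu⟩
    rw [_root_.isConj_iff]
    refine ⟨P.el u, ?_⟩
    rw [← P.mul, hu, P.mul]; group

theorem not_conj (v w : U4) (k : ℤ) (hk : P.el v ^ k = t) (hk' : P.el w ^ k = t)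
    (h : ¬ ∃ u : U4, u * v = w * u) : ¬ IsConj (P.el v) (P.el w) := fun hc =>
  h ((P.isConj_iff v w ⟨k, hk⟩ k hk hk').mp hc)

end Par

/-- involutions inverting an element -/
theorem card_inv_eq [Finite G] {t : G} (P : Par t) (ht : orderOf t = 2) (w : U4) (hw : t ∈ zpowers (P.el w)) :
    Nat.card {p : G // p * p = 1 ∧ p ≠ 1 ∧ (p * P.el w) * (p * P.el w) = 1 ∧ p * P.el w ≠ 1} =
      Fintype.card {u : U4 // u * u = 1 ∧ u ≠ 1 ∧ (u * w) * (u * w) = 1 ∧ u * w ≠ 1} := by
  rw [← Nat.card_eq_fintype_card]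
  symm
  apply Nat.card_congr
  refine Equiv.ofBijective (fun u => ⟨P.el u.1, by
      rw [← P.mul, ← P.mul, ← P.mul, u.2.1]
      refine ⟨P.one, ?_, ?_, ?_⟩
      · intro h; rw [← P.one] at h; exact u.2.2.1 (P.inj h)
      · rw [u.2.2.2.1, P.one]
      · intro h; rw [← P.one] at h; exact u.2.2.2.2 (P.inj h)⟩)
    ⟨fun v w h => Subtype.ext (P.inj (congrArg (fun x : {p : G // p * p = 1 ∧ p ≠ 1 ∧ (p * P.el _) * (p * P.el _) = 1 ∧ p * P.el _ ≠ 1} => (x : G)) h)), fun p => ?_⟩
  obtain ⟨p, h1, h2, h3, h4⟩ := p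
  have hinv : p * P.el w * p⁻¹ = (P.el w)⁻¹ := by
    have hp : p⁻¹ = p := inv_eq_of_mul_eq_one_left h1
    rw [hp, eq_inv_iff_mul_eq_one]
    rw [← h3]; group
  obtain ⟨k, hk⟩ := hw
  have htt : t⁻¹ = t := by
    apply inv_eq_of_mul_eq_one_left
    rw [← pow_two, ← ht, pow_orderOf_eq_one]
  have hpt : p * t * p⁻¹ = t := by
    have hk' : P.el w ^ k = t := hk
    conv_lhs => rw [← hk', ← conj_zpow, hinv, _root_.inv_zpow, hk', htt]
  obtain ⟨u, hu⟩ := P.surj p (mul_inv_eq_iff_eq_mul.mp hpt)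
  refine ⟨⟨u, ?_, ?_, ?_, ?_⟩, Subtype.ext hu⟩
  · apply P.inj; rw [P.mul, hu, h1, P.one]
  · rintro rfl; rw [P.one] at hu; exact h2 hu.symm
  · apply P.inj; rw [P.mul, P.mul, hu, h3, P.one]
  · intro h; apply h4; rw [← hu, ← P.mul, h, P.one]

end Cfsg.Agent.H67.L33
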