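import Cfsg.Agent.H67.L33.Loc9
import Cfsg.Agent.H67.L33.Par

set_option autoImplicit false

/-!
# Simple groups of order 5616 with involution centralizers GL(2, 3) (helper67)
-/

namespace Cfsg.Agent.H67.L33

open Subgroup Cfsg

universe u

variable {G : Type u} [Group G]

set_option synthInstance.maxHeartbeats 400000 in
set_option synthInstance.maxSize 1000 in
theorem uconj3 : ∀ v : U4, (v * v * v = 1 ∧ v ≠ 1) → ∃ u : U4, u * v = m0 * u := by decide +kernel

set_option synthInstance.maxHeartbeats 400000 in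
set_option synthInstance.maxSize 1000 in
theorem uc6 : ∀ v w : U4, (v * v * v = 1 ∧ v ≠ 1 ∧ w * v = v * w) →
    w = 1 ∨ w = v ∨ w = v * v ∨ w = z0 ∨ w = z0 * v ∨ w = z0 * (v * v) := by decide +kernel

set_option synthInstance.maxHeartbeats 400000 in
set_option synthInstance.maxSize 1000 in
theorem uinv3 : ∀ v : U4, (v * v * v = 1 ∧ v ≠ 1) → ∃ u : U4, u * u = 1 ∧ u ≠ 1 ∧ u * v * u * v = 1 := by decide +kernel

theorem cube_eq {x : G} (hx : orderOf x = 3) : x * x * x = 1 := by
  have := pow_orderOf_eq_one x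
  rw [hx] at this
  rw [← this]; simp only [pow_succ, pow_zero, one_mul]

theorem um0 : m0 * m0 * m0 = 1 ∧ m0 ≠ 1 := by decide +kernel

namespace Par

variable {s : G} (P : Par s)

include P

theorem order3 {v : U4} (h : orderOf (P.el v) = 3) : v * v * v = 1 ∧ v ≠ 1 := by
  constructor
  · apply P.inj; rw [P.mul, P.mul, P.one]; exact cube_eq h
  · rintro rfl
    rw [P.one, orderOf_one] at h; omega

theorem conj3 {x x' : G} (hx : orderOf x = 3) (hx' : orderOf x' = 3) (h : Commute s x) (h' : Commute s x') :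
    IsConj x x' := by
  obtain ⟨v, rfl⟩ := P.surj x h.symm
  obtain ⟨v', rfl⟩ := P.surj x' h'.symm
  obtain ⟨u, hu⟩ := uconj3 v (P.order3 hx)
  obtain ⟨u', hu'⟩ := uconj3 v' (P.order3 hx')
  have h1 : IsConj (P.el v) (P.el m0) := _root_.isConj_iff.mpr ⟨P.el u, by rw [← P.mul, hu, P.mul]; group⟩
  have h2 : IsConj (P.el v') (P.el m0) := _root_.isConj_iff.mpr ⟨P.el u', by rw [← P.mul, hu', P.mul]; group⟩
  exact h1.trans h2.symm

end Par

theorem mk_hyp [Finite G] (hs : IsSimpleGroup G) (hcard : Nat.card G = 5616)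
    (hconj : ∀ x y : G, orderOf x = 2 → orderOf y = 2 → IsConj x y)
    (hcent : ∀ x : G, orderOf x = 2 → Nonempty (Par x)) : Hyp G := by
  refine ⟨hcard, hs, ?_, ?_, ?_, ?_, ?_⟩
  · intro s h
    obtain ⟨P⟩ := hcent s h
    exact P.card_cent
  · intro s x s' x' h h' hx hx' hc hc'
    obtain ⟨g, hg⟩ := isConj_iff.mp (hconj s s' h h')
    obtain ⟨P⟩ := hcent s' h'
    have h1 := commute_conj (g := g) hc
    rw [hg] at h1
    have h2 := P.conj3 (by rw [order_conj, hx]) hx' h1 hc'
    exact (isConj_iff.mpr ⟨g, rfl⟩ : IsConj x (g * x * g⁻¹)).trans h2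
  · intro s x h hx hc y hsy hxy
    obtain ⟨P⟩ := hcent s h
    obtain ⟨v, rfl⟩ := P.surj x hc.symm
    obtain ⟨w, rfl⟩ := P.surj y hsy.symm
    obtain ⟨h1, h2⟩ := P.order3 hx
    have h3 : w * v = v * w := by
      apply P.inj; rw [P.mul, P.mul]; exact hxy.symm.eq
    have hz := P.t_eq h
    rcases uc6 v w ⟨h1, h2, h3⟩ with e | e | e | e | e | e
    · left; rw [e, P.one]
    · right; left; rw [e]
    · right; right; left; rw [e, P.mul]
    · right; right; right; left; rw [e, hz]
    · right; right; right; right; left; rw [e, P.mul, hz]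
    · right; right; right; right; right; rw [e, P.mul, P.mul, hz]
  · intro s x h hx hc
    obtain ⟨P⟩ := hcent s h
    obtain ⟨v, rfl⟩ := P.surj x hc.symm
    obtain ⟨u, h1, h2, h3⟩ := uinv3 v (P.order3 hx)
    have h4 : P.el u * P.el u = 1 := by rw [← P.mul, h1, P.one]
    refine ⟨P.el u, ?_, P.mem u, ?_⟩
    · apply orderOf_eq_prime
      · rw [pow_two]; exact h4
      · intro h5
        rw [← P.one] at h5
        exact h2 (P.inj h5)
    · have h5 : (P.el u)⁻¹ = P.el u := inv_eq_of_mul_eq_one_left h4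
      rw [h5, eq_inv_iff_mul_eq_one, ← P.mul, ← P.mul, ← P.mul, h3, P.one]
  · obtain ⟨s, hs⟩ := exists_prime_orderOf_dvd_card' (G := G) 2 (by rw [hcard]; norm_num)
    obtain ⟨P⟩ := hcent s hs
    refine ⟨s, P.el m0, hs, ?_, (P.mem m0).symm⟩
    apply orderOf_eq_prime
    · simp only [pow_succ, pow_zero, one_mul]
      rw [← P.mul, ← P.mul, um0.1, P.one]
    · intro h
      rw [← P.one] at h
      exact um0.2 (P.inj h)

end Cfsg.Agent.H67.L33
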