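import Cfsg.Agent.H67.L33.Cols2
import Cfsg.Agent.H67.L33.InvCount
import Cfsg.Agent.M24X.L33

set_option autoImplicit false

/-!
# The order of a group with an involution centralizer GL(2, 3) (helper67)
-/

namespace Cfsg.Agent.H67.L33

open Subgroup Cfsg Cfsg.Agent.CharBase
open scoped ComplexConjugate

universe u

variable {G : Type u} [Group G]

theorem w1 : Fintype.card {u : U4 // u * u = 1 ∧ u ≠ 1 ∧ (u * z0) * (u * z0) = 1 ∧ u * z0 ≠ 1} = 12 := by decide +kernel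
theorem w2 : Fintype.card {u : U4 // u * u = 1 ∧ u ≠ 1 ∧ (u * (a0 * a0)) * (u * (a0 * a0)) = 1 ∧ u * (a0 * a0) ≠ 1} = 4 := by decide +kernel
theorem w3 : Fintype.card {u : U4 // u * u = 1 ∧ u ≠ 1 ∧ (u * a0) * (u * a0) = 1 ∧ u * a0 ≠ 1} = 0 := by decide +kernel
theorem w4 : Fintype.card {u : U4 // u * u = 1 ∧ u ≠ 1 ∧ (u * (m0 * z0)) * (u * (m0 * z0)) = 1 ∧ u * (m0 * z0) ≠ 1} = 6 := by decide +kernel

/-- numbers of involutions inverting the special elements -/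
structure Cnt (t a s : G) : Prop where
  nt : Nat.card {p : G // p * p = 1 ∧ p ≠ 1 ∧ (p * t) * (p * t) = 1 ∧ p * t ≠ 1} = 12
  nf : Nat.card {p : G // p * p = 1 ∧ p ≠ 1 ∧ (p * a ^ 2) * (p * a ^ 2) = 1 ∧ p * a ^ 2 ≠ 1} = 4
  na : Nat.card {p : G // p * p = 1 ∧ p ≠ 1 ∧ (p * a) * (p * a) = 1 ∧ p * a ≠ 1} = 0
  ns : Nat.card {p : G // p * p = 1 ∧ p ≠ 1 ∧ (p * s) * (p * s) = 1 ∧ p * s ≠ 1} = 6

theorem exists_cnt [Finite G] {t : G} (P : Par t) (ht : orderOf t = 2) : Cnt t (P.el a0) (P.el (m0 * z0)) := by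
  have hE := exists_el P ht
  have hz := P.t_eq ht
  have h2 : (P.el a0) ^ 2 = P.el (a0 * a0) := by rw [pow_two, P.mul]
  have k1 := card_inv_eq P ht z0 ⟨1, by simp only [zpow_one]; exact hz⟩
  have k2 := card_inv_eq P ht (a0 * a0) (mem_zpowers_iff.mpr ⟨2, by
    have : (P.el a0) ^ 4 = t := hE.a4
    rw [show 4 = 2 * 2 by norm_num, pow_mul, h2] at this
    exact_mod_cast this⟩)
  have k3 := card_inv_eq P ht a0 (mem_zpowers_iff.mpr ⟨4, by exact_mod_cast hE.a4⟩)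
  have k4 := card_inv_eq P ht (m0 * z0) (mem_zpowers_iff.mpr ⟨3, by exact_mod_cast hE.s3⟩)
  rw [w1] at k1
  rw [w2, ← h2] at k2
  rw [w3] at k3
  rw [w4] at k4
  refine ⟨?_, k2, k3, k4⟩
  rw [← k1]
  congr 1
  rw [hz]

theorem ww_re : ww.re = 0 := by
  have h := congrArg Complex.re ww_conj
  rw [Complex.conj_re, Complex.neg_re] at h
  linarith

/-- the equations -/
theorem equations [Finite G] {t : G} (P : Par t) (ht : orderOf t = 2) (h1 : ∀ s : G, orderOf s = 2 → IsConj t s)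
    (hperf : commutator G = ⊤) :
    ∃ (e δ μ dp dq dr ds dτ : ℤ), e ^ 2 = 1 ∧ δ ^ 2 = 1 ∧ μ ^ 2 = 1 ∧ 0 < dp ∧ 0 < dq ∧ 0 < dr ∧ 0 < ds ∧ 1 < dτ ∧
      dq = dp + e ∧ ds = dr + δ ∧ e * dp + δ * ds + μ * dτ = 0 ∧
      (Nat.card G : ℝ) * (1 + e * (4 / dp) - e * (9 / dq)) = 4608 ∧
      (Nat.card G : ℝ) * (1 + δ * (16 / dr) - δ * (9 / ds)) = 9216 ∧
      (Nat.card G : ℝ) * (e * (4 / dp) + δ * (9 / ds) + μ * (1 / dτ)) = 4608 := by
  classical
  haveI := Fintype.ofFinite G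
  haveI := Fintype.ofFinite (IrrCharacter G)
  have hE := exists_el P ht
  have hN := exists_cnt P ht
  obtain ⟨T, F, U, V, S, hC⟩ := exists_cols hE
  set d : IrrCharacter G → ℤ := fun χ => (H75.deg χ : ℤ) with hd
  have dpos : ∀ χ, 0 < d χ := fun χ => by
    have := H75.deg_pos χ
    simp only [hd]; exact_mod_cast this
  have d1 : d (oneIrr G) = 1 := Col.deg_one
  obtain ⟨e, δ, μ, p, q, r, s, τ, he, hδ, hμ, fA, fB, fC, Tp, Tq, Tr, Ts, Tτ, e1, e2, e3, hτ⟩ :=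
    table dpos d1 hC.h2 hC.h4 hC.h3 hC.orth hC.dT hC.dF hC.dU hC.dV hC.dS hC.oT hC.oF hC.oU hC.oV hC.oS
  have dτ1 : d τ ≠ 1 := fun h => hτ (Col.eq_oneIrr_of_perfect hperf h)
  set W : IrrCharacter G → ℝ := fun χ => (T χ : ℝ) ^ 2 / (d χ : ℝ) with hW
  have f := fun w => inv_formula ht h1 w
  have ct := hE.ct
  have key : ∀ (w : G) (X : IrrCharacter G → ℤ) (n : ℕ), (∀ χ : IrrCharacter G, (χ : G → ℂ) w = X χ) →
      Nat.card {p : G // p * p = 1 ∧ p ≠ 1 ∧ (p * w) * (p * w) = 1 ∧ p * w ≠ 1} = n →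
      (Nat.card G : ℝ) * ∑ χ, (X χ : ℝ) * W χ = 2304 * n := by
    intro w X n hX hn
    have h2 := f w
    rw [hn, ct] at h2
    have h3 : (((Nat.card G : ℝ) * ∑ χ, (X χ : ℝ) * W χ : ℝ) : ℂ) = ((2304 * n : ℝ) : ℂ) := by
      push_cast
      have h4 : ((48 : ℕ) : ℂ) ^ 2 * (n : ℂ) = 2304 * n := by norm_num
      rw [← h4, h2]
      congr 1
      refine Finset.sum_congr rfl fun χ _ => ?_
      rw [hX χ, hC.vT χ, H75.deg_spec, map_intCast]
      simp only [hW, hd]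
      push_cast; ring
    exact_mod_cast h3
  have kT := key t T 12 hC.vT hN.nt
  have kF := key _ F 4 hC.vF hN.nf
  have kS := key _ S 6 hC.vS hN.ns
  have Npos : (0 : ℝ) < Nat.card G := by exact_mod_cast Nat.card_pos
  have kU : ∑ χ, (U χ : ℝ) * W χ = 0 := by
    have h2 := f (P.el a0)
    rw [hN.na, ct] at h2
    have h3 : (((Nat.card G : ℝ) * ∑ χ, (U χ : ℝ) * W χ : ℝ) : ℂ) - (((Nat.card G : ℝ) * ∑ χ, (V χ : ℝ) * W χ : ℝ) : ℂ) * ww = 0 := by
      push_cast at h2 ⊢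
      rw [mul_zero] at h2
      rw [h2, mul_assoc, ← mul_sub]
      congr 1
      rw [Finset.sum_mul, ← Finset.sum_sub_distrib]
      refine Finset.sum_congr rfl fun χ _ => ?_
      rw [hC.vA χ, hC.vT χ, H75.deg_spec, map_add, map_mul, map_intCast, map_intCast, ww_conj]
      simp only [hW, hd]
      push_cast; ring
    have h4 := congrArg Complex.re h3
    rw [Complex.sub_re, Complex.re_ofReal_mul, ww_re, mul_zero, sub_zero, Complex.ofReal_re, Complex.zero_re] at h4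
    exact (mul_eq_zero.mp h4).resolve_left Npos.ne'
  have W1 : W (oneIrr G) = 1 := by simp only [hW]; rw [hC.oT, d1]; norm_num
  have Wp : W p = 4 / (d p : ℝ) := by
    simp only [hW]; rw [show ((T p : ℝ)) ^ 2 = 4 by exact_mod_cast Tp]
  have Wq : W q = 9 / (d q : ℝ) := by
    simp only [hW]; rw [show ((T q : ℝ)) ^ 2 = 9 by exact_mod_cast Tq]
  have Wr : W r = 16 / (d r : ℝ) := by
    simp only [hW]; rw [show ((T r : ℝ)) ^ 2 = 16 by exact_mod_cast Tr]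
  have Ws : W s = 9 / (d s : ℝ) := by
    simp only [hW]; rw [show ((T s : ℝ)) ^ 2 = 9 by exact_mod_cast Ts]
  have Wτ : W τ = 1 / (d τ : ℝ) := by
    simp only [hW]; rw [show ((T τ : ℝ)) ^ 2 = 1 by exact_mod_cast Tτ]
  have gA : ∑ χ, ((F χ : ℝ) + U χ) * W χ = 2 * W (oneIrr G) + (2 * e) * W p + (-2 * e) * W q := by
    have h2 := sum_combR (2 : ℤ) (2 * e) (-2 * e) (oneIrr G) p q W
    simp only [← fA] at h2
    push_cast at h2
    exact h2
  have gB : ∑ χ, ((T χ : ℝ) + 3 * U χ + 2 * S χ) * W χ = 6 * W (oneIrr G) + (6 * δ) * W r + (-6 * δ) * W s := by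
    have h2 := sum_combR (6 : ℤ) (6 * δ) (-6 * δ) (oneIrr G) r s W
    simp only [← fB] at h2
    push_cast at h2
    exact h2
  have gC : ∑ χ, ((F χ : ℝ) - U χ) * W χ = (2 * e) * W p + (2 * δ) * W s + (2 * μ) * W τ := by
    have h2 := sum_combR (2 * e : ℤ) (2 * δ) (2 * μ) p s τ W
    simp only [← fC] at h2
    push_cast at h2
    exact h2
  simp only [add_mul, Finset.sum_add_distrib] at gA
  simp only [add_mul, Finset.sum_add_distrib, mul_assoc, ← Finset.mul_sum] at gB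
  simp only [sub_mul, Finset.sum_sub_distrib] at gC
  rw [kU] at gA gB gC
  rw [W1, Wp, Wq] at gA
  rw [W1, Wr, Ws] at gB
  rw [Wp, Ws, Wτ] at gC
  refine ⟨e, δ, μ, d p, d q, d r, d s, d τ, he, hδ, hμ, dpos _, dpos _, dpos _, dpos _, ?_, e1, e2, e3, ?_, ?_, ?_⟩
  · have := dpos τ; omega
  · push_cast at kF
    linear_combination (1 / 2 : ℝ) * kF - (Nat.card G : ℝ) * (1 / 2) * gA
  · push_cast at kT kS
    linear_combination (1 / 6 : ℝ) * kT + (1 / 3 : ℝ) * kS - (Nat.card G : ℝ) * (1 / 6) * gB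
  · push_cast at kF
    linear_combination (1 / 2 : ℝ) * kF - (Nat.card G : ℝ) * (1 / 2) * gC

end Cfsg.Agent.H67.L33
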