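import Cfsg.Agent.H67.L33.Order
import Cfsg.Agent.H67.L33.Dioph

set_option autoImplicit false

/-!
# The order of a group with an involution centralizer GL(2, 3), end (helper67)
-/

namespace Cfsg.Agent.H67.L33

open Subgroup Cfsg Cfsg.Agent.CharBase

universe u

variable {G : Type u} [Group G]

theorem c6 : ∀ v : U4, (v * v = 1 ∧ v ≠ 1 ∧ v ≠ z0) → Fintype.card {u : U4 // u * v = v * u} = 4 := by decide +kernel

/-- the index of the centralizer is odd -/
theorem odd_index [Finite G] {t : G} (P : Par t) (ht : orderOf t = 2) : Odd (centralizer ({t} : Set G)).index := by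
  classical
  haveI : Fact (Nat.Prime 2) := ⟨Nat.prime_two⟩
  have hC := P.card_cent
  -- a Sylow 2-subgroup of the centralizer
  obtain ⟨Q⟩ : Nonempty (Sylow 2 (centralizer ({t} : Set G))) := inferInstance
  have hQ : Nat.card (Q : Subgroup (centralizer ({t} : Set G))) = 16 := by
    have q1 := (Q : Subgroup (centralizer ({t} : Set G))).card_mul_index
    have q2 : ¬ 2 ∣ (Q : Subgroup (centralizer ({t} : Set G))).index := Q.not_dvd_index
    obtain ⟨n, hn⟩ := IsPGroup.iff_card.mp Q.isPGroup'
    rw [hC] at q1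
    have q3 : (Q : Subgroup (centralizer ({t} : Set G))).index ∈ Nat.divisors 48 :=
      Nat.mem_divisors.mpr ⟨⟨_, by rw [mul_comm]; exact q1.symm⟩, by norm_num⟩
    have q4 : ∀ x ∈ Nat.divisors 48, ¬ 2 ∣ x → x = 1 ∨ x = 3 := by decide +kernel
    rcases q4 _ q3 q2 with h | h
    · rw [h, hn, mul_one] at q1
      exfalso
      have : 3 ∣ 2 ^ n := by rw [q1]; norm_num
      have := Nat.Prime.dvd_of_dvd_pow Nat.prime_three this
      omega
    · rw [h] at q1; omega
  set R : Subgroup G := (Q : Subgroup (centralizer ({t} : Set G))).map (centralizer ({t} : Set G)).subtype with hR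
  have hRc : Nat.card R = 16 := by
    rw [hR, Subgroup.card_map_of_injective (Subgroup.subtype_injective _), hQ]
  have hRp : IsPGroup 2 R := Q.isPGroup'.map _
  obtain ⟨S, hS⟩ := hRp.exists_le_sylow
  haveI : Nontrivial (S : Subgroup G) := by
    rw [← Finite.one_lt_card_iff_nontrivial]
    calc 1 < 16 := by norm_num
      _ = Nat.card R := hRc.symm
      _ ≤ _ := Nat.card_le_card_of_injective (inclusion hS) (inclusion_injective hS)
  have hcn := S.isPGroup'.center_nontrivial
  have h2 : 2 ∣ Nat.card (center (S : Subgroup G)) := by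
    obtain ⟨n, hn⟩ := IsPGroup.iff_card.mp (S.isPGroup'.to_subgroup (center (S : Subgroup G)))
    have : 1 < Nat.card (center (S : Subgroup G)) := Finite.one_lt_card_iff_nontrivial.mpr hcn
    rw [hn] at this ⊢
    have hn0 : n ≠ 0 := by rintro rfl; norm_num at this
    exact dvd_pow_self 2 hn0
  obtain ⟨z, hz⟩ := exists_prime_orderOf_dvd_card' 2 h2
  have hz2 : orderOf (((z : (S : Subgroup G)) : G)) = 2 := by
    rw [Subgroup.orderOf_coe, Subgroup.orderOf_coe, hz]
  have hzS : ∀ x ∈ (S : Subgroup G), ((z : (S : Subgroup G)) : G) * x = x * ((z : (S : Subgroup G)) : G) := by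
    intro x hx
    have := mem_center_iff.mp z.2 ⟨x, hx⟩
    exact (congrArg Subtype.val this).symm
  set y : G := ((z : (S : Subgroup G)) : G) with hy
  -- t in R
  have htR : t ∈ R := by
    have h5 : (⟨t, mem_centralizer_singleton_iff.mpr rfl⟩ : centralizer ({t} : Set G)) ∈ (Q : Subgroup (centralizer ({t} : Set G))) := by
      set t' : centralizer ({t} : Set G) := ⟨t, mem_centralizer_singleton_iff.mpr rfl⟩ with ht'
      have hcen : t' ∈ center (centralizer ({t} : Set G)) := by
        rw [mem_center_iff]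
        intro g
        apply Subtype.ext
        exact mem_centralizer_singleton_iff.mp g.2
      have h6 : IsPGroup 2 (zpowers t') := by
        rw [IsPGroup.iff_card]
        refine ⟨1, ?_⟩
        rw [Nat.card_zpowers, ht', Subgroup.orderOf_mk, ht]; norm_num
      have h7 : IsPGroup 2 ((zpowers t' ⊔ (Q : Subgroup (centralizer ({t} : Set G))) : Subgroup (centralizer ({t} : Set G)))) := by
        haveI : (zpowers t').Normal := by
          refine ⟨fun n hn g => ?_⟩
          obtain ⟨k, rfl⟩ := hn
          have h8 : Commute g t' := mem_center_iff.mp hcen g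
          rw [show g * t' ^ k * g⁻¹ = t' ^ k by rw [(h8.zpow_right k).eq]; group]
          exact ⟨k, rfl⟩
        exact h6.to_sup_of_normal_left Q.isPGroup'
      have h8 := Q.is_maximal' h7 le_sup_right
      have h9 : t' ∈ zpowers t' ⊔ (Q : Subgroup (centralizer ({t} : Set G))) :=
        (le_sup_left : zpowers t' ≤ _) (mem_zpowers t')
      exact (le_of_eq h8) h9
    exact ⟨_, h5, rfl⟩
  have hyt : y * t = t * y := hzS t (hS htR)
  obtain ⟨v, hv⟩ := P.surj y hyt
  have hyt' : y = t := by
    by_contra hne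
    have v1 : v * v = 1 ∧ v ≠ 1 ∧ v ≠ z0 := by
      refine ⟨P.inj ?_, ?_, ?_⟩
      · rw [P.mul, hv, P.one, ← pow_two, ← hz2, pow_orderOf_eq_one]
      · rintro rfl
        rw [P.one] at hv
        rw [← hv, orderOf_one] at hz2; omega
      · rintro rfl
        rw [P.t_eq ht] at hv
        exact hne hv.symm
    have h5 := c6 v v1
    have h6 : Nat.card R ≤ Fintype.card {u : U4 // u * v = v * u} := by
      rw [← Nat.card_eq_fintype_card]
      have hx : ∀ x : R, ∃ u : {u : U4 // u * v = v * u}, P.el u.1 = x := by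
        intro x
        have hxt : (x : G) * t = t * x := by
          obtain ⟨w, -, hw⟩ := x.2
          rw [← hw]
          exact mem_centralizer_singleton_iff.mp w.2
        obtain ⟨u, hu⟩ := P.surj _ hxt
        refine ⟨⟨u, P.inj ?_⟩, hu⟩
        rw [P.mul, P.mul, hu, hv]
        exact (hzS x (hS x.2)).symm
      choose f hf using hx
      exact Nat.card_le_card_of_injective f (fun a b hab => Subtype.ext (by rw [← hf a, ← hf b, hab]))
    rw [hRc, h5] at h6
    omega
  have hSle : (S : Subgroup G) ≤ centralizer ({t} : Set G) := by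
    intro x hx
    rw [mem_centralizer_singleton_iff]
    have := hzS x hx
    rw [hyt'] at this
    exact this.symm
  have h5 : ¬ 2 ∣ (S : Subgroup G).index := S.not_dvd_index
  rw [← Nat.not_even_iff_odd, even_iff_two_dvd]
  intro h6
  exact h5 (h6.trans (Subgroup.index_dvd_of_le hSle))

theorem card_mod [Finite G] {t : G} (P : Par t) (ht : orderOf t = 2) : Nat.card G % 32 = 16 := by
  obtain ⟨k, hk⟩ := odd_index P ht
  have := (centralizer ({t} : Set G)).card_mul_index
  rw [P.card_cent, hk] at this
  omega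

theorem one_class [Finite G] (hO : pResidual 2 G = ⊤) {t : G} (ht : orderOf t = 2)
    (e : centralizer ({t} : Set G) ≃* GL (Fin 2) (ZMod 3)) : ∀ x y : G, orderOf x = 2 → orderOf y = 2 → IsConj x y := by
  haveI : Fact (Nat.Prime 3) := ⟨Nat.prime_three⟩
  obtain ⟨Pa⟩ := exists_par e
  have hodd := odd_index Pa ht
  obtain ⟨P⟩ : Nonempty (Sylow 2 (GL (Fin 2) (ZMod 3))) := inferInstance
  obtain ⟨S, ⟨eS⟩⟩ := M24X.exists_sylow_equiv _ hodd e P
  have hP : IsQuasiDihedral (P : Subgroup (GL (Fin 2) (ZMod 3))) :=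
    (QDW.sylow_GL2 P).1 (by rw [ZMod.card])
  have hS : IsQuasiDihedral (S : Subgroup G) := QDW.isQuasiDihedral_of_equiv eS.symm hP
  obtain ⟨m, hm, ⟨d⟩⟩ := H20.QDData.exists_of_isQuasiDihedral hS
  intro x y hx hy
  exact Fus.qd_one_class S d hO hx hy

theorem order_main [Finite G] (hperf : commutator G = ⊤) {t : G} (ht : orderOf t = 2)
    (e : centralizer ({t} : Set G) ≃* GL (Fin 2) (ZMod 3)) : Nat.card G = 5616 ∨ Nat.card G = 7920 := by
  have h1 := one_class (QDW.pResidual_two_of_perfect hperf) ht e
  obtain ⟨Pa⟩ := exists_par e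
  obtain ⟨e, δ, μ, dp, dq, dr, ds, dτ, he, hδ, hμ, pp, pq, pr, ps, pτ, eq, es, et, hA, -, hC⟩ :=
    equations Pa ht (fun s hs => h1 t s ht hs) hperf
  have h32 := card_mod Pa ht
  have hN : 0 < Nat.card G := Nat.card_pos
  set N := Nat.card G with hNd
  have he' := pm_one he
  have hδ' := pm_one hδ
  have hμ' := pm_one hμ
  have ip : (dp : ℝ) ≠ 0 := by exact_mod_cast pp.ne'
  have iq : (dq : ℝ) ≠ 0 := by exact_mod_cast pq.ne'
  have is : (ds : ℝ) ≠ 0 := by exact_mod_cast ps.ne'
  have iτ : (dτ : ℝ) ≠ 0 := by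
    have : dτ ≠ 0 := by omega
    exact_mod_cast this
  have q1 : (dq : ℝ) = dp + e := by exact_mod_cast eq
  have q3 : (e : ℝ) * dp + δ * ds + μ * dτ = 0 := by exact_mod_cast et
  have e2 : (e : ℝ) ^ 2 = 1 := by exact_mod_cast he
  have d2 : (δ : ℝ) ^ 2 = 1 := by exact_mod_cast hδ
  have m2 : (μ : ℝ) ^ 2 = 1 := by exact_mod_cast hμ
  have key := dioph (N := N) (P := e * dp) (S := δ * ds) (by
      rcases he' with h | h <;> rw [h] <;> omega) (by
      rcases he' with h | h <;> rw [h] at eq ⊢ <;> omega) (by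
      rcases hδ' with h | h <;> rw [h] <;> omega) (by
      rcases hμ' with h | h <;> rw [h] at et <;> omega) (by
      rcases hμ' with h | h <;> rw [h] at et <;> omega) hN ?_ ?_ h32
  · rcases key with ⟨h, -, -⟩ | ⟨h, -, -⟩
    · exact Or.inl h
    · exact Or.inr h
  · have h5 : (N : ℝ) * ((e * dp : ℝ) - 2) ^ 2 = 4608 * ((e * dp) * (e * dp + 1)) := by
      have h6 : (N : ℝ) * (dp * dq + 4 * e * dq - 9 * e * dp) = 4608 * (dp * dq) := by
        have h7 : (N : ℝ) * (1 + e * (4 / dp) - e * (9 / dq)) * (dp * dq) = 4608 * (dp * dq) := by rw [hA]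
        rw [← h7]; field_simp
      rw [q1] at h6
      rcases he' with h | h
      · rw [h] at h6 ⊢
        push_cast at h6 ⊢
        linear_combination h6
      · rw [h] at h6 ⊢
        push_cast at h6 ⊢
        linear_combination h6
    exact_mod_cast h5
  · have hτ' : (μ : ℝ) * (1 / dτ) = - 1 / (e * dp + δ * ds) := by
      have h6 : (e * dp + δ * ds : ℝ) = - (μ * dτ) := by linear_combination q3
      rw [h6]
      have iμ : (μ : ℝ) ≠ 0 := by
        intro h; rw [h] at m2; norm_num at m2
      field_simp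
      linear_combination m2
    have hns : (e * dp + δ * ds : ℝ) ≠ 0 := by
      have : e * dp + δ * ds ≠ 0 := by rcases hμ' with h | h <;> rw [h] at et <;> omega
      exact_mod_cast this
    have h5 : (N : ℝ) * (4 * (δ * ds) * (e * dp + δ * ds) + 9 * (e * dp) * (e * dp + δ * ds) - (e * dp) * (δ * ds)) =
        4608 * ((e * dp) * (δ * ds) * (e * dp + δ * ds)) := by
      rw [hτ'] at hC
      have a1 : (e : ℝ) * (4 / dp) = 4 / (e * dp) := by
        have ie : (e : ℝ) ≠ 0 := by
          intro h; rw [h] at e2; norm_num at e2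
        field_simp
        linear_combination e2
      have a2 : (δ : ℝ) * (9 / ds) = 9 / (δ * ds) := by
        have ie : (δ : ℝ) ≠ 0 := by
          intro h; rw [h] at d2; norm_num at d2
        field_simp
        linear_combination d2
      rw [a1, a2] at hC
      have b1 : (e * dp : ℝ) ≠ 0 := by
        have : e * dp ≠ 0 := by rcases he' with h | h <;> rw [h] <;> omega
        exact_mod_cast this
      have b2 : (δ * ds : ℝ) ≠ 0 := by
        have : δ * ds ≠ 0 := by rcases hδ' with h | h <;> rw [h] <;> omega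
        exact_mod_cast this
      generalize (e * dp : ℝ) = x at *
      generalize (δ * ds : ℝ) = y at *
      rw [← hC]
      field_simp
      ring
    exact_mod_cast h5

end Cfsg.Agent.H67.L33
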