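import Mathlib

set_option autoImplicit false

/-!
# Groups of order 27 (helper67)
-/

namespace Cfsg.Agent.H67.L33

open Subgroup

universe u

variable {G : Type u} [Group G]

instance fact3 : Fact (Nat.Prime 3) := ⟨Nat.prime_three⟩

theorem div27 {d : ℕ} (h : d ∣ 27) : d = 1 ∨ d = 3 ∨ d = 9 ∨ d = 27 := by
  have h1 : d ∈ Nat.divisors 27 := Nat.mem_divisors.mpr ⟨h, by norm_num⟩
  rw [show Nat.divisors 27 = {1, 3, 9, 27} by decide +kernel] at h1
  simpa using h1

theorem card_center27 {P : Type u} [Group P] [Finite P] (hP : Nat.card P = 27) (hna : ∃ x y : P, x * y ≠ y * x) :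
    Nat.card (center P) = 3 := by
  have hpg : IsPGroup 3 P := IsPGroup.of_card (n := 3) (by rw [hP]; norm_num)
  haveI : Nontrivial P := by rw [← Finite.one_lt_card_iff_nontrivial, hP]; norm_num
  have h1 := hpg.center_nontrivial
  have h2 : Nat.card (center P) ∣ 27 := hP ▸ card_subgroup_dvd_card _
  have h3 : 1 < Nat.card (center P) := Finite.one_lt_card_iff_nontrivial.mpr h1
  obtain ⟨x, y, hxy⟩ := hna
  rcases div27 h2 with h | h | h | h
  · omega
  · exact h
  · exfalso
    have h4 := (center P).card_mul_index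
    rw [h, hP] at h4
    have h5 : Nat.card (P ⧸ center P) = 3 := by
      rw [← Subgroup.index_eq_card]; omega
    haveI : IsCyclic (P ⧸ center P) := isCyclic_of_prime_card h5
    exact hxy (commutative_of_cyclic_center_quotient (QuotientGroup.mk' (center P)) (by rw [QuotientGroup.ker_mk']) x y)
  · exfalso
    have h4 : center P = ⊤ := by rw [← Subgroup.card_eq_iff_eq_top, h, hP]
    have : x ∈ center P := by rw [h4]; trivial
    exact hxy (mem_center_iff.mp this y).symm

theorem exists_center [Finite G] {U : Subgroup G} (hU : Nat.card U = 27) (hna : ∃ x ∈ U, ∃ y ∈ U, x * y ≠ y * x) :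
    ∃ z ∈ U, orderOf z = 3 ∧ (∀ x ∈ U, x * z = z * x) ∧ ∀ y ∈ U, (∀ x ∈ U, x * y = y * x) → y ∈ zpowers z := by
  obtain ⟨x, hx, y, hy, hxy⟩ := hna
  have h3 := card_center27 (P := U) hU ⟨⟨x, hx⟩, ⟨y, hy⟩, fun h => hxy (congrArg Subtype.val h)⟩
  obtain ⟨z, hz⟩ := exists_prime_orderOf_dvd_card' (G := center U) 3 (by rw [h3])
  have hz' : orderOf (((z : U)) : G) = 3 := by rw [Subgroup.orderOf_coe, Subgroup.orderOf_coe, hz]
  refine ⟨((z : U) : G), (z : U).2, hz', ?_, ?_⟩
  · intro a ha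
    exact congrArg Subtype.val (mem_center_iff.mp z.2 ⟨a, ha⟩)
  · intro w hw hwc
    have h4 : (⟨w, hw⟩ : U) ∈ center U := by
      rw [mem_center_iff]
      intro g
      exact Subtype.ext (hwc g g.2)
    have h5 : zpowers z = ⊤ := by
      rw [← Subgroup.card_eq_iff_eq_top, Nat.card_zpowers, hz, h3]
    have h6 : (⟨⟨w, hw⟩, h4⟩ : center U) ∈ zpowers z := by rw [h5]; trivial
    obtain ⟨k, hk⟩ := h6
    refine ⟨k, ?_⟩
    have := congrArg (fun q : center U => ((q : U) : G)) hk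
    simpa using this

theorem card_cent9 [Finite G] {U : Subgroup G} (hU : Nat.card U = 27) {z : G} (hz : z ∈ U) (oz : orderOf z = 3)
    (hzc : ∀ x ∈ U, x * z = z * x) (hzz : ∀ y ∈ U, (∀ x ∈ U, x * y = y * x) → y ∈ zpowers z) {y : G} (hy : y ∈ U)
    (hyz : y ∉ zpowers z) : Nat.card (U ⊓ centralizer ({y} : Set G) : Subgroup G) = 9 := by
  have h1 : Nat.card (U ⊓ centralizer ({y} : Set G) : Subgroup G) ∣ 27 := hU ▸ card_dvd_of_le inf_le_left
  have h2 : zpowers z ≤ U ⊓ centralizer ({y} : Set G) := by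
    rw [zpowers_le, mem_inf, mem_centralizer_singleton_iff]
    exact ⟨hz, (hzc y hy).symm⟩
  have h3 : y ∈ U ⊓ centralizer ({y} : Set G) := by
    rw [mem_inf, mem_centralizer_singleton_iff]; exact ⟨hy, rfl⟩
  have h4 : Nat.card (zpowers z) = 3 := by rw [Nat.card_zpowers, oz]
  have h5 := card_dvd_of_le h2
  rw [h4] at h5
  rcases div27 h1 with h | h | h | h
  · rw [h] at h5; omega
  · exfalso
    have h6 : zpowers z = U ⊓ centralizer ({y} : Set G) := Subgroup.eq_of_le_of_card_ge h2 (by rw [h, h4])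
    rw [← h6] at h3
    exact hyz h3
  · exact h
  · exfalso
    have h6 : U ⊓ centralizer ({y} : Set G) = U := Subgroup.eq_of_le_of_card_ge inf_le_left (by rw [h, hU])
    apply hyz
    apply hzz y hy
    intro x hx
    rw [← h6, mem_inf, mem_centralizer_singleton_iff] at hx
    exact hx.2

theorem le_norm9 [Finite G] {U Y : Subgroup G} (hU : Nat.card U = 27) (hYU : Y ≤ U) (hY : Nat.card Y = 9) :
    U ≤ normalizer (Y : Set G) := by
  rw [← normal_subgroupOf_iff_le_normalizer hYU]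
  apply normal_of_index_eq_minFac_card
  have h1 := (Y.subgroupOf U).card_mul_index
  have h2 : Nat.card (Y.subgroupOf U) = 9 := by
    rw [← hY]; exact Nat.card_congr (subgroupOfEquivOfLe hYU).toEquiv
  rw [h2, hU] at h1
  rw [hU]
  have h3 : Nat.minFac 27 = 3 := by
    rw [show 27 = 3 ^ 3 by norm_num, Nat.pow_minFac (by norm_num), Nat.Prime.minFac_eq Nat.prime_three]
  rw [h3]
  omega

/-- conjugates of a noncentral element -/
theorem orb [Finite G] {U : Subgroup G} (hU : Nat.card U = 27) {z : G} (hz : z ∈ U) (oz : orderOf z = 3)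
    (hzc : ∀ x ∈ U, x * z = z * x) (hzz : ∀ y ∈ U, (∀ x ∈ U, x * y = y * x) → y ∈ zpowers z) {y : G} (hy : y ∈ U)
    (hyz : y ∉ zpowers z) {c : G} (hc : c ∈ zpowers z) : ∃ u ∈ U, u * y * u⁻¹ = y * c := by
  have hnc : ∃ x ∈ U, x * y ≠ y * x := by
    by_contra hcon
    push Not at hcon
    exact hyz (hzz y hy hcon)
  have hna : ∃ a b : U, a * b ≠ b * a := by
    obtain ⟨x, hx, hxy⟩ := hnc
    exact ⟨⟨x, hx⟩, ⟨y, hy⟩, fun h => hxy (congrArg Subtype.val h)⟩
  have hcc := card_center27 (P := U) hU hna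
  have hq : Nat.card (U ⧸ center U) = 3 ^ 2 := by
    have h4 := (center U).card_mul_index
    rw [hcc, hU] at h4
    rw [← Subgroup.index_eq_card]; omega
  have hcomm : ∀ a b : U, a * b * a⁻¹ * b⁻¹ ∈ center U := by
    intro a b
    rw [← QuotientGroup.eq_one_iff]
    have := IsPGroup.commutative_of_card_eq_prime_sq (p := 3) hq (a : U ⧸ center U) (b : U ⧸ center U)
    show (a : U ⧸ center U) * (b : U ⧸ center U) * (a : U ⧸ center U)⁻¹ * (b : U ⧸ center U)⁻¹ = 1
    rw [this]; group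
  set y' : U := ⟨y, hy⟩ with hy'
  let f : U →* center U :=
    { toFun := fun u => ⟨u * y' * u⁻¹ * y'⁻¹, hcomm u y'⟩
      map_one' := by apply Subtype.ext; simp
      map_mul' := by
        intro a b
        apply Subtype.ext
        show a * b * y' * (a * b)⁻¹ * y'⁻¹ = (a * y' * a⁻¹ * y'⁻¹) * (b * y' * b⁻¹ * y'⁻¹)
        have h1 := mem_center_iff.mp (hcomm b y') a
        have h2 := mem_center_iff.mp (hcomm b y') (y' * a⁻¹ * y'⁻¹)
        calc a * b * y' * (a * b)⁻¹ * y'⁻¹ = a * (b * y' * b⁻¹ * y'⁻¹) * (y' * a⁻¹ * y'⁻¹) := by group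
          _ = a * ((y' * a⁻¹ * y'⁻¹) * (b * y' * b⁻¹ * y'⁻¹)) := by rw [mul_assoc a, h2]
          _ = _ := by group }
  have hker : Nat.card f.ker = 9 := by
    rw [← card_cent9 hU hz oz hzc hzz hy hyz]
    apply Nat.card_congr
    refine Equiv.ofBijective (fun u => ⟨((u : U) : G), ?_⟩) ⟨?_, ?_⟩
    · rw [mem_inf, mem_centralizer_singleton_iff]
      refine ⟨(u : U).2, ?_⟩
      have h1 := congrArg (fun q : center U => ((q : U) : G)) (MonoidHom.mem_ker.mp u.2)
      have h2 : ((u : U) : G) * y * ((u : U) : G)⁻¹ * y⁻¹ = 1 := h1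
      have h3 := mul_inv_eq_one.mp h2
      exact mul_inv_eq_iff_eq_mul.mp h3
    · intro a b hab
      exact Subtype.ext (Subtype.ext (congrArg (fun q : (U ⊓ centralizer ({y} : Set G) : Subgroup G) => (q : G)) hab))
    · rintro ⟨x, hx⟩
      rw [mem_inf, mem_centralizer_singleton_iff] at hx
      refine ⟨⟨⟨x, hx.1⟩, ?_⟩, rfl⟩
      rw [MonoidHom.mem_ker]
      apply Subtype.ext
      apply Subtype.ext
      show x * y * x⁻¹ * y⁻¹ = 1
      rw [hx.2]; group
  have hr : Nat.card f.range = 3 := by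
    have h1 := f.ker.card_mul_index
    rw [hker, hU, Subgroup.index_ker] at h1
    omega
  have htop : f.range = ⊤ := by rw [← Subgroup.card_eq_iff_eq_top, hr, hcc]
  have hcU : c ∈ U := by
    have : zpowers z ≤ U := by rw [zpowers_le]; exact hz
    exact this hc
  have hcZ : (⟨c, hcU⟩ : U) ∈ center U := by
    rw [mem_center_iff]
    intro g
    apply Subtype.ext
    obtain ⟨k, hk⟩ := hc
    have h1 : Commute (g : G) z := hzc g g.2
    have h2 : Commute (g : G) (z ^ k) := h1.zpow_right k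
    rw [show z ^ k = c from hk] at h2
    exact h2
  have h1 : (⟨⟨c, hcU⟩, hcZ⟩ : center U) ∈ f.range := by rw [htop]; trivial
  obtain ⟨u, hu⟩ := h1
  refine ⟨(u : G), u.2, ?_⟩
  have h2 := congrArg (fun q : center U => ((q : U) : G)) hu
  have h3 : (u : G) * y * (u : G)⁻¹ * y⁻¹ = c := h2
  have h4 : y * c = c * y := by
    obtain ⟨k, hk⟩ := hc
    have h1 : Commute y z := hzc y hy
    have h2 : Commute y (z ^ k) := h1.zpow_right k
    rw [show z ^ k = c from hk] at h2
    exact h2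
  rw [h4, ← h3]; group

theorem span9 [Finite G] {Y : Subgroup G} (hY : Nat.card Y = 9) {a b : G} (ha : a ∈ Y) (hb : b ∈ Y) (oa : orderOf a = 3)
    (ob : orderOf b = 3) (hab : Commute a b) (hn : b ∉ zpowers a) : ∀ y ∈ Y, ∃ i j : ℕ, i < 3 ∧ j < 3 ∧ y = a ^ i * b ^ j := by
  let f : Fin 3 × Fin 3 → Y := fun p => ⟨a ^ (p.1 : ℕ) * b ^ (p.2 : ℕ), Y.mul_mem (Y.pow_mem ha _) (Y.pow_mem hb _)⟩
  have key : ∀ k : ℤ, b ^ k ∈ zpowers a → (3 : ℤ) ∣ k := by
    intro k hk
    by_contra h3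
    have hcop : IsCoprime (3 : ℤ) k := (Int.prime_three.irreducible.coprime_iff_not_dvd).mpr h3
    obtain ⟨u, v, huv⟩ := hcop
    apply hn
    have h1 : b = (b ^ k) ^ v := by
      rw [← zpow_mul]
      have h2 : b ^ (3 : ℤ) = 1 := by
        have : b ^ 3 = 1 := by rw [← ob, pow_orderOf_eq_one]
        exact_mod_cast this
      calc b = b ^ (u * 3 + v * k) := by rw [huv, zpow_one]
        _ = (b ^ (3 : ℤ)) ^ u * b ^ (k * v) := by rw [zpow_add, ← zpow_mul, mul_comm u 3, mul_comm v k]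
        _ = _ := by rw [h2, one_zpow, one_mul]
    rw [h1]
    exact (zpowers a).zpow_mem hk v
  have hf : Function.Injective f := by
    rintro ⟨i, j⟩ ⟨i', j'⟩ h
    have h1 : a ^ (i : ℕ) * b ^ (j : ℕ) = a ^ (i' : ℕ) * b ^ (j' : ℕ) := congrArg Subtype.val h
    have h2 : b ^ ((j : ℤ) - j') = (a ^ (i : ℕ))⁻¹ * a ^ (i' : ℕ) := by
      rw [zpow_sub, zpow_natCast, zpow_natCast, eq_inv_mul_iff_mul_eq, ← mul_assoc, h1]; group
    have h3 := key ((j : ℤ) - j') (by
      rw [h2]
      exact (zpowers a).mul_mem ((zpowers a).inv_mem (pow_mem (mem_zpowers a) _)) (pow_mem (mem_zpowers a) _))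
    have hj : j = j' := by
      apply Fin.ext
      have := j.2; have := j'.2
      omega
    subst hj
    have h4 : a ^ (i : ℕ) = a ^ (i' : ℕ) := mul_right_cancel h1
    have hi : i = i' := by
      apply Fin.ext
      have h5 := pow_inj_mod.mp h4
      rw [oa] at h5
      have := i.2; have := i'.2
      omega
    rw [hi]
  have hbij : Function.Bijective f := by
    rw [Nat.bijective_iff_injective_and_card]
    exact ⟨hf, by rw [hY]; simp⟩
  intro y hy
  obtain ⟨⟨i, j⟩, hij⟩ := hbij.2 ⟨y, hy⟩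
  exact ⟨i, j, i.2, j.2, (congrArg Subtype.val hij).symm⟩

end Cfsg.Agent.H67.L33
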