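import Cfsg.Agent.H67.L33.Plane

set_option autoImplicit false

/-!
# Planar difference sets modulo 13 (helper67)
-/

namespace Cfsg.Agent.H67.L33

/-- differences -/
def dif (a b c k : ZMod 13) : Bool :=
  k == a || k == -a || k == b || k == -b || k == c || k == -c || k == a - b || k == b - a || k == a - c || k == c - a ||
    k == b - c || k == c - b

def isB (x : ZMod 13) : Bool := x == 0 || x == 1 || x == 3 || x == 9

theorem isB_iff (x : ZMod 13) : isB x = true ↔ inB x := by
  simp [isB, inB, or_assoc]

theorem pds3 : ∀ a b c : ZMod 13, (dif a b c 1 && dif a b c 2 && dif a b c 3 && dif a b c 4 && dif a b c 5 && dif a b c 6) = true →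
    ∃ u s : ZMod 13, (u != 0 && isB s && isB (u * a + s) && isB (u * b + s) && isB (u * c + s)) = true := by
  decide +kernel

end Cfsg.Agent.H67.L33
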