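import Mathlib

set_option autoImplicit false

/-!
# The projective plane of order 3 in cyclic form and its automorphism group (helper67)
-/

namespace Cfsg.Agent.H67.L33

/-- the planar difference set {0, 1, 3, 9} modulo 13 -/
def inB (x : ZMod 13) : Prop := x = 0 ∨ x = 1 ∨ x = 3 ∨ x = 9

instance (x : ZMod 13) : Decidable (inB x) := by unfold inB; infer_instance

theorem pai {α : Type*} (σ : Equiv.Perm α) (x : α) : σ (σ⁻¹ x) = x := σ.apply_symm_apply x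
theorem pia {α : Type*} (σ : Equiv.Perm α) (x : α) : σ⁻¹ (σ x) = x := σ.symm_apply_apply x

/-- automorphism group of the plane -/
def A0 : Subgroup (Equiv.Perm (ZMod 13)) where
  carrier := {σ | ∃ τ : Equiv.Perm (ZMod 13), ∀ i j, inB (i - j) ↔ inB (σ i - τ j)}
  mul_mem' := by
    rintro a b ⟨τ, hτ⟩ ⟨τ', hτ'⟩
    exact ⟨τ * τ', fun i j => (hτ' i j).trans (hτ _ _)⟩
  one_mem' := ⟨1, fun i j => Iff.rfl⟩
  inv_mem' := by
    rintro a ⟨τ, hτ⟩
    refine ⟨τ⁻¹, fun i j => ?_⟩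
    have := hτ (a⁻¹ i) (τ⁻¹ j)
    rw [pai, pai] at this
    exact this.symm

theorem uniqL : ∀ i i' j k : ZMod 13, inB (i - j) → inB (i' - j) → i ≠ i' → inB (i - k) → inB (i' - k) → j = k := by
  decide +kernel

theorem uniqP : ∀ j k i i' : ZMod 13, inB (i - j) → inB (i - k) → j ≠ k → inB (i' - j) → inB (i' - k) → i = i' := by
  decide +kernel

/-- three points are not collinear -/
def ncol (a b c : ZMod 13) : Prop := ∀ j, ¬ (inB (a - j) ∧ inB (b - j) ∧ inB (c - j))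

instance (a b c : ZMod 13) : Decidable (ncol a b c) := by unfold ncol; infer_instance

theorem ncol_map {σ : Equiv.Perm (ZMod 13)} (hσ : σ ∈ A0) {a b c : ZMod 13} (h : ncol a b c) : ncol (σ a) (σ b) (σ c) := by
  obtain ⟨τ, hτ⟩ := hσ
  intro j hj
  have h1 := h (τ⁻¹ j)
  apply h1
  have e1 := hτ a (τ⁻¹ j)
  have e2 := hτ b (τ⁻¹ j)
  have e3 := hτ c (τ⁻¹ j)
  rw [pai] at e1 e2 e3
  exact ⟨e1.mpr hj.1, e2.mpr hj.2.1, e3.mpr hj.2.2⟩

theorem ncol_sub {a b c : ZMod 13} (h : ncol a b c) (x : ZMod 13) : ncol (a - x) (b - x) (c - x) := by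
  intro j hj
  apply h (j + x)
  have e : ∀ y : ZMod 13, y - (j + x) = y - x - j := fun y => by ring
  rw [e, e, e]
  exact hj

abbrev Tr := {p : ZMod 13 × ZMod 13 × ZMod 13 // p.1 ≠ 0 ∧ ncol 0 p.1 p.2.1 ∧ ncol 0 p.1 p.2.2 ∧ ncol 0 p.2.1 p.2.2 ∧
  ncol p.1 p.2.1 p.2.2}

theorem card_Tr : Fintype.card Tr = 432 := by decide +kernel

theorem nc1 : ncol 0 1 2 ∧ ncol 0 1 5 ∧ ncol 0 2 5 ∧ ncol 1 2 5 := by decide +kernel

theorem fix_all {ρ : Equiv.Perm (ZMod 13)} (hρ : ρ ∈ A0) (p0 : ρ 0 = 0) (p1 : ρ 1 = 1) (p2 : ρ 2 = 2) (p5 : ρ 5 = 5) :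
    ρ = 1 := by
  obtain ⟨τ, hτ⟩ := hρ
  have hL : ∀ i i' j : ZMod 13, ρ i = i → ρ i' = i' → inB (i - j) → inB (i' - j) → i ≠ i' → τ j = j := by
    intro i i' j hi hi' h1 h2 h3
    symm
    apply uniqL i i' j (τ j) h1 h2 h3
    · have := (hτ i j).mp h1; rwa [hi] at this
    · have := (hτ i' j).mp h2; rwa [hi'] at this
  have hP : ∀ i j k : ZMod 13, τ j = j → τ k = k → inB (i - j) → inB (i - k) → j ≠ k → ρ i = i := by
    intro i j k hj hk h1 h2 h3
    symm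
    apply uniqP j k i (ρ i) h1 h2 h3
    · have := (hτ i j).mp h1; rwa [hj] at this
    · have := (hτ i k).mp h2; rwa [hk] at this
  have l0 := hL 0 1 0 p0 p1 (by decide) (by decide) (by decide)
  have l1 := hL 1 2 1 p1 p2 (by decide) (by decide) (by decide)
  have l2 := hL 2 5 2 p2 p5 (by decide) (by decide) (by decide)
  have l4 := hL 0 5 4 p0 p5 (by decide) (by decide) (by decide)
  have l5 := hL 1 5 5 p1 p5 (by decide) (by decide) (by decide)
  have l12 := hL 0 2 12 p0 p2 (by decide) (by decide) (by decide)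
  have p3 := hP 3 0 2 l0 l2 (by decide) (by decide) (by decide)
  have p4 := hP 4 1 4 l1 l4 (by decide) (by decide) (by decide)
  have p8 := hP 8 5 12 l5 l12 (by decide) (by decide) (by decide)
  have l3 := hL 3 4 3 p3 p4 (by decide) (by decide) (by decide)
  have l7 := hL 3 8 7 p3 p8 (by decide) (by decide) (by decide)
  have l8 := hL 4 8 8 p4 p8 (by decide) (by decide) (by decide)
  have p6 := hP 6 5 3 l5 l3 (by decide) (by decide) (by decide)
  have p7 := hP 7 4 7 l4 l7 (by decide) (by decide) (by decide)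
  have p9 := hP 9 0 8 l0 l8 (by decide) (by decide) (by decide)
  have p10 := hP 10 1 7 l1 l7 (by decide) (by decide) (by decide)
  have p11 := hP 11 2 8 l2 l8 (by decide) (by decide) (by decide)
  have p12 := hP 12 12 3 l12 l3 (by decide) (by decide) (by decide)
  clear hL hP hτ l0 l1 l2 l4 l5 l12 l3 l7 l8
  have key : ∀ i : ZMod 13, i = 0 ∨ i = 1 ∨ i = 2 ∨ i = 3 ∨ i = 4 ∨ i = 5 ∨ i = 6 ∨ i = 7 ∨ i = 8 ∨ i = 9 ∨ i = 10 ∨
    i = 11 ∨ i = 12 := by decide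
  ext i
  rw [Equiv.Perm.one_apply]
  rcases key i with rfl | rfl | rfl | rfl | rfl | rfl | rfl | rfl | rfl | rfl | rfl | rfl | rfl
  · rw [p0]
  · rw [p1]
  · rw [p2]
  · rw [p3]
  · rw [p4]
  · rw [p5]
  · rw [p6]
  · rw [p7]
  · rw [p8]
  · rw [p9]
  · rw [p10]
  · rw [p11]
  · rw [p12]

theorem card_A0_le : Nat.card A0 ≤ 5616 := by
  let f : A0 → ZMod 13 × Tr := fun σ => (σ.1 0, ⟨(σ.1 1 - σ.1 0, σ.1 2 - σ.1 0, σ.1 5 - σ.1 0), by
    obtain ⟨n1, n2, n3, n4⟩ := nc1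
    have m1 := ncol_sub (ncol_map σ.2 n1) (σ.1 0)
    have m2 := ncol_sub (ncol_map σ.2 n2) (σ.1 0)
    have m3 := ncol_sub (ncol_map σ.2 n3) (σ.1 0)
    have m4 := ncol_sub (ncol_map σ.2 n4) (σ.1 0)
    rw [sub_self] at m1 m2 m3
    refine ⟨?_, m1, m2, m3, m4⟩
    intro h
    have := σ.1.injective (sub_eq_zero.mp h)
    revert this
    decide⟩)
  have hf : Function.Injective f := by
    intro σ σ' h
    have h0 : σ.1 0 = σ'.1 0 := congrArg Prod.fst h
    have h1 : (σ.1 1 - σ.1 0, σ.1 2 - σ.1 0, σ.1 5 - σ.1 0) = (σ'.1 1 - σ'.1 0, σ'.1 2 - σ'.1 0, σ'.1 5 - σ'.1 0) :=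
      congrArg Subtype.val (congrArg Prod.snd h)
    rw [Prod.mk.injEq, Prod.mk.injEq, h0] at h1
    obtain ⟨a1, a2, a3⟩ := h1
    have b1 : σ.1 1 = σ'.1 1 := sub_left_inj.mp a1
    have b2 : σ.1 2 = σ'.1 2 := sub_left_inj.mp a2
    have b3 : σ.1 5 = σ'.1 5 := sub_left_inj.mp a3
    have hρ : σ'.1⁻¹ * σ.1 ∈ A0 := A0.mul_mem (A0.inv_mem σ'.2) σ.2
    have key := fix_all hρ (by rw [Equiv.Perm.mul_apply, h0, pia])
      (by rw [Equiv.Perm.mul_apply, b1, pia])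
      (by rw [Equiv.Perm.mul_apply, b2, pia])
      (by rw [Equiv.Perm.mul_apply, b3, pia])
    apply Subtype.ext
    exact (inv_mul_eq_one.mp key).symm
  have h1 := Nat.card_le_card_of_injective f hf
  rw [Nat.card_prod, Nat.card_eq_fintype_card (α := Tr), card_Tr, Nat.card_zmod] at h1
  exact h1

end Cfsg.Agent.H67.L33
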