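import Cfsg.Agent.H67.L33.Mk
import Cfsg.Agent.H67.L33.OrderMain
import Cfsg.Agent.ClassBase.PSL
import Cfsg.Agent.H67.M11.SporM11

set_option autoImplicit false

/-!
# Groups with one class of involutions with centralizer GL(2, 3) are simple (helper67)
-/

namespace Cfsg.Agent.H67.L33

open Subgroup Cfsg

universe u

variable {G : Type u} [Group G]

set_option synthInstance.maxHeartbeats 400000 in
set_option synthInstance.maxSize 1000 in
theorem uprod : ∀ v : U4, detV v.1 = 1 → ∃ a : U4, a * a = 1 ∧ (a * v) * (a * v) = 1 := by decide +kernel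

set_option synthInstance.maxHeartbeats 400000 in
set_option synthInstance.maxSize 1000 in
theorem uc0 : ∀ v : U4, detV v.1 ≠ 1 → detV (c0 * v).1 = 1 ∧ c0 * (c0 * v) = v := by decide +kernel

set_option synthInstance.maxHeartbeats 400000 in
set_option synthInstance.maxSize 1000 in
theorem usq : c0 * c0 = 1 := by decide +kernel

set_option synthInstance.maxHeartbeats 400000 in
set_option synthInstance.maxSize 1000 in
theorem uassoc : ∀ a v : U4, a * a = 1 → a * (a * v) = v := by decide +kernel

set_option synthInstance.maxHeartbeats 400000 in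
set_option synthInstance.maxSize 1000 in
theorem u3conj : ∀ v : U4, (v * v * v = 1 ∧ v ≠ 1) → ∃ u v' : U4, u * v = v' * u ∧
    (v' * v) * (v' * v) * ((v' * v) * (v' * v)) = 1 ∧ v' * v ≠ 1 := by decide +kernel

set_option synthInstance.maxHeartbeats 400000 in
set_option synthInstance.maxSize 1000 in
theorem u_four : ∃ s : U4, s * s = 1 ∧ s ≠ 1 ∧ s ≠ z0 := ⟨c0, by decide +kernel⟩

theorem cent_le_of_invol {N : Subgroup G} (hN : ∀ x : G, x * x = 1 → x ∈ N) {t : G} (P : Par t) : centralizer ({t} : Set G) ≤ N := by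
  have h1 : ∀ v : U4, detV v.1 = 1 → P.el v ∈ N := by
    intro v hv
    obtain ⟨a, ha, hb⟩ := uprod v hv
    have h2 : P.el v = P.el a * P.el (a * v) := by rw [← P.mul, uassoc a v ha]
    rw [h2]
    exact mul_mem (hN _ (by rw [← P.mul, ha, P.one])) (hN _ (by rw [← P.mul, hb, P.one]))
  intro g hg
  obtain ⟨v, rfl⟩ := P.surj g (mem_centralizer_singleton_iff.mp hg)
  by_cases hv : detV v.1 = 1
  · exact h1 v hv
  · obtain ⟨h2, h3⟩ := uc0 v hv
    rw [← h3, P.mul]
    exact mul_mem (hN _ (by rw [← P.mul, usq, P.one])) (h1 _ h2)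

theorem exists_syl [Finite G] (hcent : ∀ x : G, orderOf x = 2 → Nonempty (Par x)) (hmod : Nat.card G % 32 = 16) :
    ∃ (S : Sylow 2 G) (y : G), orderOf y = 2 ∧ (∀ x ∈ (S : Subgroup G), x * y = y * x) ∧ y ∈ (S : Subgroup G) ∧
      normalizer ((S : Subgroup G) : Set G) ≤ centralizer ({y} : Set G) := by
  classical
  haveI : Fact (Nat.Prime 2) := ⟨Nat.prime_two⟩
  obtain ⟨S⟩ : Nonempty (Sylow 2 G) := inferInstance
  have h16 : 16 ≤ Nat.card (S : Subgroup G) := by
    have h1 : 2 ^ 4 ∣ Nat.card G := by omega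
    exact Nat.le_of_dvd Nat.card_pos (S.pow_dvd_card_of_pow_dvd_card h1)
  haveI : Nontrivial (S : Subgroup G) := by
    rw [← Finite.one_lt_card_iff_nontrivial]; omega
  have hcn := S.isPGroup'.center_nontrivial
  have h2 : 2 ∣ Nat.card (center (S : Subgroup G)) := by
    obtain ⟨n, hn⟩ := IsPGroup.iff_card.mp (S.isPGroup'.to_subgroup (center (S : Subgroup G)))
    have : 1 < Nat.card (center (S : Subgroup G)) := Finite.one_lt_card_iff_nontrivial.mpr hcn
    rw [hn] at this ⊢
    have hn0 : n ≠ 0 := by rintro rfl; norm_num at this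
    exact dvd_pow_self 2 hn0
  obtain ⟨z, hz⟩ := exists_prime_orderOf_dvd_card' 2 h2
  have hz2 : orderOf (((z : (S : Subgroup G)) : G)) = 2 := by
    rw [Subgroup.orderOf_coe, Subgroup.orderOf_coe, hz]
  have hzS : ∀ x ∈ (S : Subgroup G), x * ((z : (S : Subgroup G)) : G) = ((z : (S : Subgroup G)) : G) * x := by
    intro x hx
    exact congrArg Subtype.val (mem_center_iff.mp z.2 ⟨x, hx⟩)
  have hyS : ((z : (S : Subgroup G)) : G) ∈ (S : Subgroup G) := (z : (S : Subgroup G)).2
  generalize ((z : (S : Subgroup G)) : G) = y at hz2 hzS hyS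
  refine ⟨S, y, hz2, hzS, hyS, ?_⟩
  obtain ⟨P⟩ := hcent y hz2
  have huniq : ∀ w ∈ (S : Subgroup G), orderOf w = 2 → (∀ x ∈ (S : Subgroup G), x * w = w * x) → w = y := by
    intro w hw ow hwc
    by_contra hne
    obtain ⟨v, hv⟩ := P.surj w (hzS w hw)
    have v1 : v * v = 1 ∧ v ≠ 1 ∧ v ≠ z0 := by
      refine ⟨P.inj ?_, ?_, ?_⟩
      · rw [P.mul, hv, P.one, ← pow_two, ← ow, pow_orderOf_eq_one]
      · rintro rfl
        rw [P.one] at hv
        rw [← hv, orderOf_one] at ow; omega
      · rintro rfl
        rw [P.t_eq hz2] at hv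
        exact hne hv.symm
    have h5 := c6 v v1
    have h6 : Nat.card (S : Subgroup G) ≤ Fintype.card {u : U4 // u * v = v * u} := by
      rw [← Nat.card_eq_fintype_card]
      have hx : ∀ x : (S : Subgroup G), ∃ u : {u : U4 // u * v = v * u}, P.el u.1 = x := by
        intro x
        obtain ⟨u, hu⟩ := P.surj _ (hzS x x.2)
        refine ⟨⟨u, P.inj ?_⟩, hu⟩
        rw [P.mul, P.mul, hu, hv]
        exact hwc x x.2
      choose f hf using hx
      exact Nat.card_le_card_of_injective f (fun a b hab => Subtype.ext (by rw [← hf a, ← hf b, hab]))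
    omega
  intro n hn
  have h3 : n * y * n⁻¹ = y := by
    apply huniq
    · exact norm_mem hn hyS
    · rw [order_conj, hz2]
    · intro x hx
      have h4 : n⁻¹ * x * n ∈ (S : Subgroup G) := by
        have := norm_mem (inv_mem hn) hx
        rwa [inv_inv] at this
      have h5 : Commute (n⁻¹ * x * n) y := hzS _ h4
      have h6 := commute_conj (g := n) h5
      rw [show n * (n⁻¹ * x * n) * n⁻¹ = x by group] at h6
      exact h6
  exact mem_centralizer_singleton_iff.mpr (mul_inv_eq_iff_eq_mul.mp h3)

theorem simple_of [Finite G] (hconj : ∀ x y : G, orderOf x = 2 → orderOf y = 2 → IsConj x y)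
    (hcent : ∀ x : G, orderOf x = 2 → Nonempty (Par x)) (hmod : Nat.card G % 32 = 16) : IsSimpleGroup G := by
  classical
  haveI : Fact (Nat.Prime 2) := ⟨Nat.prime_two⟩
  obtain ⟨S, y, oy, hyc, hyS, hNS⟩ := exists_syl hcent hmod
  haveI : Nontrivial G := ⟨⟨y, 1, fun h => by rw [h, orderOf_one] at oy; omega⟩⟩
  refine { eq_bot_or_eq_top_of_normal := ?_ }
  intro N hN
  by_cases heven : 2 ∣ Nat.card N
  · right
    obtain ⟨s, hs⟩ := exists_prime_orderOf_dvd_card' 2 heven
    have os : orderOf (s : G) = 2 := by rw [Subgroup.orderOf_coe, hs]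
    have hall : ∀ x : G, x * x = 1 → x ∈ N := by
      intro x hx
      by_cases hx1 : x = 1
      · rw [hx1]; exact N.one_mem
      · have ox : orderOf x = 2 := orderOf_eq_prime (by rw [pow_two]; exact hx) hx1
        obtain ⟨g, hg⟩ := isConj_iff.mp (hconj s x os ox)
        rw [← hg]; exact hN.conj_mem _ s.2 g
    obtain ⟨P⟩ := hcent y oy
    have h1 := cent_le_of_invol hall P
    have hSN : (S : Subgroup G) ≤ N := fun x hx => h1 (mem_centralizer_singleton_iff.mpr (hyc x hx))
    have h2 := Sylow.normalizer_sup_eq_top' S hSN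
    rw [eq_top_iff, ← h2]
    exact sup_le (hNS.trans h1) le_rfl
  · left
    have hodd : ∀ x ∈ N, x * x * (x * x) = 1 → x = 1 := by
      intro x hx h4
      have h5 : orderOf x ∣ 4 := orderOf_dvd_of_pow_eq_one (by rw [← h4]; simp only [pow_succ, pow_zero, one_mul, mul_assoc])
      have h6 : orderOf x ∣ Nat.card N := by
        have := orderOf_dvd_natCard (⟨x, hx⟩ : N)
        rwa [Subgroup.orderOf_mk] at this
      have h7 : orderOf x = 1 ∨ orderOf x = 2 ∨ orderOf x = 4 := by
        have : orderOf x ∈ Nat.divisors 4 := Nat.mem_divisors.mpr ⟨h5, by norm_num⟩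
        rw [show Nat.divisors 4 = {1, 2, 4} by decide +kernel] at this
        simpa using this
      rcases h7 with h7 | h7 | h7
      · exact orderOf_eq_one_iff.mp h7
      · rw [h7] at h6; exact absurd h6 heven
      · rw [h7] at h6; exact absurd ((show 2 ∣ 4 by norm_num).trans h6) heven
    -- centralizers in N of involutions are trivial
    have hC : ∀ s : G, orderOf s = 2 → ∀ x ∈ N, Commute s x → x = 1 := by
      intro s os x hx hsx
      by_contra hx1
      obtain ⟨P⟩ := hcent s os
      have h48 := P.card_cent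
      have h1 : Nat.card (N ⊓ centralizer ({s} : Set G) : Subgroup G) ∣ 48 := h48 ▸ card_dvd_of_le inf_le_right
      have h2 : ¬ 2 ∣ Nat.card (N ⊓ centralizer ({s} : Set G) : Subgroup G) := fun h => heven (h.trans (card_dvd_of_le inf_le_left))
      have h3 : Nat.card (N ⊓ centralizer ({s} : Set G) : Subgroup G) = 1 ∨ Nat.card (N ⊓ centralizer ({s} : Set G) : Subgroup G) = 3 := by
        have key : ∀ d ∈ Nat.divisors 48, ¬ 2 ∣ d → d = 1 ∨ d = 3 := by decide +kernel
        exact key _ (Nat.mem_divisors.mpr ⟨h1, by norm_num⟩) h2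
      rcases h3 with h3 | h3
      · have h4 := Subgroup.eq_bot_of_card_eq _ h3
        have h5 : x ∈ N ⊓ centralizer ({s} : Set G) := ⟨hx, commute_iff_mem.mpr hsx⟩
        rw [h4, mem_bot] at h5
        exact hx1 h5
      · obtain ⟨w, hw⟩ := exists_prime_orderOf_dvd_card' (G := (N ⊓ centralizer ({s} : Set G) : Subgroup G)) 3 (by rw [h3])
        have ow : orderOf (w : G) = 3 := by rw [Subgroup.orderOf_coe, hw]
        obtain ⟨v, hv⟩ := P.surj w (mem_centralizer_singleton_iff.mp w.2.2)
        have h4 := P.order3 (v := v) (by rw [hv]; exact ow)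
        obtain ⟨u, v', hu, h5, h6⟩ := u3conj v h4
        have h7 : P.el v ∈ N := by rw [hv]; exact w.2.1
        have h8 : P.el v' ∈ N := by
          have h9 : P.el v' = P.el u * P.el v * (P.el u)⁻¹ := by
            rw [← P.mul, hu, P.mul]; group
          rw [h9]; exact hN.conj_mem _ h7 _
        have h9 := hodd (P.el (v' * v)) (by rw [P.mul]; exact mul_mem h8 h7) (by
          rw [← P.mul, ← P.mul, h5, P.one])
        rw [← P.one] at h9
        exact h6 (P.inj h9)
    -- involutions invert N
    have hinv : ∀ s : G, orderOf s = 2 → ∀ x ∈ N, s * x * s⁻¹ = x⁻¹ := by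
      intro s os x hx
      have hs2 : s * s = 1 := by
        have := pow_orderOf_eq_one s
        rwa [os, pow_two] at this
      have hsi : s⁻¹ = s := by rw [inv_eq_iff_mul_eq_one]; exact hs2
      let φ : N →* N :=
        { toFun := fun x => ⟨s * x * s⁻¹, hN.conj_mem _ x.2 s⟩
          map_one' := Subtype.ext (by simp)
          map_mul' := fun x y => Subtype.ext (by
            show s * (x * y) * s⁻¹ = s * x * s⁻¹ * (s * y * s⁻¹)
            group) }
      have hfix : MonoidHom.FixedPointFree φ := by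
        intro x hx
        have h1 : s * (x : G) * s⁻¹ = x := congrArg Subtype.val hx
        exact Subtype.ext (hC s os x x.2 (mul_inv_eq_iff_eq_mul.mp h1))
      have hinv : Function.Involutive φ := by
        intro x
        apply Subtype.ext
        show s * (s * x * s⁻¹) * s⁻¹ = x
        rw [hsi]
        calc s * (s * (x : G) * s) * s = (s * s) * x * (s * s) := by group
          _ = x := by rw [hs2, one_mul, mul_one]
      have h1 := congrFun (hfix.coe_eq_inv_of_involutive hinv) ⟨x, hx⟩
      exact congrArg Subtype.val h1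
    obtain ⟨P⟩ := hcent y oy
    obtain ⟨s, hs1, hs2, hs3⟩ := u_four
    have os : orderOf (P.el s) = 2 := orderOf_eq_prime (by rw [pow_two, ← P.mul, hs1, P.one]) (by
      intro h; rw [← P.one] at h; exact hs2 (P.inj h))
    have hsy : P.el s * y = y * P.el s := P.mem s
    have osy : orderOf (P.el s * y) = 2 := by
      have hy2 : y * y = 1 := by
        have := pow_orderOf_eq_one y
        rwa [oy, pow_two] at this
      apply orderOf_eq_prime
      · rw [pow_two]
        calc P.el s * y * (P.el s * y) = P.el s * (y * P.el s) * y := by group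
          _ = P.el s * (P.el s * y) * y := by rw [hsy]
          _ = (P.el s * P.el s) * (y * y) := by group
          _ = 1 := by rw [hy2, ← P.mul, hs1, P.one, one_mul]
      · intro h
        apply hs3
        apply P.inj
        rw [P.t_eq oy]
        exact mul_right_cancel (h.trans hy2.symm)
    rw [eq_bot_iff]
    intro x hx
    rw [mem_bot]
    apply hodd x hx
    have h1 := hinv _ os (y * x * y⁻¹) (hN.conj_mem _ hx y)
    have h2 := hinv _ osy x hx
    have h3 := hinv _ oy x hx
    rw [h3, inv_inv] at h1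
    have h4 : P.el s * x⁻¹ * (P.el s)⁻¹ = x⁻¹ := by
      calc P.el s * x⁻¹ * (P.el s)⁻¹ = P.el s * (y * x * y⁻¹) * (P.el s)⁻¹ := by rw [h3]
        _ = P.el s * y * x * (P.el s * y)⁻¹ := by group
        _ = x⁻¹ := h2
    rw [h1] at h4
    have h5 : x * x = 1 := by nth_rewrite 2 [h4]; exact mul_inv_cancel x
    rw [h5, one_mul]

end Cfsg.Agent.H67.L33
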