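import Mathlib

set_option autoImplicit false

/-!
# Integer vectors with the Gram matrix of the special characters of GL(2, 3) (helper67)
-/

namespace Cfsg.Agent.H67.L33

variable {I : Type*} [Fintype I] [DecidableEq I]

/-- indicator -/
def D (a i : I) : ℤ := if i = a then 1 else 0

omit [Fintype I] in
theorem D_self (a : I) : D a a = 1 := if_pos rfl
omit [Fintype I] in
theorem D_ne {a i : I} (h : i ≠ a) : D a i = 0 := if_neg h

theorem sum_D (a : I) (f : I → ℤ) : ∑ i, D a i * f i = f a := by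
  unfold D
  simp

theorem peel (g : I → ℤ) (a : I) : ∑ i, g i ^ 2 = g a ^ 2 + ∑ i, (g i - g a * D a i) ^ 2 := by
  have h : ∀ i, (g i - g a * D a i) ^ 2 = g i ^ 2 - D a i * (2 * g a * g i) + D a i * (g a ^ 2) := by
    intro i
    have : D a i * D a i = D a i := by unfold D; split_ifs <;> rfl
    linear_combination (g a ^ 2) * this
  simp only [h, Finset.sum_add_distrib, Finset.sum_sub_distrib, sum_D]
  ring

theorem peel_ex (g : I → ℤ) (a : I) (x : ℤ) (hx : g a = x) : ∃ g' : I → ℤ, (∀ i, g i = x * D a i + g' i) ∧ g' a = 0 ∧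
    (∀ i, i ≠ a → g' i = g i) ∧ ∑ i, g i ^ 2 = x ^ 2 + ∑ i, g' i ^ 2 := by
  refine ⟨fun i => g i - x * D a i, fun i => by ring, ?_, ?_, ?_⟩
  · show g a - x * D a a = 0
    rw [D_self, hx]; ring
  · intro i hi
    show g i - x * D a i = g i
    rw [D_ne hi]; ring
  · have := peel g a
    rw [hx] at this
    exact this

theorem norm_zero {g : I → ℤ} (h : ∑ i, g i ^ 2 = 0) (i : I) : g i = 0 := by
  have h1 := (Finset.sum_eq_zero_iff_of_nonneg (fun i _ => sq_nonneg (g i))).mp h i (Finset.mem_univ i)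
  exact pow_eq_zero_iff (two_ne_zero) |>.mp h1

theorem sq_le_sum (g : I → ℤ) (i : I) : g i ^ 2 ≤ ∑ i, g i ^ 2 :=
  Finset.single_le_sum (f := fun i => g i ^ 2) (fun i _ => sq_nonneg (g i)) (Finset.mem_univ i)

theorem sum_nonneg' (g : I → ℤ) : 0 ≤ ∑ i, g i ^ 2 := Finset.sum_nonneg (fun i _ => sq_nonneg (g i))

theorem exists_ne {g : I → ℤ} (h : 0 < ∑ i, g i ^ 2) : ∃ i, g i ≠ 0 := by
  by_contra hcon
  push Not at hcon
  simp [hcon] at h

theorem sq_one_of {x : ℤ} (h : x ≠ 0) (h2 : x ^ 2 ≤ 2) : x ^ 2 = 1 := by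
  have h1 : x ≤ 1 := by nlinarith
  have h3 : -1 ≤ x := by nlinarith
  have : x = 1 ∨ x = -1 := by omega
  rcases this with rfl | rfl <;> norm_num

theorem pm_one {x : ℤ} (h : x ^ 2 = 1) : x = 1 ∨ x = -1 := by
  have : (x - 1) * (x + 1) = 0 := by ring_nf; omega
  rcases mul_eq_zero.mp this with h | h
  · left; omega
  · right; omega

theorem norm_one {g : I → ℤ} (h : ∑ i, g i ^ 2 = 1) : ∃ q, g q ^ 2 = 1 ∧ ∀ i, g i = g q * D q i := by
  obtain ⟨q, hq⟩ := exists_ne (g := g) (by omega)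
  have h1 := sq_one_of hq ((sq_le_sum g q).trans (by omega))
  have h2 := peel g q
  refine ⟨q, h1, fun i => ?_⟩
  have := norm_zero (g := fun i => g i - g q * D q i) (by omega) i
  linarith

theorem norm_two {g : I → ℤ} (h : ∑ i, g i ^ 2 = 2) :
    ∃ p q, p ≠ q ∧ g p ^ 2 = 1 ∧ g q ^ 2 = 1 ∧ ∀ i, g i = g p * D p i + g q * D q i := by
  obtain ⟨p, hp⟩ := exists_ne (g := g) (by omega)
  have h1 := sq_one_of hp ((sq_le_sum g p).trans (by omega))
  have h2 := peel g p
  obtain ⟨q, hq, hq'⟩ := norm_one (g := fun i => g i - g p * D p i) (by omega)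
  have hpq : p ≠ q := by
    rintro rfl
    simp only [D_self, mul_one, sub_self] at hq
    norm_num at hq
  have hqv : g q - g p * D p q = g q := by rw [D_ne hpq.symm]; ring
  simp only [hqv] at hq hq'
  exact ⟨p, q, hpq, h1, hq, fun i => by have := hq' i; linarith⟩

/-- difference of two indicators -/
theorem exc {g d : I → ℤ} (hd : ∀ i, 0 < d i) (h : ∑ i, g i ^ 2 = 2) (h0 : ∑ i, g i * d i = 0) :
    ∃ p q, p ≠ q ∧ (∀ i, g i = D p i - D q i) ∧ d p = d q := by
  obtain ⟨p, q, hpq, hp, hq, hg⟩ := norm_two h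
  have h1 : ∑ i, g i * d i = g p * d p + g q * d q := by
    have : ∀ i, g i * d i = g p * (D p i * d i) + g q * (D q i * d i) := by
      intro i; rw [hg i]; ring
    simp only [this, Finset.sum_add_distrib, ← Finset.mul_sum, sum_D]
  rw [h1] at h0
  have hp' := hd p
  have hq' := hd q
  have e1 : g p = 1 ∨ g p = -1 := pm_one hp
  have e2 : g q = 1 ∨ g q = -1 := pm_one hq
  rcases e1 with e1 | e1 <;> rcases e2 with e2 | e2 <;> rw [e1, e2] at h0
  · omega
  · exact ⟨p, q, hpq, fun i => by rw [hg i, e1, e2]; ring, by omega⟩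
  · exact ⟨q, p, hpq.symm, fun i => by rw [hg i, e1, e2]; ring, by omega⟩
  · omega

end Cfsg.Agent.H67.L33
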