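import Cfsg.Agent.H67.L33.Vec

set_option autoImplicit false

/-!
# Integer vectors with the Gram matrix of the special characters of GL(2, 3), continued (helper67)
-/

namespace Cfsg.Agent.H67.L33

variable {I : Type*} [Fintype I] [DecidableEq I]

theorem sum_comb2 (a b : ℤ) (p q : I) (f : I → ℤ) :
    ∑ i, (a * D p i + b * D q i) * f i = a * f p + b * f q := by
  have : ∀ i, (a * D p i + b * D q i) * f i = a * (D p i * f i) + b * (D q i * f i) := by intro i; ring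
  simp only [this, Finset.sum_add_distrib, ← Finset.mul_sum, sum_D]

theorem sum_comb3 (a b c : ℤ) (p q r : I) (f : I → ℤ) :
    ∑ i, (a * D p i + b * D q i + c * D r i) * f i = a * f p + b * f q + c * f r := by
  have : ∀ i, (a * D p i + b * D q i + c * D r i) * f i = a * (D p i * f i) + b * (D q i * f i) + c * (D r i * f i) := by
    intro i; ring
  simp only [this, Finset.sum_add_distrib, ← Finset.mul_sum, sum_D]

theorem three {l1 l2 d : I → ℤ} (hd : ∀ i, 0 < d i) (h11 : ∑ i, l1 i ^ 2 = 2) (h22 : ∑ i, l2 i ^ 2 = 2)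
    (h12 : ∑ i, l1 i * l2 i = -1) (h1 : ∑ i, l1 i * d i = 0) (h2 : ∑ i, l2 i * d i = 0) :
    ∃ (e : ℤ) (p1 p2 p3 : I), e ^ 2 = 1 ∧ p1 ≠ p2 ∧ p1 ≠ p3 ∧ p2 ≠ p3 ∧
      (∀ i, l1 i = e * D p2 i + (-e) * D p3 i) ∧ (∀ i, l2 i = e * D p1 i + (-e) * D p2 i) ∧ d p1 = d p2 ∧ d p2 = d p3 := by
  obtain ⟨u, v, huv, hl1, hduv⟩ := exc hd h11 h1
  obtain ⟨x, y, hxy, hl2, hdxy⟩ := exc hd h22 h2
  have h3 : ∑ i, l1 i * l2 i = l2 u - l2 v := by
    have : ∀ i, l1 i * l2 i = D u i * l2 i - D v i * l2 i := by intro i; rw [hl1 i]; ring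
    simp only [this, Finset.sum_sub_distrib, sum_D]
  rw [h12, hl2 u, hl2 v] at h3
  by_cases huy : u = y
  · subst huy
    have hvx : v ≠ x := by
      rintro rfl
      rw [D_self, D_self, D_ne hxy.symm, D_ne hxy] at h3
      omega
    exact ⟨1, x, u, v, by norm_num, hxy, hvx.symm, huv, fun i => by rw [hl1 i]; ring, fun i => by rw [hl2 i]; ring, hdxy, hduv⟩
  · by_cases hvx : v = x
    · subst hvx
      exact ⟨-1, y, v, u, by norm_num, hxy.symm, fun h => huy h.symm, huv.symm, fun i => by rw [hl1 i]; ring,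
        fun i => by rw [hl2 i]; ring, hdxy.symm, hduv.symm⟩
    · rw [D_ne huy, D_ne hvx] at h3
      have a1 : 0 ≤ D x u := by unfold D; split_ifs <;> norm_num
      have a2 : 0 ≤ D y v := by unfold D; split_ifs <;> norm_num
      omega

/-- third vector -/
theorem fourth {l1 l2 l3 d : I → ℤ} {o : I} (hd : ∀ i, 0 < d i) (hdo : d o = 1) (e : ℤ) (p1 p2 p3 : I) (he : e ^ 2 = 1)
    (h12 : p1 ≠ p2) (h13 : p1 ≠ p3) (h23 : p2 ≠ p3) (hl1 : ∀ i, l1 i = e * D p2 i + (-e) * D p3 i)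
    (hl2 : ∀ i, l2 i = e * D p1 i + (-e) * D p2 i) (hd12 : d p1 = d p2) (hd23 : d p2 = d p3)
    (ho1 : l1 o = 0) (ho2 : l2 o = 0) (ho3 : l3 o = 1)
    (h33 : ∑ i, l3 i ^ 2 = 3) (g13 : ∑ i, l1 i * l3 i = 0) (g23 : ∑ i, l2 i * l3 i = 1) (h3 : ∑ i, l3 i * d i = 0) :
    o ≠ p1 ∧ o ≠ p2 ∧ o ≠ p3 ∧ ∃ q, q ≠ o ∧ q ≠ p1 ∧ q ≠ p2 ∧ q ≠ p3 ∧
      (∀ i, l3 i = 1 * D o i + e * D p1 i + (-e) * D q i) ∧ d q = d p1 + e := by
  have he' := pm_one he
  have ne0 : e ≠ 0 := by rcases he' with h | h <;> omega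
  have op2 : o ≠ p2 := by
    intro h
    rw [hl1, h, D_self, D_ne h23] at ho1
    omega
  have op3 : o ≠ p3 := by
    intro h
    rw [hl1, h, D_self, D_ne h23.symm] at ho1
    omega
  have op1 : o ≠ p1 := by
    intro h
    rw [hl2, h, D_self, D_ne h12] at ho2
    omega
  refine ⟨op1, op2, op3, ?_⟩
  have s1 : ∑ i, l1 i * l3 i = e * l3 p2 + (-e) * l3 p3 := by
    simp only [hl1]; exact sum_comb2 _ _ _ _ _
  have s2 : ∑ i, l2 i * l3 i = e * l3 p1 + (-e) * l3 p2 := by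
    simp only [hl2]; exact sum_comb2 _ _ _ _ _
  rw [g13] at s1
  rw [g23] at s2
  have e23 : l3 p2 = l3 p3 := by
    have : e * (l3 p2 - l3 p3) = 0 := by linear_combination -s1
    rcases mul_eq_zero.mp this with h | h
    · exact absurd h ne0
    · omega
  have e12 : l3 p1 = l3 p2 + e := by
    have : e * (l3 p1 - l3 p2 - e) = 0 := by linear_combination -s2 - he
    rcases mul_eq_zero.mp this with h | h
    · exact absurd h ne0
    · omega
  -- peel
  obtain ⟨g1, k1, -, m1, q1⟩ := peel_ex l3 o 1 ho3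
  obtain ⟨g2, k2, -, m2, q2⟩ := peel_ex g1 p2 (l3 p2) (m1 _ op2.symm)
  obtain ⟨g3, k3, -, m3, q3⟩ := peel_ex g2 p3 (l3 p2) (by rw [m2 _ h23.symm, m1 _ op3.symm, e23])
  obtain ⟨g4, k4, -, m4, q4⟩ := peel_ex g3 p1 (l3 p1) (by rw [m3 _ h13, m2 _ h12, m1 _ op1.symm])
  have n4 := sum_nonneg' g4
  have tot : l3 p2 ^ 2 + l3 p2 ^ 2 + l3 p1 ^ 2 + ∑ i, g4 i ^ 2 = 2 := by
    rw [h33] at q1
    linarith
  have key : ∀ i, l3 i = D o i + l3 p2 * D p2 i + l3 p2 * D p3 i + l3 p1 * D p1 i + g4 i := by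
    intro i
    rw [k1 i, k2 i, k3 i, k4 i]; ring
  have hy : l3 p2 = 0 := by
    by_contra hy0
    have h4 : l3 p2 = -e ∧ ∑ i, g4 i ^ 2 = 0 := by
      rw [e12] at tot
      have b1 : l3 p2 ≤ 1 := by nlinarith [sq_nonneg (l3 p2 + e)]
      have b2 : -1 ≤ l3 p2 := by nlinarith [sq_nonneg (l3 p2 + e)]
      rcases he' with h | h <;> rw [h] at tot ⊢
      · have : l3 p2 = 1 ∨ l3 p2 = -1 := by omega
        rcases this with h5 | h5 <;> rw [h5] at tot ⊢ <;> constructor <;> linarith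
      · have : l3 p2 = 1 ∨ l3 p2 = -1 := by omega
        rcases this with h5 | h5 <;> rw [h5] at tot ⊢ <;> constructor <;> linarith
    obtain ⟨h5, h6⟩ := h4
    have h7 : l3 p1 = 0 := by rw [e12, h5]; ring
    have h8 : ∑ i, l3 i * d i = 1 * d o + (-e) * d p2 + (-e) * d p3 := by
      rw [← sum_comb3]
      refine Finset.sum_congr rfl fun i _ => ?_
      rw [key i, h5, h7, norm_zero h6 i]; ring
    rw [h3, hdo, ← hd23] at h8
    rcases he' with h | h <;> rw [h] at h8 <;> omega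
  rw [hy] at tot e12 key
  rw [zero_add] at e12
  have h5 : ∑ i, g4 i ^ 2 = 1 := by rw [e12] at tot; linarith
  obtain ⟨q, hq, hgq⟩ := norm_one h5
  have key' : ∀ i, l3 i = D o i + e * D p1 i + g4 q * D q i := by
    intro i; rw [key i, hgq i, e12]; ring
  have hq' := pm_one hq
  -- q differs from the others
  have g4p1 : g4 p1 = 0 := by
    have := key p1
    rw [D_self, D_ne op1.symm, e12] at this
    linarith
  have g4o : g4 o = 0 := by
    have := key o
    rw [D_self, D_ne op1, ho3] at this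
    linarith
  have g4p2 : g4 p2 = 0 := by
    have := key p2
    rw [hy, D_ne op2.symm, D_ne h12.symm] at this
    linarith
  have g4p3 : g4 p3 = 0 := by
    have := key p3
    rw [← e23, hy, D_ne op3.symm, D_ne h13.symm] at this
    linarith
  have n1 : q ≠ o := by rintro rfl; rw [g4o] at hq; norm_num at hq
  have n2 : q ≠ p1 := by rintro rfl; rw [g4p1] at hq; norm_num at hq
  have n3 : q ≠ p2 := by rintro rfl; rw [g4p2] at hq; norm_num at hq
  have n4' : q ≠ p3 := by rintro rfl; rw [g4p3] at hq; norm_num at hq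
  have h8 : ∑ i, l3 i * d i = 1 * d o + e * d p1 + g4 q * d q := by
    rw [← sum_comb3]
    refine Finset.sum_congr rfl fun i _ => ?_
    rw [key' i]; ring
  rw [h3, hdo] at h8
  have hp1 := hd p1
  have hqq := hd q
  have h9 : g4 q = -e ∧ d q = d p1 + e := by
    rcases he' with h | h <;> rcases hq' with h' | h' <;> rw [h, h'] at h8 ⊢ <;> constructor <;> omega
  refine ⟨q, n1, n2, n3, n4', fun i => ?_, h9.2⟩
  rw [key' i, h9.1]; ring

end Cfsg.Agent.H67.L33
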