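import Cfsg.Agent.H67.L33.Vec2

set_option autoImplicit false

/-!
# Integer vectors with the Gram matrix of the special characters of GL(2, 3), end (helper67)
-/

namespace Cfsg.Agent.H67.L33

variable {I : Type*} [Fintype I] [DecidableEq I]

theorem fifth {l1 l2 l3 l4 d : I → ℤ} {o : I} (hd : ∀ i, 0 < d i) (hdo : d o = 1) (e : ℤ) (p1 p2 p3 q : I) (he : e ^ 2 = 1)
    (h12 : p1 ≠ p2) (h13 : p1 ≠ p3) (h23 : p2 ≠ p3) (hl1 : ∀ i, l1 i = e * D p2 i + (-e) * D p3 i)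
    (hl2 : ∀ i, l2 i = e * D p1 i + (-e) * D p2 i)
    (op1 : o ≠ p1) (op2 : o ≠ p2) (op3 : o ≠ p3) (qo : q ≠ o) (q1 : q ≠ p1) (q2 : q ≠ p2) (q3 : q ≠ p3)
    (hl3 : ∀ i, l3 i = 1 * D o i + e * D p1 i + (-e) * D q i) (ho4 : l4 o = 1)
    (h44 : ∑ i, l4 i ^ 2 = 3) (g14 : ∑ i, l1 i * l4 i = 0) (g24 : ∑ i, l2 i * l4 i = 0) (g34 : ∑ i, l3 i * l4 i = 1)
    (h4 : ∑ i, l4 i * d i = 0) :
    ∃ r s, r ≠ s ∧ r ≠ o ∧ r ≠ p1 ∧ r ≠ p2 ∧ r ≠ p3 ∧ r ≠ q ∧ s ≠ o ∧ s ≠ p1 ∧ s ≠ p2 ∧ s ≠ p3 ∧ s ≠ q ∧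
      (∀ i, l4 i = 1 * D o i + 1 * D r i + (-1) * D s i) ∧ d s = d r + 1 := by
  have he' := pm_one he
  have ne0 : e ≠ 0 := by rcases he' with h | h <;> omega
  have s1 : ∑ i, l1 i * l4 i = e * l4 p2 + (-e) * l4 p3 := by
    simp only [hl1]; exact sum_comb2 _ _ _ _ _
  have s2 : ∑ i, l2 i * l4 i = e * l4 p1 + (-e) * l4 p2 := by
    simp only [hl2]; exact sum_comb2 _ _ _ _ _
  have s3 : ∑ i, l3 i * l4 i = 1 * l4 o + e * l4 p1 + (-e) * l4 q := by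
    simp only [hl3]; exact sum_comb3 _ _ _ _ _ _ _
  rw [g14] at s1
  rw [g24] at s2
  rw [g34, ho4] at s3
  have e23 : l4 p3 = l4 p2 := by
    have : e * (l4 p2 - l4 p3) = 0 := by linear_combination -s1
    rcases mul_eq_zero.mp this with h | h
    · exact absurd h ne0
    · omega
  have e12 : l4 p1 = l4 p2 := by
    have : e * (l4 p1 - l4 p2) = 0 := by linear_combination -s2
    rcases mul_eq_zero.mp this with h | h
    · exact absurd h ne0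
    · omega
  have eq' : l4 q = l4 p2 := by
    have : e * (l4 p1 - l4 q) = 0 := by linear_combination -s3
    rcases mul_eq_zero.mp this with h | h
    · exact absurd h ne0
    · omega
  obtain ⟨g1, k1, -, m1, r1⟩ := peel_ex l4 o 1 ho4
  obtain ⟨g2, k2, -, m2, r2⟩ := peel_ex g1 p2 (l4 p2) (m1 _ op2.symm)
  obtain ⟨g3, k3, -, m3, r3⟩ := peel_ex g2 p3 (l4 p2) (by rw [m2 _ h23.symm, m1 _ op3.symm, e23])
  have n3 := sum_nonneg' g3
  have hy : l4 p2 = 0 := by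
    rw [h44] at r1
    have h : l4 p2 ^ 2 + l4 p2 ^ 2 ≤ 2 := by linarith
    by_contra hne
    have h5 := sq_one_of hne (by nlinarith [sq_nonneg (l4 p2)])
    obtain ⟨g4, -, -, -, r4⟩ := peel_ex g3 p1 (l4 p2) (by rw [m3 _ h13, m2 _ h12, m1 _ op1.symm, e12])
    have n4 := sum_nonneg' g4
    omega
  rw [hy] at e12 e23 eq'
  have g1s : ∑ i, g1 i ^ 2 = 2 := by rw [h44] at r1; linarith
  obtain ⟨r, s, hrs, hr, hs, hg⟩ := norm_two g1s
  have z : ∀ i, l4 i = 0 → i ≠ o → i ≠ r ∧ i ≠ s := by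
    intro i hi hio
    have h5 := m1 i hio
    rw [hi] at h5
    constructor
    · rintro rfl; rw [h5] at hr; norm_num at hr
    · rintro rfl; rw [h5] at hs; norm_num at hs
  have h1o : g1 o = 0 := by
    have := k1 o
    rw [ho4, D_self] at this
    linarith
  have ro : r ≠ o := by rintro rfl; rw [h1o] at hr; norm_num at hr
  have so : s ≠ o := by rintro rfl; rw [h1o] at hs; norm_num at hs
  have z1 := z p1 e12 op1.symm
  have z2 := z p2 hy op2.symm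
  have z3 := z p3 e23 op3.symm
  have z4 := z q eq' qo
  have key : ∀ i, l4 i = 1 * D o i + g1 r * D r i + g1 s * D s i := by
    intro i; rw [k1 i, hg i]; ring
  have h8 : ∑ i, l4 i * d i = 1 * d o + g1 r * d r + g1 s * d s := by
    rw [← sum_comb3]
    refine Finset.sum_congr rfl fun i _ => ?_
    rw [key i]
  rw [h4, hdo] at h8
  have hr' := pm_one hr
  have hs' := pm_one hs
  have hdr := hd r
  have hds := hd s
  rcases hr' with a | a <;> rcases hs' with b | b <;> rw [a, b] at h8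
  · omega
  · exact ⟨r, s, hrs, ro, z1.1.symm, z2.1.symm, z3.1.symm, z4.1.symm, so, z1.2.symm, z2.2.symm, z3.2.symm, z4.2.symm,
      fun i => by rw [key i, a, b], by omega⟩
  · exact ⟨s, r, hrs.symm, so, z1.2.symm, z2.2.symm, z3.2.symm, z4.2.symm, ro, z1.1.symm, z2.1.symm, z3.1.symm, z4.1.symm,
      fun i => by rw [key i, a, b]; ring, by omega⟩
  · omega

theorem sixth {l1 l2 l3 l4 l5 d : I → ℤ} {o : I} (hd : ∀ i, 0 < d i) (hdo : d o = 1) (e : ℤ) (p1 p2 p3 q r s : I) (he : e ^ 2 = 1)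
    (h12 : p1 ≠ p2) (h13 : p1 ≠ p3) (h23 : p2 ≠ p3) (hl1 : ∀ i, l1 i = e * D p2 i + (-e) * D p3 i)
    (hl2 : ∀ i, l2 i = e * D p1 i + (-e) * D p2 i)
    (op1 : o ≠ p1) (op2 : o ≠ p2) (op3 : o ≠ p3) (qo : q ≠ o) (q1 : q ≠ p1) (q2 : q ≠ p2) (q3 : q ≠ p3)
    (hl3 : ∀ i, l3 i = 1 * D o i + e * D p1 i + (-e) * D q i)
    (rs : r ≠ s) (ro : r ≠ o) (r1 : r ≠ p1) (r2 : r ≠ p2) (r3 : r ≠ p3) (rq : r ≠ q)
    (so : s ≠ o) (s1 : s ≠ p1) (s2 : s ≠ p2) (s3 : s ≠ p3) (sq : s ≠ q)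
    (hl4 : ∀ i, l4 i = 1 * D o i + 1 * D r i + (-1) * D s i) (ho5 : l5 o = 0)
    (h55 : ∑ i, l5 i ^ 2 = 3) (g15 : ∑ i, l1 i * l5 i = 0) (g25 : ∑ i, l2 i * l5 i = 1) (g35 : ∑ i, l3 i * l5 i = 1)
    (g45 : ∑ i, l4 i * l5 i = -1) (h5 : ∑ i, l5 i * d i = 0) :
    ∃ (μ : ℤ) (τ : I), μ ^ 2 = 1 ∧ τ ≠ o ∧ τ ≠ p1 ∧ τ ≠ p2 ∧ τ ≠ p3 ∧ τ ≠ q ∧ τ ≠ r ∧ τ ≠ s ∧
      ((∀ i, l5 i = e * D p1 i + 1 * D s i + μ * D τ i) ∨ (∀ i, l5 i = e * D p1 i + (-1) * D r i + μ * D τ i)) := by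
  have he' := pm_one he
  have ne0 : e ≠ 0 := by rcases he' with h | h <;> omega
  have t1 : ∑ i, l1 i * l5 i = e * l5 p2 + (-e) * l5 p3 := by
    simp only [hl1]; exact sum_comb2 _ _ _ _ _
  have t2 : ∑ i, l2 i * l5 i = e * l5 p1 + (-e) * l5 p2 := by
    simp only [hl2]; exact sum_comb2 _ _ _ _ _
  have t3 : ∑ i, l3 i * l5 i = 1 * l5 o + e * l5 p1 + (-e) * l5 q := by
    simp only [hl3]; exact sum_comb3 _ _ _ _ _ _ _
  have t4 : ∑ i, l4 i * l5 i = 1 * l5 o + 1 * l5 r + (-1) * l5 s := by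
    simp only [hl4]; exact sum_comb3 _ _ _ _ _ _ _
  rw [g15] at t1
  rw [g25] at t2
  rw [g35, ho5] at t3
  rw [g45, ho5] at t4
  have e23 : l5 p3 = l5 p2 := by
    have : e * (l5 p2 - l5 p3) = 0 := by linear_combination -t1
    rcases mul_eq_zero.mp this with h | h
    · exact absurd h ne0
    · omega
  have e12 : l5 p1 = l5 p2 + e := by
    have : e * (l5 p1 - l5 p2 - e) = 0 := by linear_combination -t2 - he
    rcases mul_eq_zero.mp this with h | h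
    · exact absurd h ne0
    · omega
  have eq' : l5 q = l5 p2 := by
    have : e * (l5 p1 - l5 q - e) = 0 := by linear_combination -t3 - he
    rcases mul_eq_zero.mp this with h | h
    · exact absurd h ne0
    · omega
  have ers : l5 s = l5 r + 1 := by omega
  obtain ⟨g2, k2, -, m2, n2⟩ := peel_ex l5 p2 (l5 p2) rfl
  obtain ⟨g3, k3, -, m3, n3⟩ := peel_ex g2 p3 (l5 p2) (by rw [m2 _ h23.symm, e23])
  obtain ⟨g4, k4, -, m4, n4⟩ := peel_ex g3 q (l5 p2) (by rw [m3 _ q3, m2 _ q2, eq'])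
  obtain ⟨g5, k5, z5, m5, n5⟩ := peel_ex g4 p1 (l5 p2 + e) (by rw [m4 _ q1.symm, m3 _ h13, m2 _ h12, e12])
  obtain ⟨g6, k6, z6, m6, n6⟩ := peel_ex g5 r (l5 r) (by rw [m5 _ r1, m4 _ rq, m3 _ r3, m2 _ r2])
  obtain ⟨g7, k7, z7, m7, n7⟩ := peel_ex g6 s (l5 r + 1) (by rw [m6 _ rs.symm, m5 _ s1, m4 _ sq, m3 _ s3, m2 _ s2, ers])
  have n8 := sum_nonneg' g7
  have tot : 3 * l5 p2 ^ 2 + (l5 p2 + e) ^ 2 + l5 r ^ 2 + (l5 r + 1) ^ 2 + ∑ i, g7 i ^ 2 = 3 := by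
    rw [h55] at n2
    linarith
  have hur : 1 ≤ l5 r ^ 2 + (l5 r + 1) ^ 2 := by
    rcases le_or_gt 0 (l5 r) with h | h
    · nlinarith
    · nlinarith
  have hy : l5 p2 = 0 := by
    have h6 : 3 * l5 p2 ^ 2 ≤ 2 := by nlinarith [sq_nonneg (l5 p2 + e)]
    by_contra hne
    have : 1 ≤ l5 p2 ^ 2 := by
      rcases lt_or_gt_of_ne hne with h | h <;> nlinarith
    omega
  have hu : l5 r = 0 ∨ l5 r = -1 := by
    rw [hy, zero_add, he] at tot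
    have h6 : l5 r ^ 2 + (l5 r + 1) ^ 2 ≤ 2 := by omega
    have h7 : l5 r ≤ 0 := by nlinarith
    have h8 : -1 ≤ l5 r := by nlinarith
    omega
  have h7s : ∑ i, g7 i ^ 2 = 1 := by
    rw [hy, zero_add, he] at tot
    rcases hu with h | h <;> rw [h] at tot <;> omega
  obtain ⟨τ, hτ, hg⟩ := norm_one h7s
  have key : ∀ i, l5 i = e * D p1 i + l5 r * D r i + (l5 r + 1) * D s i + g7 τ * D τ i := by
    intro i
    have h6 := k2 i
    rw [k3 i, k4 i, k5 i, k6 i, k7 i, hg i, hy] at h6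
    rw [h6]; ring
  have nn : ∀ i, g7 i = 0 → τ ≠ i := by
    intro i hi h
    rw [h, hi] at hτ
    norm_num at hτ
  have g7s : g7 s = 0 := z7
  have g7r : g7 r = 0 := by rw [m7 _ rs, z6]
  have g7p1 : g7 p1 = 0 := by rw [m7 _ s1.symm, m6 _ r1.symm, z5]
  have g7q : g7 q = 0 := by
    rw [m7 _ sq.symm, m6 _ rq.symm, m5 _ q1]
    have h6 := k2 q
    rw [k3 q, k4 q, eq', hy, D_self] at h6
    linarith
  have g7p2 : g7 p2 = 0 := by
    rw [m7 _ s2.symm, m6 _ r2.symm, m5 _ h12.symm]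
    have h6 := k2 p2
    rw [k3 p2, k4 p2, hy] at h6
    linarith
  have g7p3 : g7 p3 = 0 := by
    rw [m7 _ s3.symm, m6 _ r3.symm, m5 _ h13.symm]
    have h6 := k2 p3
    rw [k3 p3, k4 p3, e23, hy] at h6
    linarith
  have g7o : g7 o = 0 := by
    rw [m7 _ so.symm, m6 _ ro.symm, m5 _ op1, m4 _ qo.symm, m3 _ op3, m2 _ op2, ho5]
  refine ⟨g7 τ, τ, hτ, nn _ g7o, nn _ g7p1, nn _ g7p2, nn _ g7p3, nn _ g7q, nn _ g7r, nn _ g7s, ?_⟩
  rcases hu with h | h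
  · left; intro i; rw [key i, h]; ring
  · right; intro i; rw [key i, h]; ring

end Cfsg.Agent.H67.L33
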